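import Cfsg.Agent.GenDih45.Elem
import Cfsg.Agent.Lib.PGroup.Basic

/-!
# The abelian part contains two involutions
-/

set_option autoImplicit false
set_option maxHeartbeats 800000

namespace Cfsg.Agent.GenDih45

open Subgroup

universe u

variable {G : Type u} [Group G] [Finite G] {H A : Subgroup G}

theorem not_isConj_of_two (h : DH H A)
    (hC : ∀ a ∈ A, orderOf a = 2 → cent a = H) {z₁ z₂ : G} (hz₁ : z₁ ∈ A) (hz₂ : z₂ ∈ A)
    (h₁ : orderOf z₁ = 2) (h₂ : orderOf z₂ = 2) (hne : z₁ ≠ z₂) {x a : G} (hx : x ∈ H) (hxA : x ∉ A)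
    (ha : a ∈ A) (ha2 : orderOf a = 2) : ¬ IsConj a x := by
  intro hax
  obtain ⟨g, hg⟩ := isConj_iff.mp hax
  have key : ∀ z ∈ A, orderOf z = 2 → g⁻¹ * z * g ∈ H ∧ orderOf (g⁻¹ * z * g) = 2 := by
    intro z hz hz2
    refine ⟨hC a ha ha2 ▸ mem_cent.mpr ?_, by simpa using (orderOf_conj' g⁻¹ z).trans hz2⟩
    have hzx : z * x = x * z := (h.central_of_involution hz (mul_self_of_two hz2) hx).symm
    calc g⁻¹ * z * g * a = g⁻¹ * (z * (g * a * g⁻¹)) * g := by group
      _ = g⁻¹ * (x * z) * g := by rw [hg, hzx]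
      _ = _ := by rw [← hg]; group
  -- some involution of `A` is carried into `A`
  obtain ⟨z, hz, hz2, hzA⟩ : ∃ z ∈ A, orderOf z = 2 ∧ g⁻¹ * z * g ∈ A := by
    by_cases e₁ : g⁻¹ * z₁ * g ∈ A
    · exact ⟨z₁, hz₁, h₁, e₁⟩
    by_cases e₂ : g⁻¹ * z₂ * g ∈ A
    · exact ⟨z₂, hz₂, h₂, e₂⟩
    refine ⟨z₁ * z₂, mul_mem hz₁ hz₂, orderOf_two_of ?_ ?_, ?_⟩
    · calc z₁ * z₂ * (z₁ * z₂) = z₁ * (z₂ * z₁) * z₂ := by group
        _ = (z₁ * z₁) * (z₂ * z₂) := by rw [h.comm z₂ hz₂ z₁ hz₁]; group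
        _ = 1 := by rw [mul_self_of_two h₁, mul_self_of_two h₂, one_mul]
    · intro e
      exact hne (by rw [← inv_of_two h₂]; exact eq_inv_of_mul_eq_one_left e)
    · have := h.mul _ _ (key z₁ hz₁ h₁).1 e₁ (key z₂ hz₂ h₂).1 e₂
      rwa [show g⁻¹ * z₁ * g * (g⁻¹ * z₂ * g) = g⁻¹ * (z₁ * z₂) * g by group] at this
  -- then `g` normalises `H`
  set u := g⁻¹ * z * g with hu
  have hu2 : orderOf u = 2 := (key z hz hz2).2
  apply hxA
  have hcen : ∀ y ∈ H, y * x = x * y := by
    intro y hy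
    have hyz : y * z = z * y := h.central_of_involution hz (mul_self_of_two hz2) hy
    have h1 : g⁻¹ * y * g ∈ H := hC u hzA hu2 ▸ mem_cent.mpr (by
      rw [hu]
      calc g⁻¹ * y * g * (g⁻¹ * z * g) = g⁻¹ * (y * z) * g := by group
        _ = _ := by rw [hyz]; group)
    have h3 := h.central_of_involution ha (mul_self_of_two ha2) h1
    calc y * x = g * (g⁻¹ * y * g * a) * g⁻¹ := by rw [← hg]; group
      _ = _ := by rw [h3, ← hg]; group
  by_contra hxA'
  obtain ⟨y, hy, hyy⟩ := h.nonel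
  have h1 := (h.out x hx hxA').2 y hy
  rw [← hcen y (h.le hy), mul_inv_cancel_right] at h1
  exact hyy (eq_inv_iff_mul_eq_one.mp h1)

theorem manyInv (h : DH H A) (hC : ∀ a ∈ A, orderOf a = 2 → cent a = H)
    {z₁ z₂ : G} (hz₁ : z₁ ∈ A) (hz₂ : z₂ ∈ A) (h₁ : orderOf z₁ = 2) (h₂ : orderOf z₂ = 2)
    (hne : z₁ ≠ z₂) (hns : ¬ Group.IsSolvable G) :
    ∃ (N : Subgroup G) (_ : N.Normal), (∃ m : ℕ, Odd m ∧ Nat.card N = 2 * m) ∧
      ∃ (F : Type) (_ : Field F) (_ : Fintype F), 3 < Fintype.card F ∧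
        Nonempty (G ⧸ N ≃* Matrix.ProjectiveSpecialLinearGroup (Fin 2) F) := by
  haveI : Fact (Nat.Prime 2) := ⟨Nat.prime_two⟩
  have hnc := fun {x a : G} => not_isConj_of_two h hC hz₁ hz₂ h₁ h₂ hne (x := x) (a := a)
  obtain ⟨S⟩ := (inferInstance : Nonempty (Sylow 2 H))
  set V := (S : Subgroup H).map H.subtype with hV
  have hVH : V ≤ H := map_subtype_le _
  have hAinv : ∀ a ∈ A, orderOf a = 2 → a ∈ V := by
    intro a ha ha2
    obtain ⟨c, hc⟩ := involution_conj_sylow S (t := (⟨a, h.le ha⟩ : H))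
      (by rw [Subgroup.orderOf_mk, ha2])
    have h1 : (c : G) * a * (c : G)⁻¹ ∈ V := ⟨_, hc, rfl⟩
    rwa [h.central_of_involution ha (mul_self_of_two ha2) c.2, mul_inv_cancel_right] at h1
  obtain ⟨P, hP⟩ := (S.2.map H.subtype).exists_le_sylow
  -- `H` contains a Sylow subgroup of the group
  have hPH : (P : Subgroup G) ≤ H := by
    have hPV : (P : Subgroup G) ⊓ H ≤ V := by
      intro x hx
      have h1 : ((P : Subgroup G) ⊓ H).subgroupOf H = (S : Subgroup H) := by
        refine S.3 ((P.2.to_le inf_le_left).comap_of_injective _ H.subtype_injective) (fun t ht => ?_)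
        exact ⟨hP ⟨t, ht, rfl⟩, t.2⟩
      exact ⟨⟨x, hx.2⟩, (h1 ▸ mem_subgroupOf.mpr hx : (⟨x, hx.2⟩ : H) ∈ (S : Subgroup H)), rfl⟩
    by_contra hnle
    have hlt : V < (P : Subgroup G) := lt_of_le_of_ne hP fun e => hnle (e ▸ hVH)
    obtain ⟨g, hg, hgV⟩ := SetLike.exists_of_lt (lt_inf_normalizer P.2 hlt)
    set R := (P : Subgroup G) ⊓ normalizer (V : Set G) with hR
    let W : Subgroup R :=
      { carrier := {w | (w : G) ∈ A ∧ (w : G) * w = 1}
        one_mem' := ⟨one_mem A, one_mul _⟩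
        inv_mem' := fun {w} hw => ⟨inv_mem hw.1, by
          show ((w : G))⁻¹ * (w : G)⁻¹ = 1
          rw [← mul_inv_rev, hw.2, inv_one]⟩
        mul_mem' := fun {v w} hv hw => ⟨mul_mem hv.1 hw.1, by
          show (v : G) * w * ((v : G) * w) = 1
          calc (v : G) * w * ((v : G) * w) = v * ((w : G) * v) * w := by group
            _ = ((v : G) * v) * ((w : G) * w) := by rw [h.comm _ hw.1 _ hv.1]; group
            _ = 1 := by rw [hv.2, hw.2, one_mul]⟩ }
    have hWn : W.Normal := ⟨fun w hw r => by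
      by_cases hw1 : (w : G) = 1
      · rw [show w = 1 from Subtype.ext hw1, mul_one, mul_inv_cancel]; exact one_mem W
      have hwo : orderOf (w : G) = 2 := orderOf_two_of hw.2 hw1
      have hrw : (r : G) * w * (r : G)⁻¹ ∈ V :=
        (mem_normalizer_iff.mp r.2.2 _).mp (hAinv _ hw.1 hwo)
      refine ⟨?_, mul_self_of_two (e := (r : G) * w * (r : G)⁻¹) (by rw [orderOf_conj', hwo])⟩
      by_contra hA
      exact hnc (hVH hrw) hA hw.1 hwo (isConj_iff.mpr ⟨r, rfl⟩)⟩
    have hz₁R : z₁ ∈ R := ⟨hP (hAinv z₁ hz₁ h₁), le_normalizer (hAinv z₁ hz₁ h₁)⟩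
    have hWne : W ≠ ⊥ := fun e => by
      have h0 : (⟨z₁, hz₁R⟩ : R) ∈ W := ⟨hz₁, mul_self_of_two h₁⟩
      rw [e, mem_bot] at h0
      exact ne_one_of_two h₁ (congrArg Subtype.val h0)
    haveI := hWn
    obtain ⟨w, hw, hw1⟩ := (bot_or_exists_ne_one _).resolve_left
      (PGroup.inf_center_ne_bot (p := 2) (P.2.to_le inf_le_left : IsPGroup 2 R) hWne)
    apply hgV
    refine hPV ⟨hg.1, hC _ hw.1.1 (orderOf_two_of hw.1.2 fun e => hw1 (Subtype.ext e)) ▸
      mem_cent.mpr ?_⟩
    exact congrArg Subtype.val (mem_center_iff.mp hw.2 ⟨g, hg⟩)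
  have hinP : ∀ a ∈ A, orderOf a = 2 → a ∈ (P : Subgroup G) := fun a ha ha2 => hP (hAinv a ha ha2)
  -- the intersection of the normal subgroups of index two
  set G₀ : Subgroup G := sInf {M | M.Normal ∧ M.index = 2} with hG₀
  have hG₀mem : ∀ x, x ∈ G₀ ↔ ∀ M : Subgroup G, M.Normal → M.index = 2 → x ∈ M := fun x => by
    rw [hG₀, mem_sInf]
    exact ⟨fun e M h1 h2 => e M ⟨h1, h2⟩, fun e M hM => e M hM.1 hM.2⟩
  have hG₀n : G₀.Normal := ⟨fun x hx g => (hG₀mem _).mpr fun M h1 h2 =>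
    h1.conj_mem x ((hG₀mem x).mp hx M h1 h2) g⟩
  haveI := hG₀n
  have hG₀odd : ∀ x, Odd (orderOf x) → x ∈ G₀ := fun x hx =>
    (hG₀mem x).mpr fun M _ h2 => mem_of_index_two_of_odd h2 hx
  have hG₀sq : ∀ x, x * x ∈ G₀ := fun x => (hG₀mem _).mpr fun M _ h2 => mul_self_mem_of_index_two h2 x
  have hns₀ : ¬ Group.IsSolvable G₀ := fun e => hns (by
    refine isSolvable_of_extension G₀ e (Group.isSolvable_of_comm fun a b => ?_)
    induction a using QuotientGroup.induction_on with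
    | _ a =>
    induction b using QuotientGroup.induction_on with
    | _ b =>
    rw [← QuotientGroup.mk_mul, ← QuotientGroup.mk_mul, QuotientGroup.eq]
    have e1 : (a * b)⁻¹ * (b * a) = (a * b)⁻¹ * (a * b)⁻¹ * ((a * b * a⁻¹) * (a * b * a⁻¹)) *
        (a * a) := by group
    rw [e1]
    refine mul_mem (mul_mem ?_ (hG₀sq _)) (hG₀sq _)
    exact hG₀sq _)
  -- transfer
  have hQi : ((P : Subgroup G) ⊓ A).relIndex (P : Subgroup G) = 2 ∨ (P : Subgroup G) ≤ A := by
    by_cases hle : (P : Subgroup G) ≤ A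
    · exact Or.inr hle
    left
    obtain ⟨x, hxP, hxA⟩ := SetLike.not_le_iff_exists.mp hle
    refine relIindex_eq_two_iff'.mpr ⟨x, hxP, fun y hy => ?_⟩
    by_cases hyA : y ∈ A
    · refine Or.inr ⟨⟨hy, hyA⟩, fun e => hxA ?_⟩
      have e2 : x * y ∈ A := e.2
      simpa using mul_mem e2 (inv_mem hyA)
    · exact Or.inl ⟨⟨mul_mem hxP hy, h.mul x y (hPH hxP) hxA (hPH hy) hyA⟩, fun e => hyA e.2⟩
  have hout : ∀ x ∈ (P : Subgroup G), x ∉ A → x ∉ G₀ := by
    intro x hxP hxA hx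
    have hQi' := hQi.resolve_right fun hle => hxA (hle hxP)
    obtain ⟨M, hMn, hMi, hxM⟩ := Involution.thompson_transfer P _ inf_le_left hQi'
      (h.out x (hPH hxP) hxA).1 fun g hg => by
        have hx2 : orderOf x = 2 :=
          orderOf_two_of (h.out x (hPH hxP) hxA).1 fun e => hxA (e ▸ one_mem A)
        exact hnc (hPH hxP) hxA hg.2 (by rw [orderOf_conj', hx2])
          (isConj_iff.mpr ⟨g, rfl⟩ : IsConj x _).symm
    exact hxM ((hG₀mem x).mp hx M hMn hMi)
  have hG₀inv : ∀ u ∈ G₀, orderOf u = 2 → ∃ g : G, g * u * g⁻¹ ∈ A := by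
    intro u hu hu2
    obtain ⟨g, hg⟩ := involution_conj_sylow P hu2
    exact ⟨g, by_contra fun e => hout _ hg e (hG₀n.conj_mem u hu g)⟩
  have hHG₀ : ∀ y ∈ H, y ∈ G₀ → y ∈ A := by
    intro y hy hy₀
    by_contra hyA
    have hy2 : orderOf y = 2 := orderOf_two_of (h.out y hy hyA).1 fun e => hyA (e ▸ one_mem A)
    obtain ⟨g, hg⟩ := hG₀inv y hy₀ hy2
    exact hnc hy hyA hg (by rw [orderOf_conj', hy2]) (isConj_iff.mpr ⟨g, rfl⟩ : IsConj y _).symm
  have hcentG : ∀ u ∈ G₀, orderOf u = 2 → ∀ g, g * u * g⁻¹ ∈ A → ∀ c, c * u = u * c →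
      g * c * g⁻¹ ∈ H := by
    intro u _ hu2 g hg c hc
    refine hC _ hg (by rw [orderOf_conj', hu2]) ▸ mem_cent.mpr ?_
    calc g * c * g⁻¹ * (g * u * g⁻¹) = g * (c * u) * g⁻¹ := by group
      _ = _ := by rw [hc]; group
  have heven₀ : Even (Nat.card G₀) := Nat.not_odd_iff_even.mp fun e => hns₀ (isSolvable_of_odd e)
  obtain ⟨F, iF, iF', B, iB, iB', hchar, hB, hq, ⟨e⟩⟩ := abelian_case (G := G₀) heven₀ (by
    intro t ht
    rw [← Subgroup.orderOf_coe] at ht
    obtain ⟨g, hg⟩ := hG₀inv t t.2 ht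
    refine ⟨⟨fun a b => Subtype.ext (Subtype.ext ?_)⟩⟩
    have hm : ∀ c : centralizer ({t} : Set G₀), g * ((c : G₀) : G) * g⁻¹ ∈ A := fun c =>
      hHG₀ _ (hcentG t t.2 ht g hg _
        (congrArg Subtype.val (mem_centralizer_singleton_iff.mp c.2)))
        (hG₀n.conj_mem _ (c : G₀).2 g)
    refine (MulAut.conj g).injective ?_
    have h1 := h.comm _ (hm a) _ (hm b)
    show g * (((a : G₀) : G) * (b : G₀)) * g⁻¹ = g * (((b : G₀) : G) * (a : G₀)) * g⁻¹
    calc g * (((a : G₀) : G) * (b : G₀)) * g⁻¹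
        = (g * ((a : G₀) : G) * g⁻¹) * (g * ((b : G₀) : G) * g⁻¹) := by group
      _ = _ := by rw [h1]; group) hns₀
  haveI := hchar
  -- the derived subgroup `L ≅ SL(2, q)`
  let fst : G₀ →* Matrix.SpecialLinearGroup (Fin 2) F :=
    (MonoidHom.fst _ _).comp e.toMonoidHom
  set L₀ : Subgroup G₀ := ((MonoidHom.snd (Matrix.SpecialLinearGroup (Fin 2) F) B).comp
    e.toMonoidHom).ker with hL₀
  set L : Subgroup G := L₀.map G₀.subtype with hL
  have hL₀e : ∀ g : G₀, g ∈ L₀ ↔ (e g).2 = 1 := fun g => Iff.rfl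
  have hLG₀ : L ≤ G₀ := map_subtype_le _
  have hLmem : ∀ g : G, g ∈ L ↔ ∃ hg : g ∈ G₀, (e ⟨g, hg⟩).2 = 1 := fun g =>
    ⟨fun ⟨y, hy, e'⟩ => e' ▸ ⟨y.2, (hL₀e y).mp hy⟩, fun ⟨hg, hh⟩ => ⟨⟨g, hg⟩, (hL₀e _).mpr hh, rfl⟩⟩
  have hLn : L.Normal := by
    refine ⟨fun x hx g => ?_⟩
    obtain ⟨y, hy, rfl⟩ := hx
    -- `L₀` is the derived subgroup of `G₀`
    have hder : L₀ = commutator G₀ := by
      refine le_antisymm (fun a ha => ?_) (Abelianization.commutator_subset_ker _)
      have h1 : (e a).1 ∈ commutator (Matrix.SpecialLinearGroup (Fin 2) F) := by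
        rw [sl_perfect hq]; exact mem_top _
      let inl' : Matrix.SpecialLinearGroup (Fin 2) F →* G₀ :=
        e.symm.toMonoidHom.comp (MonoidHom.inl _ B)
      have h2 : inl' (e a).1 ∈ commutator G₀ :=
        (show (commutator (Matrix.SpecialLinearGroup (Fin 2) F)).map inl' ≤ commutator G₀ by
          rw [_root_.commutator_def, _root_.commutator_def, map_commutator]
          exact commutator_mono le_top le_top) (mem_map_of_mem inl' h1)
      rwa [show inl' (e a).1 = a from e.injective (by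
        show e (e.symm ((e a).1, 1)) = e a
        rw [MulEquiv.apply_symm_apply]
        exact Prod.ext rfl ((hL₀e a).mp ha).symm)] at h2
    refine ⟨MulAut.conjNormal g y, ?_, rfl⟩
    rw [hder] at hy ⊢
    have hchr : (commutator G₀).Characteristic := by rw [_root_.commutator_def]; infer_instance
    exact (hchr.fixed (MulAut.conjNormal g)).ge hy
  haveI := hLn
  have hL2 : ∀ g : G, g ∈ G₀ → (∃ k, g ^ 2 ^ k = 1) → g ∈ L := by
    rintro g hg ⟨k, hk⟩
    refine (hLmem g).mpr ⟨hg, ?_⟩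
    have h1 : (e ⟨g, hg⟩).2 ^ 2 ^ k = 1 := by
      rw [← Prod.pow_snd, ← map_pow, show (⟨g, hg⟩ : G₀) ^ 2 ^ k = 1 from Subtype.ext hk, map_one]
      rfl
    apply orderOf_eq_one_iff.mp
    obtain ⟨i, -, hi⟩ := (Nat.dvd_prime_pow Nat.prime_two).mp (orderOf_dvd_of_pow_eq_one h1)
    have hodd := hB.of_dvd_nat (orderOf_dvd_natCard (e ⟨g, hg⟩).2)
    rw [hi] at hodd ⊢
    rcases i with _ | i
    · rfl
    · exact absurd hodd (by simp [Nat.even_pow, ← Nat.not_even_iff_odd])
  -- `L` is isomorphic to `SL(2, q)`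
  let eL₀ : L₀ ≃* Matrix.SpecialLinearGroup (Fin 2) F :=
    { toFun := fun y => (e y).1
      invFun := fun s => ⟨e.symm (s, 1), (hL₀e _).mpr (by rw [MulEquiv.apply_symm_apply])⟩
      left_inv := fun y => Subtype.ext (e.injective (by
        rw [MulEquiv.apply_symm_apply]
        exact Prod.ext rfl ((hL₀e _).mp y.2).symm))
      right_inv := fun s => by simp
      map_mul' := fun a b => by simp }
  let eL : L ≃* Matrix.SpecialLinearGroup (Fin 2) F :=
    (L₀.equivMapOfInjective G₀.subtype G₀.subtype_injective).symm.trans eL₀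
  have hnsL : ¬ Group.IsSolvable L := fun hs => by
    haveI := hs
    haveI : Group.IsSolvable (Matrix.SpecialLinearGroup (Fin 2) F) :=
      Group.isSolvable_of_surjective (f := eL.toMonoidHom) eL.surjective
    haveI := Group.isSolvable_of_comm (fun a b : B => mul_comm a b)
    exact hns₀ (Group.isSolvable_of_isSolvable_injective (f := e.toMonoidHom) e.injective)
  -- its Sylow subgroup
  set T := (P : Subgroup G) ⊓ L with hT
  have hPel : ∀ g ∈ (P : Subgroup G), ∃ k, g ^ 2 ^ k = 1 := fun g hg => by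
    obtain ⟨k, hk⟩ := P.2 ⟨g, hg⟩
    exact ⟨k, congrArg Subtype.val hk⟩
  have hTA : T ≤ A := fun t ht => hHG₀ t (hPH ht.1) (hLG₀ ht.2)
  have hTel : ∀ t ∈ T, t * t = 1 := by
    intro t ht
    obtain ⟨k, hk⟩ := hPel t ht.1
    have h1 : eL ⟨t, ht.2⟩ * eL ⟨t, ht.2⟩ = 1 := sl_two_element_sq (k := k) (by
      rw [← map_pow, show (⟨t, ht.2⟩ : L) ^ 2 ^ k = 1 from Subtype.ext hk, map_one])
    rw [← map_mul, ← map_one eL] at h1
    exact congrArg Subtype.val (eL.injective h1)
  have hinvT : ∀ u ∈ L, orderOf u = 2 → ∃ g ∈ L, g * u * g⁻¹ ∈ T := by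
    intro u hu hu2
    obtain ⟨SL⟩ := (inferInstance : Nonempty (Sylow 2 L))
    -- move a Sylow subgroup of `L` into `P`
    obtain ⟨g, hg⟩ := sylow_two_conj P (SL.2.map L.subtype)
    have hp : IsPGroup 2 (T.subgroupOf L) :=
      (P.2.to_le inf_le_left).comap_of_injective _ L.subtype_injective
    obtain ⟨S', hS'⟩ := hp.exists_le_sylow
    have hS'T : (S' : Subgroup L) = T.subgroupOf L := by
      refine (eq_of_le_of_card_ge hS' ?_).symm
      rw [S'.card_eq_multiplicity, ← SL.card_eq_multiplicity,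
        Nat.card_congr (subgroupOfEquivOfLe (inf_le_right : T ≤ L)).toEquiv]
      exact Nat.card_le_card_of_injective (fun s : (SL : Subgroup L) =>
        (⟨g * ((s : L) : G) * g⁻¹, hg _ ⟨s, s.2, rfl⟩, hLn.conj_mem _ (s : L).2 g⟩ : T))
        fun a b e' => Subtype.ext (Subtype.ext ((MulAut.conj g).injective (congrArg Subtype.val e')))
    obtain ⟨l, hl⟩ := involution_conj_sylow S' (t := (⟨u, hu⟩ : L)) (by rw [Subgroup.orderOf_mk, hu2])
    rw [hS'T] at hl
    exact ⟨l, l.2, hl⟩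
  have hTne : ∃ t ∈ T, orderOf t = 2 := by
    obtain ⟨u, hu, hu2⟩ := Involution.exists_involution_of_even (H := L)
      (Nat.not_odd_iff_even.mp fun e' => hnsL (isSolvable_of_odd e'))
    obtain ⟨g, -, hg⟩ := hinvT u hu hu2
    exact ⟨_, hg, by rw [orderOf_conj', hu2]⟩
  obtain ⟨t₀, ht₀, ht₀2⟩ := hTne
  -- an element centralising a nontrivial element of `T` lies in `H`
  have hTH : ∀ t ∈ T, t ≠ 1 → ∀ x, x * t = t * x → x ∈ H := fun t ht ht1 x hx =>
    hC t (hTA ht) (orderOf_two_of (hTel t ht) ht1) ▸ mem_cent.mpr hx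
  have hHT : ∀ x ∈ H, ∀ t ∈ T, x * t = t * x := fun x hx t ht =>
    h.central_of_involution (hTA ht) (hTel t ht) hx
  have hspread : ∀ g x, ∀ t ∈ T, t ≠ 1 → x * (g * t * g⁻¹) = g * t * g⁻¹ * x →
      ∀ s ∈ T, x * (g * s * g⁻¹) = g * s * g⁻¹ * x := by
    intro g x t ht ht1 hx s hs
    have h1 : g⁻¹ * x * g ∈ H := hTH t ht ht1 _ (by
      calc g⁻¹ * x * g * t = g⁻¹ * (x * (g * t * g⁻¹)) * g := by group
        _ = _ := by rw [hx]; group)
    calc x * (g * s * g⁻¹) = g * ((g⁻¹ * x * g) * s) * g⁻¹ := by group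
      _ = _ := by rw [hHT _ h1 s hs]; group
  have hTn : ∀ g ∈ normalizer (T : Set G), ∀ t ∈ T, g * t * g⁻¹ ∈ T := fun g hg t ht =>
    (mem_normalizer_iff.mp hg t).mp ht
  -- two conjugates of `T` generate `L`
  have hgen : ∀ g ∈ L, T.map (MulAut.conj g).toMonoidHom ≠ T →
      T ⊔ T.map (MulAut.conj g).toMonoidHom = L := by
    intro g hgL hgT
    set T' := T.map (MulAut.conj g).toMonoidHom with hT'
    set M := T ⊔ T' with hM
    have hT'L : T' ≤ L := by
      rintro _ ⟨t, ht, rfl⟩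
      exact mul_mem (mul_mem hgL ht.2) (inv_mem hgL)
    have hML : M ≤ L := sup_le inf_le_right hT'L
    have hsylTM : ∀ U : Subgroup G, U ≤ M → Nat.card U = Nat.card T → IsPGroup 2 U →
        ∃ S : Sylow 2 M, (S : Subgroup M) = U.subgroupOf M := by
      intro U hU hUc hUp
      obtain ⟨S, hS⟩ := (hUp.comap_of_injective _ M.subtype_injective :
        IsPGroup 2 (U.subgroupOf M)).exists_le_sylow
      refine ⟨S, (eq_of_le_of_card_ge hS ?_).symm⟩
      show Nat.card (S : Subgroup M) ≤ Nat.card (U.subgroupOf M)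
      rw [Nat.card_congr (subgroupOfEquivOfLe hU).toEquiv, hUc]
      obtain ⟨k, hk⟩ := sylow_two_conj P (S.2.map M.subtype)
      exact Nat.card_le_card_of_injective (fun s : (S : Subgroup M) =>
        (⟨k * ((s : M) : G) * k⁻¹, hk _ ⟨s, s.2, rfl⟩,
          hLn.conj_mem _ (hML (s : M).2) k⟩ : T))
        fun a b e' => Subtype.ext (Subtype.ext ((MulAut.conj k).injective (congrArg Subtype.val e')))
    have hTp : IsPGroup 2 T := P.2.to_le inf_le_left
    obtain ⟨S₁, hS₁⟩ := hsylTM T le_sup_left rfl hTp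
    obtain ⟨S₂, hS₂⟩ := hsylTM T' le_sup_right
      (card_map_of_injective (MulAut.conj g).injective) (hTp.map _)
    have hinvab : ∀ u : M, orderOf u = 2 → IsMulCommutative ↥(centralizer ({u} : Set M)) := by
      intro u hu
      rw [← Subgroup.orderOf_coe] at hu
      obtain ⟨k, -, hk⟩ := hinvT u (hML u.2) hu
      refine ⟨⟨fun a b => Subtype.ext (Subtype.ext ?_)⟩⟩
      have hm : ∀ c : centralizer ({u} : Set M), k * ((c : M) : G) * k⁻¹ ∈ A := fun c =>
        hHG₀ _ (hcentG u (hLG₀ (hML u.2)) hu k (hTA hk) _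
          (congrArg Subtype.val (mem_centralizer_singleton_iff.mp c.2)))
          (hG₀n.conj_mem _ (hLG₀ (hML (c : M).2)) k)
      refine (MulAut.conj k).injective ?_
      have h1 := h.comm _ (hm a) _ (hm b)
      show k * (((a : M) : G) * (b : M)) * k⁻¹ = k * (((b : M) : G) * (a : M)) * k⁻¹
      calc k * (((a : M) : G) * (b : M)) * k⁻¹
          = (k * ((a : M) : G) * k⁻¹) * (k * ((b : M) : G) * k⁻¹) := by group
        _ = _ := by rw [h1]; group
    have heM : Even (Nat.card M) :=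
      Involution.even_card_of_involution (le_sup_left (b := T') ht₀) ht₀2
    rcases S2202.result (G := M) heM hinvab with hc | hn | ⟨F', iF₂, iF₂', B', iB₂, iB₂', hchar', hB', ⟨e'⟩⟩
    · exfalso
      haveI := hc S₁
      -- the elementary group `T` has at least four elements
      have hcard : Nat.card T ≤ 2 := by
        haveI : IsCyclic T := (subgroupOfEquivOfLe (le_sup_left : T ≤ M)).isCyclic.mp
          (hS₁ ▸ (inferInstance : IsCyclic (S₁ : Subgroup M)))
        obtain ⟨c, hc⟩ := IsCyclic.exists_generator (α := T)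
        rw [← orderOf_eq_card_of_forall_mem_zpowers hc]
        exact Nat.le_of_dvd two_pos (orderOf_dvd_of_pow_eq_one (Subtype.ext (by
          rw [Subgroup.coe_pow, pow_two]; exact hTel c c.2)))
      obtain ⟨S', hS'⟩ : ∃ S' : Sylow 2 L, (S' : Subgroup L) = T.subgroupOf L := by
        obtain ⟨S', hS'⟩ := (hTp.comap_of_injective _ L.subtype_injective :
          IsPGroup 2 (T.subgroupOf L)).exists_le_sylow
        refine ⟨S', (eq_of_le_of_card_ge hS' ?_).symm⟩
        show Nat.card (S' : Subgroup L) ≤ Nat.card (T.subgroupOf L)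
        rw [Nat.card_congr (subgroupOfEquivOfLe (inf_le_right : T ≤ L)).toEquiv]
        obtain ⟨k, hk⟩ := sylow_two_conj P (S'.2.map L.subtype)
        exact Nat.card_le_card_of_injective (fun s : (S' : Subgroup L) =>
          (⟨k * ((s : L) : G) * k⁻¹, hk _ ⟨s, s.2, rfl⟩, hLn.conj_mem _ (s : L).2 k⟩ : T))
          fun a b e' => Subtype.ext (Subtype.ext ((MulAut.conj k).injective (congrArg Subtype.val e')))
      refine hnsL (isSolvable_of_cyclic_sylow S' ?_)
      obtain ⟨n, hn⟩ := IsPGroup.iff_card.mp S'.2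
      have hn2 : Nat.card S' ≤ 2 := by
        rw [hS', Nat.card_congr (subgroupOfEquivOfLe (inf_le_right : T ≤ L)).toEquiv]; exact hcard
      rw [hn] at hn2
      rcases n with _ | _ | n
      · haveI : Subsingleton (S' : Subgroup L) := (Nat.card_eq_one_iff_unique.mp (by simpa using hn)).1
        exact isCyclic_of_subsingleton
      · exact isCyclic_of_prime_card (p := 2) (by simpa using hn)
      · exfalso; rw [pow_succ, pow_succ] at hn2
        have := Nat.one_le_two_pow (n := n); omega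
    · exfalso
      haveI := hn S₁
      have h12 : (S₂ : Subgroup M) = S₁ := by
        obtain ⟨c, hc⟩ := MulAction.exists_smul_eq M S₁ S₂
        rw [← hc, Sylow.coe_subgroup_smul]
        exact Subgroup.Normal.conj_smul_eq_self c _
      rw [hS₁, hS₂, subgroupOf_inj, inf_eq_left.mpr (le_sup_right : T' ≤ M),
        inf_eq_left.mpr (le_sup_left : T ≤ M)] at h12
      exact hgT h12
    · haveI := hchar'
      have hq' : Fintype.card F' = Fintype.card F := by
        have h1 := card_two_part (F := F') (B := B') hB'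
        rw [← Nat.card_congr e'.toEquiv, ← S₁.card_eq_multiplicity, hS₁,
          Nat.card_congr (subgroupOfEquivOfLe (le_sup_left : T ≤ M)).toEquiv] at h1
        obtain ⟨SL, hSL⟩ := (hTp.comap_of_injective _ L.subtype_injective :
          IsPGroup 2 (T.subgroupOf L)).exists_le_sylow
        have hTc : Nat.card T = 2 ^ (Nat.card L).factorization 2 := by
          rw [← SL.card_eq_multiplicity]
          refine le_antisymm ?_ ?_
          · rw [← Nat.card_congr (subgroupOfEquivOfLe (inf_le_right : T ≤ L)).toEquiv]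
            exact card_le_of_le hSL
          · obtain ⟨k, hk⟩ := sylow_two_conj P (SL.2.map L.subtype)
            exact Nat.card_le_card_of_injective (fun s : (SL : Subgroup L) =>
              (⟨k * ((s : L) : G) * k⁻¹, hk _ ⟨s, s.2, rfl⟩, hLn.conj_mem _ (s : L).2 k⟩ : T))
              fun a b e' => Subtype.ext (Subtype.ext ((MulAut.conj k).injective (congrArg Subtype.val e')))
        have h2 := card_two_part (F := F) (B := PUnit.{1}) (by simp)
        rw [← h1, hTc, ← h2, Nat.card_prod, Nat.card_unique (α := PUnit.{1}), mul_one,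
          Nat.card_congr eL.toEquiv]
      refine eq_of_le_of_card_ge hML ?_
      rw [Nat.card_congr e'.toEquiv, Nat.card_congr eL.toEquiv, Nat.card_prod,
        LinearGroup.card_SL_two, LinearGroup.card_SL_two, Nat.card_eq_fintype_card (α := F),
        Nat.card_eq_fintype_card (α := F'), hq']
      exact Nat.le_mul_of_pos_right _ Nat.card_pos
  -- `L` centralised by a subgroup
  have hcentL : ∀ x, (∀ t ∈ T, x * t = t * x) → ∀ g ∈ L, T.map (MulAut.conj g).toMonoidHom ≠ T →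
      (∀ t ∈ T, x * (g * t * g⁻¹) = g * t * g⁻¹ * x) → x ∈ centralizer (L : Set G) := by
    intro x hx g hg hgT hx'
    refine mem_centralizer_iff.mpr fun l hl => ?_
    rw [← hgen g hg hgT] at hl
    have hle : T ⊔ T.map (MulAut.conj g).toMonoidHom ≤ cent x := sup_le
      (fun t ht => mem_cent.mpr (hx t ht).symm)
      (by rintro _ ⟨t, ht, rfl⟩; exact mem_cent.mpr (hx' t ht).symm)
    exact mem_cent.mp (hle hl)
  have hTnn : ∃ g ∈ L, T.map (MulAut.conj g).toMonoidHom ≠ T := by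
    by_contra hcon
    push Not at hcon
    obtain ⟨SL, hSL⟩ := ((P.2.to_le inf_le_left).comap_of_injective _ L.subtype_injective :
      IsPGroup 2 (T.subgroupOf L)).exists_le_sylow
    have hTn' : (T.subgroupOf L).Normal := ⟨fun a ha g => by
      rw [mem_subgroupOf] at ha ⊢
      have := hcon g g.2
      rw [← this]
      exact ⟨a, ha, rfl⟩⟩
    refine hnsL (isSolvable_of_normal_sylow SL ?_)
    have : (SL : Subgroup L) = T.subgroupOf L := by
      refine (eq_of_le_of_card_ge hSL ?_).symm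
      show Nat.card (SL : Subgroup L) ≤ Nat.card (T.subgroupOf L)
      rw [Nat.card_congr (subgroupOfEquivOfLe (inf_le_right : T ≤ L)).toEquiv]
      obtain ⟨k, hk⟩ := sylow_two_conj P (SL.2.map L.subtype)
      exact Nat.card_le_card_of_injective (fun s : (SL : Subgroup L) =>
        (⟨k * ((s : L) : G) * k⁻¹, hk _ ⟨s, s.2, rfl⟩, hLn.conj_mem _ (s : L).2 k⟩ : T))
        fun a b e' => Subtype.ext (Subtype.ext ((MulAut.conj k).injective (congrArg Subtype.val e')))
    rwa [this]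
  have hnotC : ∀ a ∈ A, orderOf a = 2 → a ∉ centralizer (L : Set G) := by
    intro a ha ha2 hc
    have hle : L ≤ H := fun l hl => hC a ha ha2 ▸ mem_cent.mpr (mem_centralizer_iff.mp hc l hl)
    haveI := h.isSolvable
    exact hnsL (Group.isSolvable_of_isSolvable_injective (inclusion_injective hle))
  set C := centralizer (L : Set G) with hCdef
  haveI hCn : C.Normal := inferInstance
  -- every outer element of `P` is in `C * G₀`
  have houtC : ∀ x ∈ (P : Subgroup G), x ∉ A → ∃ k ∈ C, k ∈ H ∧ k ∉ A ∧ k⁻¹ * x ∈ G₀ := by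
    intro x hxP hxA
    have hxx := (h.out x (hPH hxP) hxA).1
    have hxT : ∀ t ∈ T, x * t = t * x := hHT x (hPH hxP)
    have hx2 : orderOf x = 2 := orderOf_two_of hxx fun e => hxA (e ▸ one_mem A)
    -- an involution commuting with `x` outside `T` suffices
    have hcrit : ∀ v ∈ L, orderOf v = 2 → v ∉ T → x * v = v * x → x ∈ C := by
      intro v hv hv2 hvT hxv
      obtain ⟨g, hg, hgv⟩ := hinvT v hv hv2
      have hveq : v = g⁻¹ * (g * v * g⁻¹) * g := by group
      have hgT : T.map (MulAut.conj g⁻¹).toMonoidHom ≠ T := fun e' => hvT (by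
        rw [← e']
        exact ⟨_, hgv, by simp [mul_assoc]⟩)
      refine hcentL x hxT g⁻¹ (inv_mem hg) hgT fun t ht => ?_
      exact hspread g⁻¹ x _ hgv (fun e' => ne_one_of_two hv2 (conj_eq_one_iff.mp e'))
        (by rw [inv_inv, ← hveq]; exact hxv) t ht
    by_cases hxC : x ∈ C
    · exact ⟨x, hxC, hPH hxP, hxA, by rw [inv_mul_cancel]; exact one_mem G₀⟩
    obtain ⟨g, hg, hgT⟩ := hTnn
    set j := g * t₀ * g⁻¹ with hjdef
    have hj2 : orderOf j = 2 := by rw [hjdef, orderOf_conj', ht₀2]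
    have hjG₀ : j ∈ G₀ := hG₀n.conj_mem _ (hLG₀ ht₀.2) g
    have hxjn : ¬ IsConj x j := fun e' => hout x hxP hxA (by
      obtain ⟨c, hc⟩ := isConj_iff.mp e'.symm
      exact hc ▸ hG₀n.conj_mem j hjG₀ c)
    obtain ⟨k, hk2, hkx, hkj, hkz⟩ := Involution.exists_commuting_involution hx2 hj2 hxjn
    have hkT' : ∀ t ∈ T, k * (g * t * g⁻¹) = g * t * g⁻¹ * k :=
      hspread g k t₀ ht₀ (ne_one_of_two ht₀2) hkj.eq
    obtain ⟨i, hi⟩ := mem_zpowers_iff.mp hkz
    have hxjG : x * j * x⁻¹ ∈ G₀ := hG₀n.conj_mem j hjG₀ x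
    have hmod : QuotientGroup.mk' G₀ k = QuotientGroup.mk' G₀ x ^ i := by
      rw [← hi, map_zpow, map_mul, show QuotientGroup.mk' G₀ j = 1 from
        (QuotientGroup.eq_one_iff j).mpr hjG₀, mul_one]
    by_cases hkG : k ∈ G₀
    · -- then `x` centralises the conjugate of `T`
      exfalso
      have hkL : k ∈ L := hL2 k hkG ⟨1, by rw [pow_one, pow_two]; exact mul_self_of_two hk2⟩
      have hkT : k ∈ T.map (MulAut.conj g).toMonoidHom := by
        refine ⟨g⁻¹ * k * g, ⟨?_, hLn.conj_mem' k hkL g⟩, by simp [mul_assoc]⟩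
        have h2 : g⁻¹ * k * g ∈ H := hTH t₀ ht₀ (ne_one_of_two ht₀2) _ (by
          calc g⁻¹ * k * g * t₀ = g⁻¹ * (k * (g * t₀ * g⁻¹)) * g := by group
            _ = _ := by rw [hkT' t₀ ht₀]; group)
        have h3 := hHG₀ _ h2 (hG₀n.conj_mem' k hkG g)
        exact hinP _ h3 (by simpa using (orderOf_conj' g⁻¹ k).trans hk2)
      obtain ⟨t, ht, htk⟩ := hkT
      exact hxC (hcentL x hxT g hg hgT (hspread g x t ht (fun e' => ne_one_of_two hk2 (by
        rw [← htk, e']; simp)) (by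
          have htk' : g * t * g⁻¹ = k := htk
          rw [htk']; exact hkx.symm.eq)))
    have hkmod : k⁻¹ * x ∈ G₀ := by
      rw [← QuotientGroup.eq_one_iff]
      show QuotientGroup.mk' G₀ (k⁻¹ * x) = 1
      have h2 : QuotientGroup.mk' G₀ x ^ (2 : ℤ) = 1 := by
        rw [zpow_two, ← map_mul, hxx, map_one]
      rcases Int.even_or_odd i with ⟨l, rfl⟩ | ⟨l, rfl⟩
      · exfalso
        apply hkG
        rw [← QuotientGroup.eq_one_iff]
        show QuotientGroup.mk' G₀ k = 1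
        rw [hmod, ← two_mul, zpow_mul, h2, one_zpow]
      · rw [map_mul, map_inv, hmod, zpow_add, zpow_mul, h2, one_zpow, one_mul, zpow_one,
          inv_mul_cancel]
    -- `k` centralises `L`
    have hkn : ∀ t ∈ T, k * t * k⁻¹ ∈ T := by
      intro t ht
      by_cases ht1 : t = 1
      · simp [ht1]
      by_contra hnot
      refine hxC (hcrit _ (hLn.conj_mem t ht.2 k)
        (by rw [orderOf_conj']; exact orderOf_two_of (hTel t ht) ht1) hnot ?_)
      calc x * (k * t * k⁻¹) = k * (x * t) * k⁻¹ := by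
            rw [← mul_assoc, ← mul_assoc, ← hkx.eq]; group
        _ = k * (t * x) * k⁻¹ := by rw [hxT t ht]
        _ = _ := by
          have hkx' : x * k⁻¹ = k⁻¹ * x := (hkx.inv_left).symm.eq
          rw [mul_assoc (k * t) k⁻¹ x, ← hkx']; group
    -- `k` fixes an involution of `T`
    obtain ⟨u, hu, hu1, huk⟩ : ∃ u ∈ T, u ≠ 1 ∧ k * u = u * k := by
      have hkk := mul_self_of_two hk2
      by_cases hfix : k * t₀ = t₀ * k
      · exact ⟨t₀, ht₀, ne_one_of_two ht₀2, hfix⟩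
      refine ⟨t₀ * (k * t₀ * k⁻¹), mul_mem ht₀ (hkn t₀ ht₀), fun e' => hfix ?_, ?_⟩
      · refine mul_inv_eq_iff_eq_mul.mp ?_
        rw [eq_inv_of_mul_eq_one_right e', inv_of_two ht₀2]
      · have hc := h.comm t₀ (hTA ht₀) _ (hTA (hkn t₀ ht₀))
        have e2 : k * (t₀ * (k * t₀ * k⁻¹)) = (k * t₀ * k⁻¹) * (k * k * t₀ * (k * k)⁻¹) * k := by
          group
        rw [e2, hkk, one_mul, inv_one, mul_one, ← hc]
    have hkH : k ∈ H := hTH u hu hu1 k huk
    have hkC : k ∈ C := hcentL k (hHT k hkH) g hg hgT hkT'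
    exact ⟨k, hkC, hkH, fun e' => hnotC k e' hk2 hkC, hkmod⟩
  obtain ⟨x₀, hx₀P, hx₀A⟩ : ∃ x ∈ (P : Subgroup G), x ∉ A := by
    obtain ⟨x, hx, hxA⟩ := h.exists_out
    have hx2 : orderOf x = 2 := orderOf_two_of (h.out x hx hxA).1 fun e => hxA (e ▸ one_mem A)
    obtain ⟨g, hg⟩ := involution_conj_sylow P hx2
    refine ⟨_, hg, fun hgA => ?_⟩
    exact hnc hx hxA hgA (by rw [orderOf_conj', hx2]) (isConj_iff.mpr ⟨g, rfl⟩ : IsConj x _).symm
  -- `G = C * L`
  have htop : C ⊔ G₀ = ⊤ := by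
    refine Transfer.eq_top_of_prime_pow_orderOf_mem fun p hp y hy => ?_
    obtain ⟨k, hk⟩ := hy
    by_cases hp2 : p = 2
    swap
    · exact mem_sup_right (hG₀odd y (hk ▸ (hp.odd_of_ne_two hp2).pow))
    subst hp2
    obtain ⟨g, hg⟩ := sylow_two_conj P (Q := zpowers y)
      (IsPGroup.of_card (n := k) (by rw [Nat.card_zpowers, hk]))
    haveI : (C ⊔ G₀).Normal := inferInstance
    suffices hmem : g * y * g⁻¹ ∈ C ⊔ G₀ by
      have := this.conj_mem' _ hmem g
      simpa [mul_assoc] using this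
    have hPle : ∀ v ∈ (P : Subgroup G), v ∈ C ⊔ G₀ := by
      have h1 : ∀ v ∈ (P : Subgroup G), v ∉ A → v ∈ C ⊔ G₀ := by
        intro v hv hvA
        obtain ⟨k, hk, -, -, hkv⟩ := houtC v hv hvA
        simpa using mul_mem (mem_sup_left (T := G₀) hk) (mem_sup_right (S := C) hkv)
      intro v hv
      by_cases hvA : v ∈ A
      · have h2 : x₀ * v ∉ A := fun e' => hx₀A (by simpa using mul_mem e' (inv_mem hvA))
        have := mul_mem (inv_mem (h1 x₀ hx₀P hx₀A)) (h1 _ (mul_mem hx₀P hv) h2)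
        simpa using this
      · exact h1 v hv hvA
    exact hPle _ (hg y (mem_zpowers y))
  have hG₀CL : G₀ ≤ C ⊔ L := by
    intro g hg
    set y : G₀ := e.symm (1, (e ⟨g, hg⟩).2)
    have hyC : (y : G) ∈ C := by
      refine mem_centralizer_iff.mpr fun l hl => ?_
      obtain ⟨hl₀, hl2⟩ := (hLmem l).mp hl
      have : (⟨l, hl₀⟩ : G₀) * y = y * ⟨l, hl₀⟩ := e.injective (by
        rw [map_mul, map_mul, MulEquiv.apply_symm_apply]
        exact Prod.ext (by simp) (by simp [hl2]))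
      exact congrArg Subtype.val this
    have hyL : (y : G)⁻¹ * g ∈ L := by
      refine (hLmem _).mpr ⟨mul_mem (inv_mem y.2) hg, ?_⟩
      rw [show (⟨(y : G)⁻¹ * g, mul_mem (inv_mem y.2) hg⟩ : G₀) = y⁻¹ * ⟨g, hg⟩ from rfl, map_mul,
        map_inv, MulEquiv.apply_symm_apply]
      simp
    simpa using mul_mem (mem_sup_left (T := L) hyC) (mem_sup_right (S := C) hyL)
  have hCL : C ⊔ L = ⊤ := top_le_iff.mp (htop.ge.trans (sup_le le_sup_left hG₀CL))
  have hcap : ∀ y ∈ C, y ∈ L → y = 1 := by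
    intro y hyC hyL
    have h1 : eL ⟨y, hyL⟩ ∈ center (Matrix.SpecialLinearGroup (Fin 2) F) := mem_center_iff.mpr fun s => by
      rw [← eL.apply_symm_apply s, ← map_mul, ← map_mul]
      congr 1
      exact Subtype.ext (mem_centralizer_iff.mp hyC _ (eL.symm s).2)
    rw [CharDeep.OrderP.center_sl_two_eq_bot, mem_bot, ← map_one eL] at h1
    exact congrArg Subtype.val (eL.injective h1)
  refine ⟨C, hCn, ?_, ?_⟩
  · -- the order of `C`
    obtain ⟨k, hkC, hkH, hkA, -⟩ := houtC x₀ hx₀P hx₀A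
    obtain ⟨SC⟩ := (inferInstance : Nonempty (Sylow 2 C))
    have hk2 : orderOf k = 2 := orderOf_two_of (h.out k hkH hkA).1 fun e => hkA (e ▸ one_mem A)
    have hcard : Nat.card SC ≤ 2 := by
      obtain ⟨g, hg⟩ := sylow_two_conj P (SC.2.map C.subtype)
      set PC := (P : Subgroup G) ⊓ C with hPC
      have hle : Nat.card SC ≤ Nat.card PC := Nat.card_le_card_of_injective
        (fun s : (SC : Subgroup C) => (⟨g * ((s : C) : G) * g⁻¹, hg _ ⟨s, s.2, rfl⟩,
          hCn.conj_mem _ (s : C).2 g⟩ : PC))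
        fun a b e' => Subtype.ext (Subtype.ext ((MulAut.conj g).injective (congrArg Subtype.val e')))
      refine hle.trans ?_
      have hA1 : ∀ v ∈ PC, v ∈ A → v = 1 := by
        intro v hv hvA
        by_contra hv1
        obtain ⟨l, hl⟩ := IsPGroup.iff_orderOf.mp P.2 ⟨v, hv.1⟩
        rw [Subgroup.orderOf_mk] at hl
        rcases l with _ | l
        · exact hv1 (orderOf_eq_one_iff.mp (by simpa using hl))
        have hw : orderOf (v ^ 2 ^ l) = 2 := by
          rw [orderOf_pow_of_dvd (by positivity) ⟨2, by rw [hl]; ring⟩, hl, pow_succ,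
            Nat.mul_div_cancel_left _ (by positivity)]
        exact hnotC _ (pow_mem hvA _) hw (pow_mem hv.2 _)
      have hsub : ∀ v ∈ PC, ∀ w ∈ PC, v ≠ 1 → w ≠ 1 → v = w := by
        intro v hv w hw hv1 hw1
        have hvA : v ∉ A := fun e' => hv1 (hA1 v hv e')
        have hwA : w ∉ A := fun e' => hw1 (hA1 w hw e')
        have h1 := hA1 _ (mul_mem hv hw) (h.mul v w (hPH hv.1) hvA (hPH hw.1) hwA)
        rw [← inv_eq_of_mul_eq_one_right h1, inv_eq_of_mul_eq_one_right (h.out v (hPH hv.1) hvA).1]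
      by_cases hbot : ∀ v ∈ PC, v = 1
      · rw [show PC = ⊥ from (eq_bot_iff_forall PC).mpr hbot, card_bot]; norm_num
      push Not at hbot
      obtain ⟨v, hv, hv1⟩ := hbot
      classical
      calc Nat.card PC ≤ Nat.card ({1, v} : Finset G) := Nat.card_le_card_of_injective
            (fun w : PC => ⟨w.1, by
              by_cases hw1 : (w : G) = 1
              · simp [hw1]
              · simp [hsub w w.2 v hv hw1 hv1]⟩)
            fun a b e' => Subtype.ext (congrArg (fun q : ({1, v} : Finset G) => (q : G)) e')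
        _ ≤ 2 := by rw [Nat.card_eq_finsetCard]; exact Finset.card_le_two
    have h2C : 2 ∣ Nat.card C := hk2 ▸ Subgroup.orderOf_dvd_natCard C hkC
    refine ⟨(SC : Subgroup C).index, Nat.odd_iff.mpr (Nat.two_dvd_ne_zero.mp SC.not_dvd_index), ?_⟩
    have h1 := (SC : Subgroup C).card_mul_index
    obtain ⟨n, hn⟩ := IsPGroup.iff_card.mp SC.2
    rw [hn] at hcard h1
    rcases n with _ | _ | n
    · exfalso
      rw [pow_zero, one_mul] at h1
      exact SC.not_dvd_index (h1 ▸ h2C)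
    · rw [← h1, pow_one]
    · exfalso; rw [pow_succ, pow_succ] at hcard
      have := Nat.one_le_two_pow (n := n); omega
  · obtain ⟨f, -, hf⟩ := card_eq_two_pow (F := F)
    obtain ⟨e'⟩ := CharDeep.OrderP.nonempty_psl_equiv_sl (F := F) hf
    refine ⟨F, iF, iF', by omega, ⟨(MulEquiv.ofBijective ((QuotientGroup.mk' C).comp L.subtype)
      ⟨?_, ?_⟩).symm.trans (eL.trans e'.symm)⟩⟩
    · refine (injective_iff_map_eq_one _).mpr fun y hy => Subtype.ext ?_
      exact hcap y ((QuotientGroup.eq_one_iff _).mp hy) y.2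
    · intro q
      obtain ⟨g, rfl⟩ := QuotientGroup.mk'_surjective C q
      obtain ⟨c, hc, l, hl, rfl⟩ := mem_sup_of_normal_left.mp (hCL.ge (mem_top g))
      exact ⟨⟨l, hl⟩, by
        show QuotientGroup.mk' C l = QuotientGroup.mk' C (c * l)
        rw [map_mul, show QuotientGroup.mk' C c = 1 from (QuotientGroup.eq_one_iff c).mpr hc, one_mul]⟩

end Cfsg.Agent.GenDih45
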