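import Cfsg.Agent.GenDih45.Axes

/-!
# Uniqueness of the maximal invariant `p`-subgroup

For a four-group either every invariant `p`-subgroup lies on one axis, or all of them lie in one of
them, which contains all three axes.
-/

set_option autoImplicit false

namespace Cfsg.Agent.GenDih45

open Subgroup

variable {G : Type*} [Group G] [Finite G]

/-- Some invariant `p`-subgroup meets two axes. -/
def Joined (a b : G) (p : ℕ) : Prop :=
  ∃ Y, PI a b p Y ∧ ∃ d d', Ax a b d ∧ Ax a b d' ∧ d ≠ d' ∧ Y ⊓ cent d ≠ ⊥ ∧ Y ⊓ cent d' ≠ ⊥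

theorem lt_inf_normalizer {p : ℕ} [Fact p.Prime] {D Q : Subgroup G} (hQ : IsPGroup p Q)
    (h : D < Q) : D < Q ⊓ normalizer (D : Set G) := by
  refine lt_of_le_of_ne (le_inf h.le le_normalizer) fun heq => ?_
  haveI := hQ.isNilpotent
  have hlt : D.subgroupOf Q < ⊤ :=
    lt_top_iff_ne_top.mpr fun ht => h.not_ge (subgroupOf_eq_top.mp ht)
  obtain ⟨x, hx, hxD⟩ := SetLike.exists_of_lt (Group.normalizerCondition_of_isNilpotent _ hlt)
  apply hxD
  show (x : G) ∈ D
  rw [heq]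
  refine ⟨x.2, mem_normalizer_iff.mpr fun g => ⟨fun hg => ?_, fun hg => ?_⟩⟩
  · exact (mem_normalizer_iff.mp hx ⟨g, h.le hg⟩).mp hg
  · have hgQ : g ∈ Q := by
      have := mul_mem (mul_mem (inv_mem x.2) (h.le hg)) x.2
      simpa [mul_assoc] using this
    exact (mem_normalizer_iff.mp hx ⟨g, hgQ⟩).mpr hg

theorem inv_oddPart {a b : G} {L : Subgroup G} (h : Inv a b L) : Inv a b (oddPart L) :=
  ⟨conj_mem_oddPart h.le₁, conj_mem_oddPart h.le₂⟩

namespace Uni

variable (hU : Uni G) {a b : G} (V : Pair a b) {p : ℕ} [Fact p.Prime] (hp2 : p ≠ 2)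

include hU V hp2

theorem pi_eq_bot_of_Pp {Y : Subgroup G} (h : Pp p a = ⊥) (hY : PI a b p Y) : Y = ⊥ := by
  refine eq_bot_iff.mpr (hU.pi_le_of_full V hp2 hY fun d hd => le_of_eq ?_)
  refine eq_bot_of_card_eq _ ?_
  rw [hU.card_Pp_eq (hd.two V) V.he, h, card_bot]

/-- Two maximal invariant `p`-subgroups whose intersection is normalised by a subgroup without
fused four-group coincide. -/
theorem eq_of_odd_normalizer {Q₁ Q₂ : Subgroup G} (h₁ : Maximal (PI a b p) Q₁)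
    (h₂ : Maximal (PI a b p) Q₂) (hne : Q₁ ≠ Q₂) (C : Subgroup G → Prop)
    (hC₁ : C Q₁) (hC₂ : C Q₂)
    (hC : ∀ S, PI a b p S → Q₁ ⊓ normalizer ((Q₁ ⊓ Q₂ : Subgroup G) : Set G) ≤ S →
      Maximal (PI a b p) S → C S)
    (hmax : ∀ R₁ R₂, Maximal (PI a b p) R₁ → Maximal (PI a b p) R₂ → C R₁ → C R₂ → R₁ ≠ R₂ →
      Nat.card (R₁ ⊓ R₂ : Subgroup G) ≤ Nat.card (Q₁ ⊓ Q₂ : Subgroup G))
    (hodd : Odd (Nat.card (oddPart (normalizer ((Q₁ ⊓ Q₂ : Subgroup G) : Set G))))) : False := by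
  set D := Q₁ ⊓ Q₂ with hD
  set L := normalizer (D : Set G) with hL
  have hDi : Inv a b D := h₁.1.inv.inf h₂.1.inv
  have hLi : Inv a b L := hDi.normalizer_inv V
  obtain ⟨S₀, hS₀⟩ := hU.exists_invSylow V hodd (inv_oddPart hLi) p
  obtain ⟨Q₃, hQ₃, h₃⟩ := Finite.exists_le_maximal (p := PI a b p) (show PI a b p S₀ from
    ⟨hS₀.pgroup, hS₀.inv⟩)
  have hN : ∀ Q, Maximal (PI a b p) Q → Q ⊓ L ≤ Q₃ := by
    intro Q hQ
    refine le_trans ?_ hQ₃
    refine hS₀.max _ (fun x hx => mem_oddPart_of hx.2 ?_) (hQ.1.pgroup.to_le inf_le_left)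
      (hQ.1.inv.inf hLi)
    exact odd_orderOf_of_mem (hU.odd_of_pgroup hp2 hQ.1.pgroup) hx.1
  have h₃C : C Q₃ := hC Q₃ h₃.1 (hN Q₁ h₁) h₃
  have key : ∀ Q, Maximal (PI a b p) Q → C Q → D < Q → Q₃ = Q := by
    intro Q hQ hQC hlt
    by_contra h
    have h4 := lt_of_lt_of_le (lt_inf_normalizer hQ.1.pgroup hlt)
      (le_inf inf_le_left (hN Q hQ) : Q ⊓ L ≤ Q ⊓ Q₃)
    have h5 := hmax Q Q₃ hQ h₃ hQC h₃C (Ne.symm h)
    exact h4.ne (eq_of_le_of_card_ge h4.le h5)
  have hlt₁ : D < Q₁ := lt_of_le_of_ne inf_le_left fun h =>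
    hne (le_antisymm (h ▸ inf_le_right) (h₁.2 h₂.1 (h ▸ inf_le_right)))
  have hlt₂ : D < Q₂ := lt_of_le_of_ne inf_le_right fun h =>
    hne (le_antisymm (h₂.2 h₁.1 (h ▸ inf_le_left)) (h ▸ inf_le_left))
  exact hne ((key Q₁ h₁ hC₁ hlt₁).symm.trans (key Q₂ h₂ hC₂ hlt₂))

/-- There is a largest invariant `p`-subgroup containing a given axis. -/
theorem exists_top {d : G} (hd : Ax a b d) :
    ∃ Q, PI a b p Q ∧ Pp p d ≤ Q ∧ ∀ Y, PI a b p Y → Pp p d ≤ Y → Y ≤ Q := by
  classical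
  have hPd : PI a b p (Pp p d) := hU.pi_Pp V hd
  obtain ⟨Q₀, hQ₀, hQ₀m⟩ := Finite.exists_le_maximal (p := PI a b p) hPd
  by_cases huniq : ∀ Q, Maximal (PI a b p) Q → Pp p d ≤ Q → Q = Q₀
  · refine ⟨Q₀, hQ₀m.1, hQ₀, fun Y hY hdY => ?_⟩
    obtain ⟨Q, hQ, hQm⟩ := Finite.exists_le_maximal (p := PI a b p) hY
    exact huniq Q hQm (hdY.trans hQ) ▸ hQ
  exfalso
  push Not at huniq
  obtain ⟨Q', hQ'm, hQ', hne'⟩ := huniq
  let T := {q : Subgroup G × Subgroup G // Maximal (PI a b p) q.1 ∧ Maximal (PI a b p) q.2 ∧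
    Pp p d ≤ q.1 ∧ Pp p d ≤ q.2 ∧ q.1 ≠ q.2}
  haveI : Nonempty T := ⟨⟨(Q', Q₀), hQ'm, hQ₀m, hQ', hQ₀, hne'⟩⟩
  obtain ⟨⟨⟨Q₁, Q₂⟩, h₁, h₂, hd₁, hd₂, hne⟩, hmax⟩ :=
    Finite.exists_max fun q : T => Nat.card (q.1.1 ⊓ q.1.2 : Subgroup G)
  simp only at h₁ h₂ hd₁ hd₂ hne hmax
  set D := Q₁ ⊓ Q₂ with hD
  have hdD : Pp p d ≤ D := le_inf hd₁ hd₂
  have hDi : Inv a b D := h₁.1.inv.inf h₂.1.inv
  have hDp : PI a b p D := ⟨h₁.1.pgroup.to_le inf_le_left, hDi⟩
  set L := normalizer (D : Set G) with hL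
  rcases hU.fused_or_odd L with hodd | ⟨e₀, f₀, y, he₀, hf₀, hy, V₀, hy₁, hy₂⟩
  · exact hU.eq_of_odd_normalizer V hp2 h₁ h₂ hne (fun Q => Pp p d ≤ Q) hd₁ hd₂
      (fun S _ hS _ => le_trans (le_inf hd₁ ((le_inf hd₁ hd₂).trans le_normalizer)) hS)
      (fun R₁ R₂ hR₁ hR₂ hC₁ hC₂ hR => hmax ⟨(R₁, R₂), hR₁, hR₂, hC₁, hC₂, hR⟩) hodd
  · -- all three axes lie in `D`
    have hsame : ∀ e, Ax a b e → Nat.card (D ⊓ cent e : Subgroup G) = Nat.card (Pp p d) := by
      have haL : a ∈ L := Inv.mem_normalizer_of (mul_self_of_two V.he) hDi.le₁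
      have hbL : b ∈ L := Inv.mem_normalizer_of (mul_self_of_two V.hf) hDi.le₂
      have hL' : ∀ e, Ax a b e → ∃ e', e ∈ L ∧ e' ∈ L ∧ Pair e e' := by
        rintro e (rfl | rfl | rfl)
        · exact ⟨b, haL, hbL, V⟩
        · exact ⟨a, hbL, haL, V.symm⟩
        · exact ⟨a, mul_mem haL hbL, haL, V.left.symm⟩
      have hk : ∀ e, Ax a b e → Nat.card (D ⊓ cent e : Subgroup G) =
          Nat.card (D ⊓ cent e₀ : Subgroup G) := by
        intro e he
        obtain ⟨e', h1, h2, h3⟩ := hL' e he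
        exact (hU.card_fix_eq (hU.odd_of_pgroup hp2 hDp.pgroup) le_rfl he₀ hf₀ hy V₀ hy₁ hy₂
          h1 h2 h3).1
      have hdd : D ⊓ cent d = Pp p d := le_antisymm (hU.inf_cent_le_Pp hp2 hDp.pgroup (hd.two V))
        (le_inf hdD fun x hx => mem_cent.mpr (hU.Pp_cent (hd.two V) hx))
      intro e he
      rw [hk e he, ← hk d hd, hdd]
    have hfull : ∀ e, Ax a b e → Pp p e ≤ D := by
      intro e he
      rw [← eq_of_le_of_card_ge (hU.inf_cent_le_Pp hp2 hDp.pgroup (he.two V))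
        (by rw [hsame e he, hU.card_Pp_eq (he.two V) (hd.two V)])]
      exact inf_le_left
    have hle : ∀ Q, PI a b p Q → Q ≤ D := fun Q hQ => hU.pi_le_of_full V hp2 hQ hfull
    exact hne (le_antisymm ((hle Q₁ h₁.1).trans inf_le_right) ((hle Q₂ h₂.1).trans inf_le_left))

/-- An invariant `p`-subgroup centralised by a nontrivial element of an axis lies in the top of that
axis. -/
theorem le_top_of_centralized {d u : G} (hd : Ax a b d) {Q : Subgroup G}
    (hQ : ∀ Y, PI a b p Y → Pp p d ≤ Y → Y ≤ Q) {Y : Subgroup G} (hY : PI a b p Y)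
    (hu : u ∈ Pp p d) (hu1 : u ≠ 1) (hc : ∀ x ∈ Y, x * u = u * x) : Y ≤ Q := by
  have huO := (hU.mem_O (hd.two V)).mp (Pp_le p d hu)
  have hX : Odd (Nat.card (oddPart (cent u))) := hU.odd_cent huO.2 hu1
  have hconj : ∀ e, Ax a b e → e * u * e⁻¹ = u ∨ e * u * e⁻¹ = u⁻¹ := by
    intro e he
    by_cases hed : e = d
    · subst hed
      exact Or.inl (by rw [← huO.1, mul_inv_cancel_right])
    · exact Or.inr (hU.inverts (hd.pair V he (Ne.symm hed)) (Pp_le p d hu))
  have hnorm : ∀ e, Ax a b e → ∀ x ∈ cent u, e * x * e⁻¹ ∈ cent u := by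
    intro e he x hx
    rw [mem_cent] at hx ⊢
    have h1 : Commute (e * x * e⁻¹) (e * u * e⁻¹) := by
      show e * x * e⁻¹ * (e * u * e⁻¹) = e * u * e⁻¹ * (e * x * e⁻¹)
      calc e * x * e⁻¹ * (e * u * e⁻¹) = e * (x * u) * e⁻¹ := by group
        _ = _ := by rw [hx]; group
    rcases hconj e he with h | h
    · rwa [h] at h1
    · rw [h] at h1; simpa using h1.inv_right.eq
  have hXi : Inv a b (oddPart (cent u)) :=
    inv_oddPart ⟨hnorm a (Or.inl rfl), hnorm b (Or.inr (Or.inl rfl))⟩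
  obtain ⟨R, hR⟩ := hU.exists_invSylow V hX hXi p
  have hYR : Y ≤ R := hR.max Y (fun x hx => mem_oddPart_of (mem_cent.mpr (hc x hx))
    (odd_orderOf_of_mem (hU.odd_of_pgroup hp2 hY.pgroup) hx)) hY.pgroup hY.inv
  have hPR : Pp p d ≤ R := hR.max _ (fun x hx => mem_oddPart_of
      (mem_cent.mpr (hU.Pp_comm (hd.two V) hx hu))
      ((hU.mem_O (hd.two V)).mp (Pp_le p d hx)).2)
    (hU.isPGroup_Pp (hd.two V)) (hU.pi_Pp V hd).inv
  exact hYR.trans (hQ R ⟨hR.pgroup, hR.inv⟩ hPR)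

omit hU V hp2 in
/-- The centre of an invariant `p`-subgroup is invariant. -/
theorem inv_center {Q : Subgroup G} (hQ : Inv a b Q) (ha : a * a = 1) (hb : b * b = 1) :
    Inv a b (Q ⊓ centralizer (Q : Set G)) := by
  refine hQ.inf ?_
  have key : ∀ e, (∀ x ∈ Q, e * x * e⁻¹ ∈ Q) → e * e = 1 →
      ∀ z ∈ centralizer (Q : Set G), e * z * e⁻¹ ∈ centralizer (Q : Set G) := by
    intro e he hee z hz
    refine mem_centralizer_iff.mpr fun q hq => ?_
    have h2 := mem_centralizer_iff.mp hz _ (he q hq)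
    have h3 : q = e * (e * q * e⁻¹) * e⁻¹ := by
      calc q = (e * e) * q * (e * e)⁻¹ := by rw [hee]; group
        _ = _ := by group
    rw [h3]
    calc e * (e * q * e⁻¹) * e⁻¹ * (e * z * e⁻¹) = e * (e * q * e⁻¹ * z) * e⁻¹ := by group
      _ = _ := by rw [h2]; group
  exact ⟨key a hQ.le₁ ha, key b hQ.le₂ hb⟩

omit hU V hp2 in
theorem center_ne_bot {Q : Subgroup G} (hQ : IsPGroup p Q) (hne : Q ≠ ⊥) :
    Q ⊓ centralizer (Q : Set G) ≠ ⊥ := by
  haveI : Nontrivial Q := (nontrivial_iff_ne_bot Q).mpr hne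
  haveI := hQ.center_nontrivial
  obtain ⟨z, hz⟩ := exists_ne (1 : center Q)
  intro h
  refine hz (Subtype.ext (Subtype.ext (Subgroup.mem_bot.mp (h ▸ ?_))))
  exact ⟨(z : Q).2, mem_centralizer_iff.mpr fun q hq =>
    congrArg Subtype.val (mem_center_iff.mp z.2 ⟨q, hq⟩)⟩

/-- Some axis meets the centre of a nontrivial invariant `p`-subgroup. -/
theorem exists_central_axis {Q : Subgroup G} (hQ : PI a b p Q) (hne : Q ≠ ⊥) :
    ∃ d z, Ax a b d ∧ z ∈ Pp p d ∧ z ≠ 1 ∧ ∀ q ∈ Q, q * z = z * q := by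
  have hZpi : PI a b p (Q ⊓ centralizer (Q : Set G)) := ⟨hQ.pgroup.to_le inf_le_left,
    inv_center hQ.inv (mul_self_of_two V.he) (mul_self_of_two V.hf)⟩
  obtain ⟨e, he, hze⟩ : ∃ e, Ax a b e ∧ Q ⊓ centralizer (Q : Set G) ⊓ cent e ≠ ⊥ := by
    by_contra hcon
    push Not at hcon
    exact center_ne_bot hQ.pgroup hne
      (eq_bot_iff.mpr (hU.pi_le V hp2 hZpi fun e he => (hcon e he).le))
  obtain ⟨⟨z, hz, hzc⟩, hz1⟩ := ne_bot_iff_exists_ne_one.mp hze
  exact ⟨e, z, he, hU.inf_cent_le_Pp hp2 hZpi.pgroup (he.two V) ⟨hz, hzc⟩,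
    fun h => hz1 (Subtype.ext h), fun q hq => mem_centralizer_iff.mp hz.2 q hq⟩

/-- In the joined case there is an invariant `p`-subgroup containing all three axes. -/
theorem joined_full (hj : Joined a b p) :
    ∃ Q, PI a b p Q ∧ ∀ d, Ax a b d → Pp p d ≤ Q := by
  classical
  have hex : ∀ d, ∃ Q, Ax a b d → PI a b p Q ∧ Pp p d ≤ Q ∧ ∀ Y, PI a b p Y → Pp p d ≤ Y → Y ≤ Q := by
    intro d
    by_cases hd : Ax a b d
    · obtain ⟨Q, h⟩ := hU.exists_top V hp2 hd
      exact ⟨Q, fun _ => h⟩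
    · exact ⟨⊥, fun h => absurd h hd⟩
  choose T hT using hex
  have hTmax : ∀ d, Ax a b d → Maximal (PI a b p) (T d) := fun d hd =>
    ⟨(hT d hd).1, fun Y hY hle => (hT d hd).2.2 Y hY ((hT d hd).2.1.trans hle)⟩
  have hax : Ax a b a ∧ Ax a b b ∧ Ax a b (a * b) :=
    ⟨Or.inl rfl, Or.inr (Or.inl rfl), Or.inr (Or.inr rfl)⟩
  obtain ⟨Y, hY, d₁, d₂, hd₁, hd₂, hd₁₂, hm₁, hm₂⟩ := hj
  by_cases heq : ∃ i k, Ax a b i ∧ Ax a b k ∧ i ≠ k ∧ T i = T k
  · -- a three-cycle makes all three tops equal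
    obtain ⟨i, k, hi, hk, hik, hTik⟩ := heq
    have W := hi.pair V hk hik
    obtain ⟨y, hy₁, hy₂, hy₃⟩ := hU.exists_cycle W
    have hl : Ax a b (i * k) := by
      have haa := mul_self_of_two V.he
      have hbb := mul_self_of_two V.hf
      rcases hi with rfl | rfl | rfl <;> rcases hk with rfl | rfl | rfl <;>
        first
        | exact absurd rfl hik
        | exact Or.inr (Or.inr rfl)
        | exact Or.inr (Or.inr V.comm.symm)
        | exact Or.inr (Or.inl (by rw [← mul_assoc, haa, one_mul]))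
        | exact Or.inr (Or.inl (by rw [V.comm, mul_assoc, haa, mul_one]))
        | exact Or.inl (by rw [mul_assoc, hbb, mul_one])
        | exact Or.inl (by rw [V.comm, ← mul_assoc, hbb, one_mul])
    have hInv : ∀ Z : Subgroup G, Inv a b Z ↔ Inv i k Z := by
      intro Z
      constructor
      · exact fun h => ⟨h.conj_ax hi, h.conj_ax hk⟩
      · intro h
        have hall : ∀ e, Ax i k e → ∀ x ∈ Z, e * x * e⁻¹ ∈ Z := fun e he => h.conj_ax he
        have hcov : ∀ e, Ax a b e → Ax i k e := by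
          intro e he
          by_cases h1 : e = i
          · exact Or.inl h1
          by_cases h2 : e = k
          · exact Or.inr (Or.inl h2)
          refine Or.inr (Or.inr ?_)
          have hne1 : i * k ≠ i := fun hh => ne_one_of_two W.hf (mul_eq_left.mp hh)
          have hne2 : i * k ≠ k := fun hh => ne_one_of_two W.he (mul_eq_right.mp hh)
          rcases he with rfl | rfl | rfl <;> rcases hi with rfl | rfl | rfl <;>
            rcases hk with rfl | rfl | rfl <;> rcases hl with hl | hl | hl <;>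
            first
            | exact absurd rfl hik
            | exact absurd rfl h1
            | exact absurd rfl h2
            | exact absurd hl hne1
            | exact absurd hl hne2
            | exact hl.symm
        exact ⟨hall a (hcov a hax.1), hall b (hcov b hax.2.1)⟩
    -- the image of the common top is the top at `k` and at `i * k`
    have himg : ∀ e e', Ax a b e → Ax a b e' → y * e * y⁻¹ = e' →
        (T e).map (MulAut.conj y).toMonoidHom ≤ T e' := by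
      intro e e' he he' hye
      refine (hT e' he').2.2 _ ⟨(hT e he).1.pgroup.map _, ?_⟩ ?_
      · have h1 := ((hInv _).mp (hT e he).1.inv).map_conj y
        rw [hy₁, hy₂] at h1
        exact (hInv _).mpr (Inv.symm (Inv.left h1.symm) |> fun h => by
          have h2 := h1.left
          rw [show k * (i * k) = i by rw [W.comm, ← mul_assoc, mul_self_of_two W.hf, one_mul]] at h2
          exact h2.symm)
      · rw [← hye, ← Pp_map_conj y e]
        exact map_mono (hT e he).2.1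
    have h1 := himg i k hi hk hy₁
    have h2 := himg k (i * k) hk hl hy₂
    have hcard : ∀ e e', Ax a b e → Ax a b e' → y * e * y⁻¹ = e' →
        (T e).map (MulAut.conj y).toMonoidHom = T e' := by
      intro e e' he he' hye
      refine le_antisymm (himg e e' he he' hye) ?_
      have hback : (T e').map (MulAut.conj y⁻¹).toMonoidHom ≤ T e := by
        refine (hT e he).2.2 _ ⟨(hT e' he').1.pgroup.map _, ?_⟩ ?_
        · have h3 := ((hInv _).mp (hT e' he').1.inv).rot W |>.map_conj y⁻¹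
          rw [inv_inv, ← hy₁, show y⁻¹ * (y * i * y⁻¹) * y = i by group,
            show i * (y * i * y⁻¹) = i * k by rw [hy₁]] at h3
          refine (hInv _).mpr ?_
          rw [← hy₂, show y⁻¹ * (y * k * y⁻¹) * y = k by group] at h3
          exact h3
        · rw [show e = y⁻¹ * e' * y⁻¹⁻¹ by rw [← hye]; group, ← Pp_map_conj]
          exact map_mono (hT e' he').2.1
      intro x hx
      exact ⟨y⁻¹ * x * y, hback ⟨x, hx, by simp⟩, by simp [mul_assoc]⟩
    have hkl : T k = T (i * k) := by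
      rw [← hcard i k hi hk hy₁, ← hcard k (i * k) hk hl hy₂, hTik]
    refine ⟨T i, (hT i hi).1, fun e he => ?_⟩
    have hcase : e = i ∨ e = k ∨ e = i * k := by
      by_contra hcon
      simp only [not_or] at hcon
      have hne1 : i * k ≠ i := fun hh => ne_one_of_two W.hf (mul_eq_left.mp hh)
      have hne2 : i * k ≠ k := fun hh => ne_one_of_two W.he (mul_eq_right.mp hh)
      obtain ⟨c1, c2, c3⟩ := hcon
      rcases he with rfl | rfl | rfl <;> rcases hi with rfl | rfl | rfl <;>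
        rcases hk with rfl | rfl | rfl <;> rcases hl with hl | hl | hl <;>
        first
        | exact absurd rfl hik
        | exact absurd rfl c1
        | exact absurd rfl c2
        | exact absurd hl.symm c3
        | exact absurd hl hne1
        | exact absurd hl hne2
    rcases hcase with rfl | rfl | rfl
    · exact (hT _ hi).2.1
    · rw [hTik]; exact (hT _ hk).2.1
    · rw [hTik, hkl]; exact (hT _ hl).2.1
  exfalso
  push Not at heq
  have hne : ∀ i k, Ax a b i → Ax a b k → i ≠ k → T i ≠ T k := heq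
  have hYT : ∃ i, Ax a b i ∧ Y ≤ T i := by
    obtain ⟨Q, hQ, hQm⟩ := Finite.exists_le_maximal (p := PI a b p) hY
    have hQne : Q ≠ ⊥ := fun h => hm₁ (eq_bot_iff.mpr (h ▸ inf_le_left.trans hQ))
    obtain ⟨e, z, he, hz, hz1, hzc⟩ := hU.exists_central_axis V hp2 hQm.1 hQne
    exact ⟨e, he, hQ.trans (hU.le_top_of_centralized V hp2 he (hT e he).2.2 hQm.1 hz hz1 hzc)⟩
  obtain ⟨i, hi, hYi⟩ := hYT
  -- some other axis meets `T i`
  obtain ⟨e, he, hei, hme⟩ : ∃ e, Ax a b e ∧ e ≠ i ∧ T i ⊓ cent e ≠ ⊥ := by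
    by_cases h : d₁ = i
    · exact ⟨d₂, hd₂, h ▸ hd₁₂.symm, fun hb => hm₂ (eq_bot_iff.mpr
        ((inf_le_inf_right _ hYi).trans hb.le))⟩
    · exact ⟨d₁, hd₁, h, fun hb => hm₁ (eq_bot_iff.mpr ((inf_le_inf_right _ hYi).trans hb.le))⟩
  have hpair : ∃ i k, Ax a b i ∧ Ax a b k ∧ i ≠ k ∧ T i ⊓ T k ≠ ⊥ := by
    refine ⟨i, e, hi, he, Ne.symm hei, fun hbot => ?_⟩
    obtain ⟨⟨w, hw, hwc⟩, hw1⟩ := ne_bot_iff_exists_ne_one.mp hme
    have hw1' : w ≠ 1 := fun h => hw1 (Subtype.ext h)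
    have hTne : T i ≠ ⊥ := fun h => hw1' (Subgroup.mem_bot.mp (h ▸ hw))
    have hwP : w ∈ Pp p e := hU.inf_cent_le_Pp hp2 (hT i hi).1.pgroup (he.two V) ⟨hw, hwc⟩
    have hle := hU.le_top_of_centralized V hp2 he (hT e he).2.2
      (Y := T i ⊓ centralizer (T i : Set G))
      ⟨(hT i hi).1.pgroup.to_le inf_le_left,
        inv_center (hT i hi).1.inv (mul_self_of_two V.he) (mul_self_of_two V.hf)⟩ hwP hw1'
      fun x hx => (mem_centralizer_iff.mp hx.2 w hw).symm
    exact center_ne_bot (hT i hi).1.pgroup hTne (eq_bot_iff.mpr (hbot ▸ le_inf inf_le_left hle))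
  let W := {q : G × G // Ax a b q.1 ∧ Ax a b q.2 ∧ q.1 ≠ q.2}
  haveI : Nonempty W := ⟨⟨(a, b), hax.1, hax.2.1, V.ne⟩⟩
  obtain ⟨⟨⟨i, k⟩, hi, hk, hik⟩, hmax⟩ :=
    Finite.exists_max fun q : W => Nat.card (T q.1.1 ⊓ T q.1.2 : Subgroup G)
  simp only at hi hk hik hmax
  set D := T i ⊓ T k with hD
  have hDne : D ≠ ⊥ := by
    obtain ⟨i', k', hi', hk', hik', hne'⟩ := hpair
    intro h
    have := hmax ⟨(i', k'), hi', hk', hik'⟩
    simp only [h, card_bot] at this
    exact hne' (eq_bot_of_card_le _ this)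
  have hDp : PI a b p D := ⟨(hT i hi).1.pgroup.to_le inf_le_left, (hT i hi).1.inv.inf (hT k hk).1.inv⟩
  set L := normalizer (D : Set G) with hL
  rcases hU.fused_or_odd L with hodd | ⟨e₀, f₀, y, he₀, hf₀, hy, V₀, hy₁, hy₂⟩
  · refine hU.eq_of_odd_normalizer V hp2 (hTmax i hi) (hTmax k hk) (hne i k hi hk hik)
      (fun Q => ∃ d, Ax a b d ∧ Q = T d) ⟨i, hi, rfl⟩ ⟨k, hk, rfl⟩ ?_ ?_ hodd
    · intro S hS _ hSm
      -- every maximal one is a top
      have hSne : S ≠ ⊥ := fun h => hDne (eq_bot_iff.mpr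
        (h ▸ (le_inf inf_le_left le_normalizer : D ≤ T i ⊓ L).trans ‹_›))
      obtain ⟨e', z, he', hz, hz1, hzc⟩ := hU.exists_central_axis V hp2 hS hSne
      exact ⟨e', he', hSm.eq_of_le (hT e' he').1
        (hU.le_top_of_centralized V hp2 he' (hT e' he').2.2 hS hz hz1 hzc)⟩
    · rintro R₁ R₂ - - ⟨r₁, hr₁, rfl⟩ ⟨r₂, hr₂, rfl⟩ hR
      exact hmax ⟨(r₁, r₂), hr₁, hr₂, fun h => hR (congrArg T h)⟩
  -- the fused case: all axes meet the centre `U` of `D`
  set U := D ⊓ centralizer (D : Set G) with hUdef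
  have hDi := hDp.inv
  have hUi : Inv a b U := inv_center hDi (mul_self_of_two V.he) (mul_self_of_two V.hf)
  have hUpi : PI a b p U := ⟨hDp.pgroup.to_le inf_le_left, hUi⟩
  have hUne : U ≠ ⊥ := center_ne_bot hDp.pgroup hDne
  have hLU : L ≤ normalizer (U : Set G) :=
    Coprime.le_normalizer_inf le_rfl (Coprime.le_normalizer_centralizer le_rfl)
  have hUk : ∀ e, Ax a b e → U ⊓ cent e ≠ ⊥ := by
    intro e he hbot
    have haL : ∀ e, Ax a b e → e ∈ L := fun e he =>
      Inv.mem_normalizer_of (mul_self_of_two (he.two V)) (hDi.conj_ax he)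
    obtain ⟨e', he', hee'⟩ : ∃ e', Ax a b e' ∧ e ≠ e' := by
      by_cases h : e = a
      · exact ⟨b, hax.2.1, h ▸ V.ne⟩
      · exact ⟨a, hax.1, h⟩
    obtain ⟨h1, h2⟩ := hU.card_fix_eq (hU.odd_of_pgroup hp2 hUpi.pgroup) hLU he₀ hf₀ hy V₀ hy₁ hy₂
      (haL e he) (haL e' he') (he.pair V he' hee')
    rw [← h1, hbot, card_bot, one_pow] at h2
    exact hUne (eq_bot_of_card_eq _ h2)
  have hlt : D < T i := lt_of_le_of_ne inf_le_left fun h =>
    hne i k hi hk hik ((hTmax i hi).eq_of_le (hT k hk).1 (h ▸ inf_le_right))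
  set Y₁ := T i ⊓ L with hY₁
  have hY₁p : PI a b p Y₁ :=
    ⟨(hT i hi).1.pgroup.to_le inf_le_left, (hT i hi).1.inv.inf (hDi.normalizer_inv V)⟩
  have hW : ∀ e, Ax a b e → ∀ t ∈ Y₁, t * e = e * t →
      PI a b p (D ⊔ zpowers t) := by
    intro e he t ht hte
    refine ⟨(hT i hi).1.pgroup.to_le (sup_le inf_le_left (zpowers_le.mpr ht.1)), hDi.sup ?_⟩
    have key : ∀ d, Ax a b d → ∀ x ∈ zpowers t, d * x * d⁻¹ ∈ zpowers t := by
      intro d hd x hx
      obtain ⟨n, rfl⟩ := mem_zpowers_iff.mp hx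
      by_cases hde : d = e
      · subst hde
        have hc : Commute d (t ^ n) := (show Commute d t from hte.symm).zpow_right n
        rw [hc.eq, mul_inv_cancel_right]
        exact zpow_mem (mem_zpowers t) n
      · have htO : t ∈ O e := (hU.mem_O (he.two V)).mpr
          ⟨hte, odd_orderOf_of_mem (hU.odd_of_pgroup hp2 (hT i hi).1.pgroup) ht.1⟩
        rw [← conj_zpow, hU.inverts (he.pair V hd (Ne.symm hde)) htO]
        exact zpow_mem (inv_mem (mem_zpowers t)) n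
    exact ⟨key a hax.1, key b hax.2.1⟩
  have hstep : ∀ e, Ax a b e → ∀ u ∈ U, u * e = e * u → u ≠ 1 → ∀ e', Ax a b e' → ∀ t ∈ Y₁,
      t * e' = e' * t → t * u = u * t → D ⊔ zpowers t ≤ T e := by
    intro e he u hu hue hu1 e' he' t ht hte htu
    refine hU.le_top_of_centralized V hp2 he (hT e he).2.2 (hW e' he' t ht hte)
      (hU.inf_cent_le_Pp hp2 hUpi.pgroup (he.two V) ⟨hu, mem_cent.mpr hue⟩) hu1 fun x hx => ?_
    have : D ⊔ zpowers t ≤ cent u := sup_le
      (fun q hq => mem_cent.mpr (mem_centralizer_iff.mp hu.2 q hq))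
      (zpowers_le.mpr (mem_cent.mpr htu))
    exact mem_cent.mp (this hx)
  have hbig : ∀ e, Ax a b e → e ≠ i → ∀ t ∈ Y₁, D ⊔ zpowers t ≤ T e → t ∈ D := by
    intro e he hei t ht hle
    have h1 : D ⊔ zpowers t ≤ T i ⊓ T e := le_inf (sup_le inf_le_left (zpowers_le.mpr ht.1)) hle
    have h2 := hmax ⟨(i, e), hi, he, Ne.symm hei⟩
    have h3 := eq_of_le_of_card_ge (le_sup_left : D ≤ D ⊔ zpowers t)
      ((card_le_of_le h1).trans h2)
    rw [h3]
    exact mem_sup_right (mem_zpowers t)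
  refine (lt_inf_normalizer (hT i hi).1.pgroup hlt).not_ge ?_
  refine hU.pi_le V hp2 hY₁p fun e he => ?_
  rintro t ⟨ht, hte⟩
  replace hte : t * e = e * t := mem_cent.mp hte
  by_cases hei : e = i
  · subst hei
    -- `t` fixes a nontrivial element of `U` on another axis
    set M : Subgroup G :=
      { carrier := {u | u ∈ U ∧ e * u * e⁻¹ = u⁻¹}
        one_mem' := ⟨one_mem _, by simp⟩
        mul_mem' := fun {u v} hu hv => ⟨mul_mem hu.1 hv.1, by
          rw [show e * (u * v) * e⁻¹ = (e * u * e⁻¹) * (e * v * e⁻¹) by group, hu.2, hv.2,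
            mul_inv_rev]
          exact mem_centralizer_iff.mp (inv_mem hv.1).2 _ (inv_mem hu.1).1⟩
        inv_mem' := fun {u} hu => ⟨inv_mem hu.1, by rw [← conj_inv, hu.2]⟩ } with hM
    have hMU : M ≤ U := fun u hu => hu.1
    obtain ⟨e', he', hee'⟩ : ∃ e', Ax a b e' ∧ e ≠ e' := by
      by_cases h : e = a
      · exact ⟨b, hax.2.1, h ▸ V.ne⟩
      · exact ⟨a, hax.1, h⟩
    have W := he.pair V he' hee'
    have htn : ∀ u ∈ M, t * u * t⁻¹ ∈ M := fun u hu => ⟨(mem_normalizer_iff.mp (hLU ht.2) u).mp hu.1, by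
      calc e * (t * u * t⁻¹) * e⁻¹ = (e * t) * u * (e * t)⁻¹ := by group
        _ = t * (e * u * e⁻¹) * t⁻¹ := by rw [← hte]; group
        _ = _ := by rw [hu.2]; group⟩
    have hMne : M ≠ ⊥ := by
      obtain ⟨⟨u, hu, huc⟩, hu1⟩ := ne_bot_iff_exists_ne_one.mp (hUk e' he')
      replace huc : u * e' = e' * u := mem_cent.mp huc
      have hinv := (hU.fourAct W (hU.odd_of_pgroup hp2 hUpi.pgroup) (hUi.conj_ax he)
        (hUi.conj_ax he')).inverts_snd hu (by rw [← huc, mul_inv_cancel_right])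
      intro h
      exact hu1 (Subtype.ext (Subgroup.mem_bot.mp (h ▸ (⟨hu, hinv⟩ : u ∈ M))))
    -- fixed points of `t`
    set F : Subgroup G := M ⊓ cent t with hF
    have hFne : F ≠ ⊥ := by
      haveI : Nontrivial M := (nontrivial_iff_ne_bot M).mpr hMne
      have hnM : zpowers t ≤ normalizer (M : Set G) := zpowers_le.mpr (by
        refine mem_normalizer_iff.mpr fun x => ⟨htn x, fun hx => ?_⟩
        have hxU : x ∈ U := (mem_normalizer_iff.mp (hLU ht.2) x).mpr (hMU hx)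
        refine ⟨hxU, (MulAut.conj t).injective ?_⟩
        show t * (e * x * e⁻¹) * t⁻¹ = t * x⁻¹ * t⁻¹
        calc t * (e * x * e⁻¹) * t⁻¹ = (t * e) * x * (t * e)⁻¹ := by group
          _ = e * (t * x * t⁻¹) * e⁻¹ := by rw [hte]; group
          _ = _ := by rw [hx.2]; group)
      let f : (zpowers t : Subgroup G) →* MulAut M :=
        { toFun := fun g =>
            { toFun := fun u => ⟨g * u * (g : G)⁻¹, (mem_normalizer_iff.mp (hnM g.2) u).mp u.2⟩
              invFun := fun u => ⟨(g : G)⁻¹ * u * g,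
                (mem_normalizer_iff.mp (hnM g.2) _).mpr (by simp [mul_assoc])⟩
              left_inv := fun u => Subtype.ext (by simp [mul_assoc])
              right_inv := fun u => Subtype.ext (by simp [mul_assoc])
              map_mul' := fun u v => Subtype.ext (by simp [mul_assoc]) }
          map_one' := by ext; simp
          map_mul' := fun g h => by ext; simp [mul_assoc] }
      letI : MulAction (zpowers t : Subgroup G) M := MulAction.compHom M f
      have hdvd : p ∣ Nat.card M := by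
        rcases (hUpi.pgroup.to_le hMU).card_eq_or_dvd with h | h
        · exact absurd h (Finite.one_lt_card (α := M)).ne'
        · exact h
      have h1 : (1 : M) ∈ MulAction.fixedPoints (zpowers t : Subgroup G) M := fun g => map_one (f g)
      obtain ⟨u, hu, hu1⟩ :=
        (hY₁p.pgroup.to_le (zpowers_le.mpr ht)).exists_fixed_point_of_prime_dvd_card_of_fixed_point
          M hdvd h1
      intro h
      apply hu1
      have h2 : t * (u : G) * t⁻¹ = u := congrArg Subtype.val (hu ⟨t, mem_zpowers t⟩)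
      exact (Subtype.ext (Subgroup.mem_bot.mp
        (h ▸ (⟨u.2, mem_cent.mpr (mul_inv_eq_iff_eq_mul.mp h2).symm⟩ : (u : G) ∈ F)))).symm
    have htO : t ∈ O e := (hU.mem_O (he.two V)).mpr
      ⟨hte, odd_orderOf_of_mem (hU.odd_of_pgroup hp2 (hT e hi).1.pgroup) ht.1⟩
    have hFi : ∀ d, Ax a b d → ∀ u ∈ F, d * u * d⁻¹ ∈ F := by
      rintro d hd u ⟨⟨hu, hui⟩, hut⟩
      refine ⟨⟨hUi.conj_ax hd u hu, ?_⟩, ?_⟩
      · have hde : e * d = d * e := by
          by_cases h : e = d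
          · rw [h]
          · exact (he.pair V hd h).comm
        calc e * (d * u * d⁻¹) * e⁻¹ = (e * d) * u * (e * d)⁻¹ := by group
          _ = d * (e * u * e⁻¹) * d⁻¹ := by rw [hde]; group
          _ = _ := by rw [hui]; group
      · replace hut : u * t = t * u := mem_cent.mp hut
        refine mem_cent.mpr ?_
        have h1 : Commute (d * u * d⁻¹) (d * t * d⁻¹) := by
          show d * u * d⁻¹ * (d * t * d⁻¹) = d * t * d⁻¹ * (d * u * d⁻¹)
          calc d * u * d⁻¹ * (d * t * d⁻¹) = d * (u * t) * d⁻¹ := by group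
            _ = _ := by rw [hut]; group
        by_cases h : d = e
        · subst h
          rw [← hte, mul_inv_cancel_right] at h1
          exact h1.eq
        · rw [hU.inverts (he.pair V hd (Ne.symm h)) htO] at h1
          simpa using h1.inv_right.eq
    have hFpi : PI a b p F :=
      ⟨hUpi.pgroup.to_le (inf_le_left.trans hMU), hFi a hax.1, hFi b hax.2.1⟩
    obtain ⟨d, hd, hFd⟩ : ∃ d, Ax a b d ∧ F ⊓ cent d ≠ ⊥ := by
      by_contra hcon
      push Not at hcon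
      exact hFne (eq_bot_iff.mpr (hU.pi_le V hp2 hFpi fun d hd => (hcon d hd).le))
    obtain ⟨⟨u, ⟨⟨hu, hui⟩, hut⟩, hud⟩, hu1⟩ := ne_bot_iff_exists_ne_one.mp hFd
    have hu1' : u ≠ 1 := fun h => hu1 (Subtype.ext h)
    replace hud : u * d = d * u := mem_cent.mp hud
    replace hut : u * t = t * u := mem_cent.mp hut
    have hde : d ≠ e := fun h => hu1' (by
      subst h
      rw [← hud, mul_inv_cancel_right] at hui
      exact eq_one_of_inv_self (hU.odd_of_pgroup hp2 hUpi.pgroup) hu hui.symm)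
    exact hbig d hd hde t ht (hstep d hd u hu hud hu1' e he t ht hte hut.symm)
  · obtain ⟨⟨u, hu, huc⟩, hu1⟩ := ne_bot_iff_exists_ne_one.mp (hUk e he)
    have htO : t ∈ O e := (hU.mem_O (he.two V)).mpr
      ⟨hte, odd_orderOf_of_mem (hU.odd_of_pgroup hp2 (hT i hi).1.pgroup) ht.1⟩
    have huO : u ∈ O e := (hU.mem_O (he.two V)).mpr
      ⟨mem_cent.mp huc, odd_orderOf_of_mem (hU.odd_of_pgroup hp2 hUpi.pgroup) hu⟩
    exact hbig e he hei t ht (hstep e he u hu (mem_cent.mp huc) (fun h => hu1 (Subtype.ext h)) e he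
      t ht hte (hU.O_comm (he.two V) htO huO))


/-- In the joined case there is a largest invariant `p`-subgroup, containing all axes. -/
theorem uniform (hj : Joined a b p) :
    ∃ Q, PI a b p Q ∧ (∀ Y, PI a b p Y → Y ≤ Q) ∧ (∀ d, Ax a b d → Pp p d ≤ Q) ∧ Pp p a ≠ ⊥ := by
  obtain ⟨Q, hQ, hfull⟩ := hU.joined_full V hp2 hj
  refine ⟨Q, hQ, fun Y hY => hU.pi_le_of_full V hp2 hY hfull, hfull, fun h => ?_⟩
  obtain ⟨Y, hY, d, -, hd, -, -, hne, -⟩ := hj
  exact hne (eq_bot_iff.mpr (inf_le_left.trans (hU.pi_eq_bot_of_Pp V hp2 h hY).le))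

/-- In the other case every invariant `p`-subgroup lies on one axis. -/
theorem le_axis (hj : ¬ Joined a b p) {Y : Subgroup G} (hY : PI a b p Y) :
    ∃ d, Ax a b d ∧ Y ≤ Pp p d := by
  have hP : ∀ d, Ax a b d → Y ⊓ cent d ≤ Pp p d := fun d hd =>
    hU.inf_cent_le_Pp hp2 hY.pgroup (hd.two V)
  by_cases h : ∃ d, Ax a b d ∧ Y ⊓ cent d ≠ ⊥
  · obtain ⟨d, hd, hne⟩ := h
    refine ⟨d, hd, hU.pi_le V hp2 hY fun e he => ?_⟩
    by_cases hed : e = d
    · subst hed; exact hP e he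
    · have h0 : Y ⊓ cent e = ⊥ := by
        by_contra h'
        exact hj ⟨Y, hY, d, e, hd, he, Ne.symm hed, hne, h'⟩
      rw [h0]; exact bot_le
  · push Not at h
    exact ⟨a, Or.inl rfl, hU.pi_le V hp2 hY fun e he => by rw [h e he]; exact bot_le⟩

end Uni

end Cfsg.Agent.GenDih45
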