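import Cfsg.Agent.GenDih45.Beta
import Cfsg.Agent.GenDih45.Uniform
import Cfsg.Agent.InvChar68.MaximalClass

/-!
# The centraliser of one involution is of generalised dihedral shape
-/

set_option autoImplicit false

namespace Cfsg.Agent.GenDih45

open Subgroup

universe u

variable {G : Type u} [Group G] [Finite G] {z : G} {A : Subgroup G}

theorem oneInv_core (hA : Shape z A) (hz : orderOf z = 2)
    (hO : ∀ N : Subgroup G, N.Normal → Odd (Nat.card N) → N = ⊥) (hns : ¬ Group.IsSolvable G) :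
    IsTwoDimLinear G := by
  haveI : Fact (Nat.Prime 2) := ⟨Nat.prime_two⟩
  obtain ⟨T⟩ := (inferInstance : Nonempty (Sylow 2 (cent z)))
  set V := (T : Subgroup (cent z)).map (cent z).subtype with hV
  have hVle : V ≤ cent z := map_subtype_le _
  obtain ⟨P, hP⟩ := (T.2.map (cent z).subtype).exists_le_sylow
  have hVeq : (P : Subgroup G) ⊓ cent z = V := by
    refine le_antisymm (fun x hx => ?_) (le_inf hP hVle)
    have h1 : ((P : Subgroup G) ⊓ cent z).subgroupOf (cent z) = (T : Subgroup (cent z)) := by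
      refine T.3 ((P.2.to_le inf_le_left).comap_of_injective _ (cent z).subtype_injective)
        (fun t ht => ?_)
      exact ⟨hP ⟨t, ht, rfl⟩, t.2⟩
    exact ⟨⟨x, hx.2⟩, (h1 ▸ mem_subgroupOf.mpr hx : (⟨x, hx.2⟩ : cent z) ∈ (T : Subgroup (cent z))),
      rfl⟩
  have hconjV : ∀ u, orderOf u = 2 → u * z = z * u → ∃ c, c * z = z * c ∧ c * u * c⁻¹ ∈ V := by
    intro u hu huz
    obtain ⟨c, hc⟩ := involution_conj_sylow T (t := (⟨u, mem_cent.mpr huz⟩ : cent z))
      (by rw [Subgroup.orderOf_mk, hu])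
    exact ⟨c, mem_cent.mp c.2, ⟨_, hc, rfl⟩⟩
  have hzV : z ∈ V := by
    obtain ⟨c, hc, h⟩ := hconjV z hz rfl
    rwa [hc, mul_inv_cancel_right] at h
  have hzP : z ∈ (P : Subgroup G) := hP hzV
  obtain ⟨s₀, hs₀, hs₀A⟩ := hA.exists_out
  have hs₀2 : orderOf s₀ = 2 :=
    orderOf_two_of (hA.out s₀ hs₀ hs₀A).1 fun e => hs₀A (e ▸ one_mem A)
  obtain ⟨c, hc, hcV⟩ := hconjV s₀ hs₀2 hs₀
  set s := c * s₀ * c⁻¹ with hsdef
  have hsA : s ∉ A := by
    intro hsA
    apply hs₀A
    by_cases hcA : c ∈ A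
    · simpa [hsdef, mul_assoc] using mul_mem (mul_mem (inv_mem hcA) hsA) hcA
    · obtain ⟨hcc, hcinv⟩ := hA.out c hc hcA
      have h1 := hcinv s hsA
      rw [hsdef, inv_eq_of_mul_eq_one_right hcc] at h1
      rw [show c * (c * s₀ * c) * c = (c * c) * s₀ * (c * c) by group, hcc, one_mul, mul_one] at h1
      rw [h1]
      have h2 : c * s₀ * c ∈ A := by rwa [hsdef, inv_eq_of_mul_eq_one_right hcc] at hsA
      exact inv_mem h2
  have hsP : s ∈ (P : Subgroup G) := hP hcV
  by_cases hPz : (P : Subgroup G) ≤ cent z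
  · exact alpha hA hz P (fun x hx => mem_cent.mp (hPz hx)) hzP hO hns hsP hsA
  -- now the Sylow subgroup of `C(z)` is a four-group
  have hlt : V < (P : Subgroup G) := lt_of_le_of_ne hP fun e => hPz (e ▸ hVle)
  obtain ⟨g, hg, hgV⟩ := SetLike.exists_of_lt (lt_inf_normalizer P.2 hlt)
  have hgz : ¬ g * z = z * g := fun e => hgV (hVeq ▸ ⟨hg.1, mem_cent.mpr e⟩)
  have hsmall : ∀ a ∈ V, a ∈ A → a * a = 1 := by
    intro a haV haA
    by_contra ha
    obtain ⟨-, -, h⟩ := sq_facts (C := V ⊓ A) ((T.2.map (cent z).subtype).to_le inf_le_left)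
      (fun p hp q hq => hA.comm p hp.2 q hq.2) (z := z) ⟨hzV, hA.mem⟩ hz
      (fun p hp => hA.uniq p hp.2)
    obtain ⟨d, hd, hdz⟩ := h.resolve_right fun h' => ha (h' a ⟨haV, haA⟩)
    apply hgz
    set e := g * d * g⁻¹ with hedef
    have heV : e ∈ V := (mem_normalizer_iff.mp hg.2 d).mp hd.1
    have hee : g * z * g⁻¹ = e * e := by rw [hdz, hedef]; group
    have hne : e * e ≠ 1 := fun e' => ne_one_of_two hz (conj_eq_one_iff.mp (hee.trans e'))
    by_cases heA : e ∈ A
    · have h2 : orderOf (e * e) = 2 := by rw [← hee, orderOf_conj', hz]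
      have h3 := (hA.uniq _ (mul_mem heA heA) (mul_self_of_two h2)).resolve_left hne
      exact mul_inv_eq_iff_eq_mul.mp (hee.trans h3)
    · exact absurd (hA.out e (mem_cent.mp (hVle heV)) heA).1 hne
  have hfour : Nat.card V = 4 := by
    classical
    have h1 : (V : Set G) = ({1, z, s, s * z} : Set G) := by
      ext v
      constructor
      · intro hv
        have key : ∀ a ∈ V, a ∈ A → a = 1 ∨ a = z := fun a ha haA => hA.uniq a haA (hsmall a ha haA)
        by_cases hvA : v ∈ A
        · rcases key v hv hvA with e | e <;> simp [e]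
        · have hm := hA.mul s v (mem_cent.mp (hVle hcV)) hsA (mem_cent.mp (hVle hv)) hvA
          have hv' : v = s * (s * v) := by
            rw [← mul_assoc, (hA.out s (mem_cent.mp (hVle hcV)) hsA).1, one_mul]
          rcases key _ (mul_mem hcV hv) hm with e | e <;> rw [e] at hv' <;> simp [hv']
      · rintro (rfl | rfl | rfl | rfl)
        exacts [one_mem V, hzV, hcV, mul_mem hcV hzV]
    rw [← SetLike.coe_sort_coe, Nat.card_coe_set_eq, h1, Set.ncard_insert_of_notMem,
      Set.ncard_insert_of_notMem, Set.ncard_pair]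
    · exact fun e => ne_one_of_two hz (left_eq_mul.mp e)
    · simp only [Set.mem_insert_iff, Set.mem_singleton_iff, not_or]
      exact ⟨fun e => hsA (e ▸ hA.mem), fun e => hsA (by
        rw [right_eq_mul.mp e]; exact one_mem A)⟩
    · simp only [Set.mem_insert_iff, Set.mem_singleton_iff, not_or]
      refine ⟨(ne_one_of_two hz).symm, fun e => hsA (e ▸ one_mem A), fun e => hsA ?_⟩
      rw [eq_inv_of_mul_eq_one_left e.symm]
      exact inv_mem hA.mem
  -- a cyclic subgroup of index two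
  set z' : (P : Subgroup G) := ⟨z, hzP⟩ with hz'
  have hz'2 : orderOf z' = 2 := by rw [hz', Subgroup.orderOf_mk, hz]
  have hC4 : Nat.card (centralizer ({z'} : Set (P : Subgroup G))) = 4 := by
    rw [← hfour, ← hVeq]
    refine Nat.card_congr
      { toFun := fun x => ⟨((x : (P : Subgroup G)) : G), (x : (P : Subgroup G)).2,
          mem_cent.mpr (congrArg Subtype.val (mem_cent.mp x.2))⟩
        invFun := fun x => ⟨⟨x.1, x.2.1⟩, mem_cent.mpr (Subtype.ext (mem_cent.mp x.2.2))⟩
        left_inv := fun _ => rfl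
        right_inv := fun _ => rfl }
  have hP4 : 4 < Nat.card (P : Subgroup G) := by
    refine lt_of_le_of_ne (hfour ▸ card_le_of_le hP) fun e => hlt.ne ?_
    exact eq_of_le_of_card_ge hP (by rw [hfour]; exact e.ge)
  obtain ⟨r, hri, hrz⟩ := InvChar68.exists_cyclic_index_two (Nat.card (P : Subgroup G)) le_rfl P.2
    hz'2 hC4 hP4
  haveI := normal_of_index_eq_two hri
  have hK : ∀ y : (P : Subgroup G), (y : G) ∈ zpowers (r : G) ↔ y ∈ zpowers r := fun y => by
    rw [mem_zpowers_iff, mem_zpowers_iff]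
    exact exists_congr fun i => ⟨fun e => Subtype.ext (by simpa using e),
      fun e => by rw [← e]; simp⟩
  obtain ⟨j, h⟩ := exists_MC (P := (P : Subgroup G)) P.2 hz hzP r.2
    (fun e => hrz ((hK z').mp e))
    (by
      have h1 := Subgroup.Normal.conj_mem inferInstance r (mem_zpowers r) z'
      have h2 := (hK _).mpr h1
      rwa [Subgroup.coe_mul, Subgroup.coe_mul, Subgroup.coe_inv, hz', inv_of_two hz] at h2)
    (fun x hx => by
      by_cases hxK : (⟨x, hx⟩ : (P : Subgroup G)) ∈ zpowers r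
      · exact Or.inl ((hK _).mpr hxK)
      · exact Or.inr ((hK (z' * ⟨x, hx⟩)).mpr
          ((mul_mem_iff_of_index_two hri).mpr (by simp [hrz, hxK]))))
    (by rw [hVeq, hfour])
    (fun e => by
      have h1 : orderOf r ∣ 2 := orderOf_dvd_of_pow_eq_one
        (Subtype.ext (by rw [pow_two]; exact e))
      have h2 := (zpowers r).card_mul_index
      rw [Nat.card_zpowers, hri] at h2
      have := Nat.le_of_dvd two_pos h1
      omega)
  refine beta hO hns hA h (h.not_isConj fun Q hQ hQz => ?_)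
  obtain ⟨c, hc⟩ := sylow_two_conj T (Q := Q.subgroupOf (cent z))
    (hQ.comap_of_injective _ (cent z).subtype_injective)
  rw [← hfour, hV, card_map_of_injective (cent z).subtype_injective,
    ← Nat.card_congr (subgroupOfEquivOfLe hQz).toEquiv]
  exact Nat.card_le_card_of_injective (fun q => (⟨c * q * c⁻¹, hc q q.2⟩ : (T : Subgroup (cent z))))
    fun a b e => Subtype.ext ((MulAut.conj c).injective (congrArg Subtype.val e))

/-- A group with an involution centraliser of generalised dihedral shape is solvable or has a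
normal subgroup of odd order with quotient `PSL(2, q)` or `PGL(2, q)`. -/
theorem oneInv (hA : Shape z A) (hz : orderOf z = 2) (hns : ¬ Group.IsSolvable G) :
    ∃ (N : Subgroup G) (_ : N.Normal), Odd (Nat.card N) ∧ IsTwoDimLinear (G ⧸ N) := by
  set N := Cfsg.oddCore G with hN
  have hNodd : Odd (Nat.card N) :=
    Nat.coprime_two_right.mp (Thompson.card_pPrimeCore_coprime (p := 2) (G := G))
  haveI hNn : N.Normal := by rw [hN]; infer_instance
  refine ⟨N, hNn, hNodd, ?_⟩
  set π := QuotientGroup.mk' N with hπ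
  have hπsurj : Function.Surjective π := QuotientGroup.mk'_surjective _
  have hπ1 : ∀ x, π x = 1 ↔ x ∈ N := QuotientGroup.eq_one_iff
  have hzz := mul_self_of_two hz
  have hz' : orderOf (π z) = 2 := orderOf_two_of (by rw [← map_mul, hzz, map_one]) fun e => by
    have := odd_orderOf_of_mem hNodd ((hπ1 z).mp e)
    rw [hz] at this
    exact absurd this (by decide)
  -- fixed cosets of an involution contain fixed elements
  have hfix : ∀ q, q * π z = π z * q → ∃ c, c * z = z * c ∧ π c = q := by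
    intro q hq
    obtain ⟨y, rfl⟩ := hπsurj q
    have hy : y * z * y⁻¹ * z⁻¹ ∈ N := (hπ1 _).mp (by
      rw [map_mul, map_mul, map_mul, map_inv, map_inv, hq, mul_inv_cancel_right, mul_inv_cancel])
    have h2 : z * y * z⁻¹ * y⁻¹ ∈ N := by
      have := inv_mem hy
      simpa [mul_assoc] using this
    obtain ⟨m, hm, hmm⟩ := exists_sqrt hNodd h2
    have hzn : z * (z * y * z⁻¹ * y⁻¹) * z⁻¹ = (z * y * z⁻¹ * y⁻¹)⁻¹ := by
      calc z * (z * y * z⁻¹ * y⁻¹) * z⁻¹ = (z * z) * y * z⁻¹ * y⁻¹ * z⁻¹ := by group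
        _ = y * z * y⁻¹ * z⁻¹ := by rw [hzz, one_mul, inv_of_two hz]
        _ = _ := by group
    have hzm : z * m * z⁻¹ = m⁻¹ := by
      refine sq_injective_of_odd (odd_orderOf_of_mem hNodd (hNn.conj_mem m hm z))
        (odd_orderOf_of_mem hNodd (inv_mem hm)) ?_
      rw [show z * m * z⁻¹ * (z * m * z⁻¹) = z * (m * m) * z⁻¹ by group, hmm, hzn, ← hmm,
        mul_inv_rev]
    refine ⟨m * y, ?_, by rw [map_mul, (hπ1 m).mpr hm, one_mul]⟩
    have hc : z * (m * y) * z⁻¹ = m * y := by
      calc z * (m * y) * z⁻¹ = (z * m * z⁻¹) * (z * y * z⁻¹ * y⁻¹) * y := by group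
        _ = m⁻¹ * (m * m) * y := by rw [hzm, hmm]
        _ = _ := by group
    exact (mul_inv_eq_iff_eq_mul.mp hc).symm
  have hmem : ∀ q, q ∈ A.map π ↔ ∃ a ∈ A, π a = q := fun q => mem_map
  have hA' : Shape (π z) (A.map π) := by
    have hout : ∀ q, q * π z = π z * q → q ∉ A.map π → ∃ c, c * z = z * c ∧ c ∉ A ∧ π c = q := by
      intro q hq hqA
      obtain ⟨c, hc, rfl⟩ := hfix q hq
      exact ⟨c, hc, fun e => hqA ⟨c, e, rfl⟩, rfl⟩
    constructor
    · rintro _ ⟨a, ha, rfl⟩
      rw [← map_mul, ← map_mul, hA.le a ha]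
    · exact ⟨z, hA.mem, rfl⟩
    · rintro _ ⟨a, ha, rfl⟩ _ ⟨b, hb, rfl⟩
      rw [← map_mul, ← map_mul, hA.comm a ha b hb]
    · intro q hq hqA
      obtain ⟨c, hc, hcA, rfl⟩ := hout q hq hqA
      obtain ⟨h1, h2⟩ := hA.out c hc hcA
      refine ⟨by rw [← map_mul, h1, map_one], ?_⟩
      rintro _ ⟨a, ha, rfl⟩
      rw [← map_inv, ← map_mul, ← map_mul, h2 a ha, map_inv]
    · intro p q hp hpA hq hqA
      obtain ⟨c, hc, hcA, rfl⟩ := hout p hp hpA
      obtain ⟨d, hd, hdA, rfl⟩ := hout q hq hqA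
      exact ⟨c * d, hA.mul c d hc hcA hd hdA, map_mul _ _ _⟩
    · rintro _ ⟨a, ha, rfl⟩ e
      rw [← map_mul, hπ1] at e
      obtain ⟨k, hk⟩ := odd_orderOf_of_mem hNodd e
      set m := orderOf (a * a)
      have h1 : a ^ m * a ^ m = 1 := by rw [← (Commute.refl a).mul_pow, pow_orderOf_eq_one]
      have h2 : π (a ^ m) = π a := by
        rw [show m = 2 * k + 1 from hk, pow_succ, pow_mul, pow_two, map_mul, map_pow,
          (hπ1 _).mpr e, one_pow, one_mul]
      rcases hA.uniq _ (pow_mem ha m) h1 with f | f <;> rw [f] at h2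
      · exact Or.inl (by rw [← h2, map_one])
      · exact Or.inr h2.symm
    · obtain ⟨x, hx, hxA⟩ := hA.exists_out
      refine ⟨π x, by rw [← map_mul, ← map_mul, hx], ?_⟩
      rintro ⟨a, ha, hax⟩
      have hax' : a⁻¹ * x ∈ N := (hπ1 _).mp (by rw [map_mul, map_inv, hax, inv_mul_cancel])
      have hn : a⁻¹ * x ∉ A := fun e => hxA (by simpa using mul_mem ha e)
      have h3 : (a⁻¹ * x) * z = z * (a⁻¹ * x) := by
        have hac : a⁻¹ * z = z * a⁻¹ := (Commute.inv_left (hA.le a ha)).eq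
        rw [mul_assoc, hx, ← mul_assoc, hac, mul_assoc]
      exact hn (by
        rw [eq_one_of_odd_of_sq (odd_orderOf_of_mem hNodd hax') (hA.out _ h3 hn).1]
        exact one_mem A)
  refine oneInv_core hA' hz' (fun M hM hModd => ?_) fun e =>
    hns (isSolvable_of_extension N (isSolvable_of_odd hNodd) e)
  have h1 : M.comap π ≤ N := by
    refine Thompson.le_pPrimeCore (hM.comap π) (Nat.coprime_two_right.mpr ?_)
    have h2 := (M.comap π).card_mul_index
    rw [index_comap_of_surjective _ hπsurj, ← N.card_mul_index, index_eq_card N,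
      ← M.card_mul_index, ← mul_assoc] at h2
    rw [Nat.eq_of_mul_eq_mul_right (Nat.pos_of_ne_zero FiniteIndex.index_ne_zero) h2]
    exact hNodd.mul hModd
  rw [eq_bot_iff]
  intro q hq
  obtain ⟨y, rfl⟩ := hπsurj q
  exact mem_bot.mpr ((hπ1 y).mpr (h1 hq))

end Cfsg.Agent.GenDih45
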