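import Cfsg.Agent.GenDih45.Four

/-!
# Four-group actions with abelian fixed-point subgroups
-/

set_option autoImplicit false

namespace Cfsg.Agent.GenDih45

open Subgroup

variable {G : Type*} [Group G]

/-- Commuting involutory elements `a`, `b` normalise the odd subgroup `K`, have no common fixed point
and each of `a`, `b`, `a * b` has an abelian fixed-point subgroup. -/
structure FourAct (a b : G) (K : Subgroup G) : Prop where
  ha : a * a = 1
  hb : b * b = 1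
  hab : a * b = b * a
  odd : Odd (Nat.card K)
  haK : ∀ x ∈ K, a * x * a⁻¹ ∈ K
  hbK : ∀ x ∈ K, b * x * b⁻¹ ∈ K
  fpf : ∀ x ∈ K, a * x * a⁻¹ = x → b * x * b⁻¹ = x → x = 1
  comm : ∀ e, (e = a ∨ e = b ∨ e = a * b) → ∀ x ∈ K, e * x * e⁻¹ = x →
    ∀ y ∈ K, e * y * e⁻¹ = y → x * y = y * x

namespace FourAct

variable {a b : G} {K : Subgroup G} (W : FourAct a b K)

include W

theorem habsq : a * b * (a * b) = 1 := by
  calc a * b * (a * b) = a * (b * a) * b := by group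
    _ = (a * a) * (b * b) := by rw [← W.hab]; group
    _ = 1 := by rw [W.ha, W.hb, one_mul]

theorem mul_ab : b * (a * b) = a := by
  rw [W.hab, ← mul_assoc, W.hb, one_mul]

theorem habK : ∀ x ∈ K, a * b * x * (a * b)⁻¹ ∈ K := fun x hx => by
  rw [show a * b * x * (a * b)⁻¹ = a * (b * x * b⁻¹) * a⁻¹ by group]
  exact W.haK _ (W.hbK x hx)

theorem conj_ab {x : G} (h₁ : a * x * a⁻¹ = x) (h₂ : b * x * b⁻¹ = x) :
    a * b * x * (a * b)⁻¹ = x := by
  rw [show a * b * x * (a * b)⁻¹ = a * (b * x * b⁻¹) * a⁻¹ by group, h₂, h₁]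

theorem swap : FourAct b a K where
  ha := W.hb
  hb := W.ha
  hab := W.hab.symm
  odd := W.odd
  haK := W.hbK
  hbK := W.haK
  fpf := fun x hx h₁ h₂ => W.fpf x hx h₂ h₁
  comm := fun e he => W.comm e (by
    rcases he with rfl | rfl | rfl
    · exact Or.inr (Or.inl rfl)
    · exact Or.inl rfl
    · exact Or.inr (Or.inr W.hab.symm))

/-- Replace `b` by `a * b`. -/
theorem third : FourAct a (a * b) K where
  ha := W.ha
  hb := W.habsq
  hab := by rw [mul_assoc a b a, ← W.hab]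
  odd := W.odd
  haK := W.haK
  hbK := W.habK
  fpf := fun x hx h₁ h₂ => W.fpf x hx h₁ (by
    have h : b * x * b⁻¹ = a⁻¹ * (a * b * x * (a * b)⁻¹) * a := by group
    rw [h, h₂]
    calc a⁻¹ * x * a = a⁻¹ * (a * x * a⁻¹) * a := by rw [h₁]
      _ = x := by group)
  comm := fun e he => W.comm e (by
    rcases he with rfl | rfl | rfl
    · exact Or.inl rfl
    · exact Or.inr (Or.inr rfl)
    · exact Or.inr (Or.inl (by rw [← mul_assoc, W.ha, one_mul])))

theorem mono {L : Subgroup G} [Finite G] (hLK : L ≤ K) (haL : ∀ x ∈ L, a * x * a⁻¹ ∈ L)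
    (hbL : ∀ x ∈ L, b * x * b⁻¹ ∈ L) : FourAct a b L where
  ha := W.ha
  hb := W.hb
  hab := W.hab
  odd := W.odd.of_dvd_nat (card_dvd_of_le hLK)
  haK := haL
  hbK := hbL
  fpf := fun x hx => W.fpf x (hLK hx)
  comm := fun e he x hx hex y hy hey => W.comm e he x (hLK hx) hex y (hLK hy) hey

variable [Finite G]

theorem inverts_fst {x : G} (hx : x ∈ K) (h : a * x * a⁻¹ = x) : b * x * b⁻¹ = x⁻¹ :=
  inverts_fixed_fst W.ha W.hb W.hab W.odd W.haK W.hbK W.fpf hx h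

theorem inverts_snd {x : G} (hx : x ∈ K) (h : b * x * b⁻¹ = x) : a * x * a⁻¹ = x⁻¹ :=
  W.swap.inverts_fst hx h

theorem le_of_fixed_le' {L : Subgroup G}
    (h : ∀ e, (e = a ∨ e = b ∨ e = a * b) → ∀ x ∈ K, e * x * e⁻¹ = x → x ∈ L) : K ≤ L :=
  le_of_fixed_le W.ha W.hb W.hab W.odd W.haK W.hbK W.fpf
    (fun x hx => h a (Or.inl rfl) x (mem_inf_centralizer.mp hx).1 (mem_inf_centralizer.mp hx).2)
    (fun x hx => h b (Or.inr (Or.inl rfl)) x (mem_inf_centralizer.mp hx).1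
      (mem_inf_centralizer.mp hx).2)
    (fun x hx => h _ (Or.inr (Or.inr rfl)) x (mem_inf_centralizer.mp hx).1
      (mem_inf_centralizer.mp hx).2)

end FourAct

/-- An element of `K` fixed modulo an invariant normal subgroup has a fixed representative. -/
theorem exists_fixed_rep [Finite G] {a : G} (ha : a * a = 1) {K N : Subgroup G}
    (hK : Odd (Nat.card K)) (haK : ∀ x ∈ K, a * x * a⁻¹ ∈ K) {x : G} (hx : x ∈ K)
    (h : a * x * a⁻¹ * x⁻¹ ∈ N) :
    ∃ n ∈ K ⊓ N, ∃ w ∈ K, a * w * a⁻¹ = w ∧ x = n * w := by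
  obtain ⟨i, ⟨hiK, hia⟩, w, hw, hxw⟩ := exists_inv_mul_fixed ha hK haK hx
  obtain ⟨hwK, hwa⟩ := mem_inf_centralizer.mp hw
  refine ⟨i, ⟨hiK, ?_⟩, w, hwK, hwa, hxw⟩
  have h1 : a * x * a⁻¹ * x⁻¹ = (i * i)⁻¹ := by
    rw [hxw, show a * (i * w) * a⁻¹ = (a * i * a⁻¹) * (a * w * a⁻¹) by group, hia, hwa]
    group
  obtain ⟨m, hm⟩ := exists_pow_eq_self_of_coprime (x := i) (n := 2)
    (Nat.coprime_two_left.mpr (odd_orderOf_of_mem hK hiK))
  rw [← hm]
  refine N.pow_mem ?_ m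
  rw [sq]
  rw [← inv_inv (i * i)]
  exact inv_mem (h1 ▸ h)

/-- An element of `K` fixed by `a` and `b` modulo `N` lies in `N`. -/
theorem FourAct.mem_of_fixed_mod [Finite G] {a b : G} {K N : Subgroup G} (W : FourAct a b K)
    [N.Normal] {x : G} (hx : x ∈ K) (h₁ : a * x * a⁻¹ * x⁻¹ ∈ N) (h₂ : b * x * b⁻¹ * x⁻¹ ∈ N) :
    x ∈ N := by
  have hN : N.Normal := inferInstance
  obtain ⟨n, hn, w, hw, hwa, rfl⟩ := exists_fixed_rep W.ha W.odd W.haK hx h₁
  refine mul_mem hn.2 ?_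
  have h3 : b * w * b⁻¹ = w⁻¹ := W.inverts_fst hw hwa
  have h4 : b * w * b⁻¹ * w⁻¹ ∈ N := by
    have h5 := hN.conj_mem _ (inv_mem hn.2) b
    have h6 := mul_mem (mul_mem h5 h₂) hn.2
    convert h6 using 1
    group
  rw [h3] at h4
  obtain ⟨m, hm⟩ := exists_pow_eq_self_of_coprime (x := w) (n := 2)
    (Nat.coprime_two_left.mpr (odd_orderOf_of_mem W.odd hw))
  rw [← hm]
  refine N.pow_mem ?_ m
  rw [sq, ← inv_inv (w * w), mul_inv_rev]
  exact inv_mem h4

/-- The image modulo a normal subgroup. -/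
theorem FourAct.map_quot [Finite G] {a b : G} {K N : Subgroup G} (W : FourAct a b K) [N.Normal] :
    FourAct (QuotientGroup.mk' N a) (QuotientGroup.mk' N b) (K.map (QuotientGroup.mk' N)) where
  ha := by rw [← map_mul, W.ha, map_one]
  hb := by rw [← map_mul, W.hb, map_one]
  hab := by rw [← map_mul, ← map_mul, W.hab]
  odd := W.odd.of_dvd_nat (card_map_dvd K _)
  haK := by
    rintro _ ⟨x, hx, rfl⟩
    exact ⟨a * x * a⁻¹, W.haK x hx, by simp⟩
  hbK := by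
    rintro _ ⟨x, hx, rfl⟩
    exact ⟨b * x * b⁻¹, W.hbK x hx, by simp⟩
  fpf := by
    rintro _ ⟨x, hx, rfl⟩ h₁ h₂
    rw [← map_inv, ← map_mul, ← map_mul] at h₁ h₂
    exact (QuotientGroup.eq_one_iff x).mpr (W.mem_of_fixed_mod hx
      ((QuotientGroup.eq_one_iff _).mp (by
        rw [← QuotientGroup.mk'_apply, map_mul, h₁, ← map_mul, mul_inv_cancel, map_one]))
      ((QuotientGroup.eq_one_iff _).mp (by
        rw [← QuotientGroup.mk'_apply, map_mul, h₂, ← map_mul, mul_inv_cancel, map_one])))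
  comm := by
    intro e he
    obtain ⟨e₀, he₀, hee, hinv, hsq⟩ : ∃ e₀, (e₀ = a ∨ e₀ = b ∨ e₀ = a * b) ∧
        QuotientGroup.mk' N e₀ = e ∧ (∀ x ∈ K, e₀ * x * e₀⁻¹ ∈ K) ∧ e₀ * e₀ = 1 := by
      rcases he with rfl | rfl | rfl
      · exact ⟨a, Or.inl rfl, rfl, W.haK, W.ha⟩
      · exact ⟨b, Or.inr (Or.inl rfl), rfl, W.hbK, W.hb⟩
      · exact ⟨a * b, Or.inr (Or.inr rfl), map_mul _ _ _, W.habK, W.habsq⟩
    have hlift : ∀ x ∈ K, e * QuotientGroup.mk' N x * e⁻¹ = QuotientGroup.mk' N x →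
        ∃ w ∈ K, e₀ * w * e₀⁻¹ = w ∧ QuotientGroup.mk' N w = QuotientGroup.mk' N x := by
      intro x hx h
      rw [← hee, ← map_inv, ← map_mul, ← map_mul] at h
      obtain ⟨n, hn, w, hw, hwe, hxw⟩ := exists_fixed_rep hsq W.odd hinv hx
        ((QuotientGroup.eq_one_iff (N := N) _).mp (by
          rw [← QuotientGroup.mk'_apply, map_mul, h, ← map_mul, mul_inv_cancel, map_one]))
      refine ⟨w, hw, hwe, ?_⟩
      rw [hxw, map_mul, show QuotientGroup.mk' N n = 1 from (QuotientGroup.eq_one_iff n).mpr hn.2,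
        one_mul]
    rintro _ ⟨x, hx, rfl⟩ hex _ ⟨y, hy, rfl⟩ hey
    obtain ⟨u, hu, hue, hux⟩ := hlift x hx hex
    obtain ⟨v, hv, hve, hvy⟩ := hlift y hy hey
    rw [← hux, ← hvy, ← map_mul, ← map_mul, W.comm e₀ he₀ u hu hue v hv hve]

end Cfsg.Agent.GenDih45
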