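import Cfsg.Agent.GenDih45.Basic
import Cfsg.Agent.Normalisers5.PGL

/-!
# `PGL(2, q)` as an extension of degree two

A group without elementary abelian subgroup of order eight that has a self-centralising subgroup
`PSL(2, q)` of index two, `q` odd, and an involution outside it, is `PGL(2, q)`.
-/

set_option autoImplicit false
set_option linter.style.haveILetI false

namespace Cfsg.Agent.GenDih45

open Subgroup AutPSL

variable {G : Type*} [Group G] [Finite G]

/-- There is no elementary abelian subgroup of order eight. -/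
def NoEight (G : Type*) [Group G] : Prop :=
  ∀ a b c : G, orderOf a = 2 → orderOf b = 2 → orderOf c = 2 → a * b = b * a → a * c = c * a →
    b * c = c * b → a ≠ b → c = a ∨ c = b ∨ c = a * b

omit [Finite G] in
theorem NoEight.subgroup (h : NoEight G) (H : Subgroup G) : NoEight H := by
  intro a b c ha hb hc hab hac hbc hne
  rcases h a b c (by rw [orderOf_coe, ha]) (by rw [orderOf_coe, hb]) (by rw [orderOf_coe, hc])
    (congrArg Subtype.val hab) (congrArg Subtype.val hac) (congrArg Subtype.val hbc)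
    (fun e => hne (Subtype.ext e)) with e | e | e
  exacts [Or.inl (Subtype.ext e), Or.inr (Or.inl (Subtype.ext e)),
    Or.inr (Or.inr (Subtype.ext e))]

/-- A field automorphism of `PSL(2, q)`, `q` odd, fixes a four-group. -/
theorem exists_fixed_four {F : Type} [Field F] [Fintype F] (hodd : Odd (Fintype.card F))
    {σ : F ≃+* F} {φ : MulAut (Matrix.ProjectiveSpecialLinearGroup (Fin 2) F)}
    (hφ : IsSemi (1 : GL (Fin 2) F) σ φ) :
    ∃ T₁ T₂ : Matrix.ProjectiveSpecialLinearGroup (Fin 2) F, φ T₁ = T₁ ∧ φ T₂ = T₂ ∧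
      orderOf T₁ = 2 ∧ orderOf T₂ = 2 ∧ T₁ ≠ T₂ ∧ T₁ * T₂ = T₂ * T₁ := by
  obtain ⟨p, hp⟩ := CharP.exists F
  haveI : Fact p.Prime := ⟨CharP.char_is_prime F p⟩
  obtain ⟨n, -, hn⟩ := FiniteField.card F p
  have hp2 : p ≠ 2 := by
    rintro rfl
    rw [hn] at hodd
    exact Nat.not_even_iff_odd.mpr hodd (Nat.even_pow.mpr ⟨even_two, n.pos.ne'⟩)
  have h20 : (2 : F) ≠ 0 := by
    intro h
    have h' : ((2 : ℕ) : F) = 0 := by exact_mod_cast h
    rw [CharP.cast_eq_zero_iff F p] at h'
    exact hp2 ((Nat.prime_dvd_prime_iff_eq Fact.out Nat.prime_two).mp h')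
  obtain ⟨a₀, b₀, hab₀⟩ := ZMod.sq_add_sq p (-1)
  set a : F := ZMod.castHom (dvd_refl p) F a₀ with ha
  set b : F := ZMod.castHom (dvd_refl p) F b₀ with hb
  have hab : a ^ 2 + b ^ 2 = -1 := by
    rw [ha, hb, ← map_pow, ← map_pow, ← map_add, hab₀, map_neg, map_one]
  have hσ : ∀ x : ZMod p, σ (ZMod.castHom (dvd_refl p) F x) = ZMod.castHom (dvd_refl p) F x :=
    fun x => RingHom.congr_fun (Subsingleton.elim
      (σ.toRingHom.comp (ZMod.castHom (dvd_refl p) F)) (ZMod.castHom (dvd_refl p) F)) x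
  let s₁ : Matrix.SpecialLinearGroup (Fin 2) F :=
    ⟨!![0, 1; -1, 0], by rw [Matrix.det_fin_two_of]; ring⟩
  let s₂ : Matrix.SpecialLinearGroup (Fin 2) F :=
    ⟨!![a, b; b, -a], by rw [Matrix.det_fin_two_of]; linear_combination -hab⟩
  have hfix : ∀ s : Matrix.SpecialLinearGroup (Fin 2) F,
      (s : Matrix (Fin 2) (Fin 2) F).map σ = (s : Matrix (Fin 2) (Fin 2) F) →
      φ (QuotientGroup.mk s) = QuotientGroup.mk s := by
    intro s hs
    refine hφ s s (Units.ext ?_)
    rw [act_coe, rho_coe, hs]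
    simp
  have hneg : ∀ g h : Matrix.SpecialLinearGroup (Fin 2) F,
      (h : Matrix (Fin 2) (Fin 2) F) = -(g : Matrix (Fin 2) (Fin 2) F) →
      (QuotientGroup.mk g : Matrix.ProjectiveSpecialLinearGroup (Fin 2) F) = QuotientGroup.mk h := by
    intro g h e
    rw [QuotientGroup.eq, Matrix.SpecialLinearGroup.mem_center_iff]
    refine ⟨-1, by simp, ?_⟩
    rw [Matrix.SpecialLinearGroup.coe_mul, e, mul_neg, ← Matrix.SpecialLinearGroup.coe_mul,
      inv_mul_cancel, Matrix.SpecialLinearGroup.coe_one, map_neg, map_one]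
  have hne : ∀ (g h : Matrix.SpecialLinearGroup (Fin 2) F), (∀ r : F,
      (g : Matrix (Fin 2) (Fin 2) F) * Matrix.scalar (Fin 2) r ≠ (h : Matrix (Fin 2) (Fin 2) F)) →
      (QuotientGroup.mk g : Matrix.ProjectiveSpecialLinearGroup (Fin 2) F) ≠ QuotientGroup.mk h := by
    intro g h hgh e
    rw [QuotientGroup.eq] at e
    obtain ⟨r, -, hr⟩ := Matrix.SpecialLinearGroup.mem_center_iff.mp e
    exact hgh r (by rw [hr, ← Matrix.SpecialLinearGroup.coe_mul, mul_inv_cancel_left])
  have h1 : ∀ (s : Matrix.SpecialLinearGroup (Fin 2) F),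
      (s : Matrix (Fin 2) (Fin 2) F) * s = -1 → (∀ r : F, Matrix.scalar (Fin 2) r ≠
        (s : Matrix (Fin 2) (Fin 2) F)) →
      orderOf (QuotientGroup.mk s : Matrix.ProjectiveSpecialLinearGroup (Fin 2) F) = 2 := by
    intro s hs hns
    refine orderOf_two_of ?_ ?_
    · rw [← QuotientGroup.mk_mul, ← QuotientGroup.mk_one]
      exact (hneg 1 (s * s) (by rw [Matrix.SpecialLinearGroup.coe_mul, hs]; simp)).symm
    · rw [← QuotientGroup.mk_one]
      exact (hne 1 s fun r => by simpa using hns r).symm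
  refine ⟨QuotientGroup.mk s₁, QuotientGroup.mk s₂, hfix s₁ ?_, hfix s₂ ?_, h1 s₁ ?_ ?_,
    h1 s₂ ?_ ?_, hne _ _ ?_, ?_⟩
  · ext i j; fin_cases i <;> fin_cases j <;> simp [s₁]
  · ext i j; fin_cases i <;> fin_cases j <;> simp [s₂, ha, hb, map_neg] <;> simpa using hσ _
  · ext i j; fin_cases i <;> fin_cases j <;> simp [s₁]
  · intro r h
    have := congrArg (fun M : Matrix (Fin 2) (Fin 2) F => M 0 1) h
    simp [s₁, Matrix.scalar_apply] at this
  · ext i j
    fin_cases i <;> fin_cases j <;> simp [s₂] <;>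
      first | linear_combination hab | ring
  · intro r h
    have e1 := congrArg (fun M : Matrix (Fin 2) (Fin 2) F => M 0 1) h
    have e2 := congrArg (fun M : Matrix (Fin 2) (Fin 2) F => M 0 0) h
    have e3 := congrArg (fun M : Matrix (Fin 2) (Fin 2) F => M 1 1) h
    simp [s₂, Matrix.scalar_apply] at e1 e2 e3
    have hr : r = 0 := (mul_eq_zero.mp (show (2 : F) * r = 0 by rw [two_mul]; linear_combination e2 + e3)).resolve_left h20
    rw [← e1, ← e2, hr] at hab
    simp at hab
  · intro r h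
    have e1 := congrArg (fun M : Matrix (Fin 2) (Fin 2) F => M 0 1) h
    have e2 := congrArg (fun M : Matrix (Fin 2) (Fin 2) F => M 0 0) h
    have e3 := congrArg (fun M : Matrix (Fin 2) (Fin 2) F => M 1 0) h
    simp [s₁, s₂, Matrix.scalar_apply] at e1 e2 e3
    have hr : r = 0 := (mul_eq_zero.mp (show (2 : F) * r = 0 by rw [two_mul]; linear_combination e1 - e3)).resolve_left h20
    rw [← e2, ← e1, hr] at hab
    simp at hab
  · rw [← QuotientGroup.mk_mul, ← QuotientGroup.mk_mul]
    refine hneg _ _ ?_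
    show (!![a, b; b, -a] : Matrix (Fin 2) (Fin 2) F) * !![0, 1; -1, 0] =
      -(!![0, 1; -1, 0] * !![a, b; b, -a])
    ext i j
    fin_cases i <;> fin_cases j <;> simp

/-- The almost simple case. -/
theorem pgl_of_index_two (hE : NoEight G) (M : Subgroup G) [M.Normal]
    (hC : ∀ g : G, (∀ m ∈ M, g * m = m * g) → g = 1) {u : G}
    (hMi : M.index = 2) (huM : u ∉ M) (hu : orderOf u = 2) (F : Type) [Field F] [Fintype F]
    (hodd : Odd (Fintype.card F))
    (e : M ≃* Matrix.ProjectiveSpecialLinearGroup (Fin 2) F) :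
    Nonempty (G ≃* Matrix.ProjGenLinGroup (Fin 2) F) := by
  have hmul := fun {x y : G} => Subgroup.mul_mem_iff_of_index_two (a := x) (b := y) hMi
  let Φ : G →* MulAut (Matrix.ProjectiveSpecialLinearGroup (Fin 2) F) :=
    { toFun := fun g => (e.symm.trans (MulAut.conjNormal g)).trans e
      map_one' := by ext; simp
      map_mul' := fun g h => by ext; simp [MulAut.conjNormal, mul_smul] }
  have hΦ : ∀ (g : G) (T : Matrix.ProjectiveSpecialLinearGroup (Fin 2) F),
      ((e.symm (Φ g T) : M) : G) = g * ((e.symm T : M) : G) * g⁻¹ := by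
    intro g T
    show ((e.symm (e (MulAut.conjNormal g (e.symm T))) : M) : G) = _
    rw [e.symm_apply_apply, MulAut.conjNormal_apply]
  have hinj : Function.Injective Φ := by
    refine (injective_iff_map_eq_one Φ).mpr fun a ha => hC a fun m hm => ?_
    have h := hΦ a (e ⟨m, hm⟩)
    rw [ha, MulAut.one_apply, e.symm_apply_apply] at h
    exact (mul_inv_eq_iff_eq_mul.mp h.symm)
  have hM : ∀ g ∈ M, Φ g ∈ (pgl 2 F).range := by
    intro g hg
    obtain ⟨s, hs⟩ := QuotientGroup.mk_surjective (e ⟨g, hg⟩)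
    refine ⟨rho 2 F s, ?_⟩
    rw [pgl_rho, hs]
    refine MulEquiv.ext fun T => e.symm.injective (Subtype.ext ?_)
    rw [hΦ, MulAut.conj_apply, map_mul, map_mul, map_inv, e.symm_apply_apply]
    rfl
  obtain ⟨g, σ, β, hβ, hαβ⟩ := exists_semi (n := 2) le_rfl (Φ u)
  have hα : Φ u = β := hαβ.resolve_right (fun h => by omega)
  have hσ : σ = 1 := by
    by_contra hσ
    have hu2 : Φ u * Φ u = 1 := by rw [← map_mul, mul_self_of_two hu, map_one]
    have hσ2 : σ * σ = 1 := by
      have h := hβ.pow 2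
      rw [← hα, pow_two (Φ u), hu2] at h
      have := (IsSemi.eq_one le_rfl h).1
      rwa [pow_two] at this
    obtain ⟨φ, hφ⟩ := exists_induced (S := Matrix.SpecialLinearGroup (Fin 2) F) rho_injective
      (normalises_psl (1 : GL (Fin 2) F) σ)
    have hδ : β * φ⁻¹ ∈ Cfsg.inndiagPSL 2 F := by
      rw [← pgl_range]
      refine ⟨g, (eq_pgl ?_).symm⟩
      have h := Induced.comp (normalises_psl _ _) hβ
        (Induced.inverse rho_injective (normalises_psl 1 σ) hφ)
      rwa [inv_one, map_one, map_one, mul_one, mul_inv_cancel] at h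
    have ho : orderOf (β * φ⁻¹ * φ) = orderOf φ := by
      rw [inv_mul_cancel_right, ← hα, orderOf_stdField le_rfl hφ, orderOf_two_of hσ2 hσ]
      refine orderOf_two_of hu2 fun h => ne_one_of_two hu (hinj (h.trans (map_one Φ).symm))
    obtain ⟨η, -, hη⟩ := field_coset le_rfl hφ hδ ho
    rw [inv_mul_cancel_right] at hη
    obtain ⟨T₁, T₂, h₁, h₂, ho₁, ho₂, hne, hcomm⟩ := exists_fixed_four hodd hφ
    have key : ∀ T, φ T = T → Commute ((e.symm (η T) : M) : G) u := by
      intro T hT
      have h := hΦ u (η T)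
      rw [hα, hη, MulAut.mul_apply, MulAut.mul_apply, MulAut.inv_apply_self, hT] at h
      exact (mul_inv_eq_iff_eq_mul.mp h.symm).symm
    have hord : ∀ T, orderOf T = 2 → orderOf ((e.symm (η T) : M) : G) = 2 := fun T hT => by
      rw [Subgroup.orderOf_coe, MulEquiv.orderOf_eq, MulEquiv.orderOf_eq, hT]
    have hcomm' : ((e.symm (η T₁) : M) : G) * (e.symm (η T₂) : M) =
        (e.symm (η T₂) : M) * (e.symm (η T₁) : M) := by
      rw [← Subgroup.coe_mul, ← Subgroup.coe_mul, ← map_mul e.symm, ← map_mul e.symm, ← map_mul η,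
        ← map_mul η, hcomm]
    rcases hE _ _ u (hord _ ho₁) (hord _ ho₂) hu hcomm' (key T₁ h₁).eq (key T₂ h₂).eq
        (fun h => hne (η.injective (e.symm.injective (Subtype.ext h)))) with h | h | h
    all_goals apply huM; rw [h]
    exacts [Subtype.prop _, Subtype.prop _, mul_mem (Subtype.prop _) (Subtype.prop _)]
  have hu' : Φ u ∈ (pgl 2 F).range := ⟨g, by rw [hα]; exact (eq_pgl (hσ ▸ hβ)).symm⟩
  have hrange : ∀ x : G, Φ x ∈ (pgl 2 F).range := by
    intro x
    by_cases hx : x ∈ M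
    · exact hM x hx
    · have := hM _ (hmul.mpr (show x ∈ M ↔ u ∈ M by simp [hx, huM]))
      rw [map_mul] at this
      have h2 := mul_mem this (inv_mem hu')
      rwa [mul_inv_cancel_right] at h2
  have hker : Subgroup.center (GL (Fin 2) F) = (pgl 2 F).ker := by
    ext a
    rw [MonoidHom.mem_ker, pgl_eq_one_iff le_rfl, Matrix.GeneralLinearGroup.center_eq_range_scalar]
    exact ⟨fun ⟨c, hc⟩ => ⟨c, hc.symm⟩, fun ⟨c, hc⟩ => ⟨c, hc.symm⟩⟩
  let ε : Matrix.ProjGenLinGroup (Fin 2) F ≃* (pgl 2 F).range :=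
    (QuotientGroup.quotientMulEquivOfEq hker).trans (QuotientGroup.quotientKerEquivRange _)
  have hcard : Nat.card G = Nat.card (pgl 2 F).range := by
    rw [← Nat.card_congr ε.toEquiv, ClMax99.card_PGL_two, ← ClMax99.card_PSL_two_odd
      (by rwa [Nat.card_eq_fintype_card]), ← Nat.card_congr e.toEquiv, ← M.card_mul_index, hMi,
      mul_comm]
  have hbij : Function.Bijective (Φ.codRestrict _ hrange) :=
    (Nat.bijective_iff_injective_and_card _).mpr
      ⟨fun a b h => hinj (congrArg Subtype.val h), hcard⟩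
  exact ⟨(MulEquiv.ofBijective _ hbij).trans ε.symm⟩


end Cfsg.Agent.GenDih45
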