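import Cfsg.Agent.GenDih45.Extras
import Cfsg.Agent.GenDih45.PGL

/-!
# One involution centraliser of generalised dihedral shape: Sylow subgroup inside it
-/

set_option autoImplicit false

namespace Cfsg.Agent.GenDih45

open Subgroup

universe u

variable {G : Type u} [Group G] [Finite G]

/-- `G` is `PSL(2, q)` or `PGL(2, q)` with `q > 3`. -/
def IsTwoDimLinear (G : Type*) [Group G] : Prop :=
  ∃ (F : Type) (_ : Field F) (_ : Fintype F), 3 < Fintype.card F ∧
    (Nonempty (G ≃* Matrix.ProjectiveSpecialLinearGroup (Fin 2) F) ∨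
      Nonempty (G ≃* Matrix.ProjGenLinGroup (Fin 2) F))

theorem pgl_of_uni_index_two (hO : ∀ N : Subgroup G, N.Normal → Odd (Nat.card N) → N = ⊥)
    (hns : ¬ Group.IsSolvable G) (hE : NoEight G) (M : Subgroup G) [M.Normal] (hi : M.index = 2)
    (hU : Uni M) {u : G} (hu : orderOf u = 2) (huM : u ∉ M)
    (hcen : ∀ c : G, orderOf c = 2 → ∃ g : G, g * c ≠ c * g) :
    ∃ (F : Type) (_ : Field F) (_ : Fintype F), 3 < Fintype.card F ∧ Odd (Fintype.card F) ∧
      Nonempty (G ≃* Matrix.ProjGenLinGroup (Fin 2) F) := by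
  haveI : Fact (Nat.Prime 2) := ⟨Nat.prime_two⟩
  have hnsM : ¬ Group.IsSolvable M := fun h => hns (by
    refine isSolvable_of_extension M h ?_
    haveI : IsCyclic (G ⧸ M) := isCyclic_of_prime_card (p := 2) (by rw [← index_eq_card, hi])
    exact Group.isSolvable_of_comm fun a b => by
      obtain ⟨g, hg⟩ := IsCyclic.exists_generator (α := G ⧸ M)
      obtain ⟨i, rfl⟩ := mem_zpowers_iff.mp (hg a)
      obtain ⟨j, rfl⟩ := mem_zpowers_iff.mp (hg b)
      exact (Commute.zpow_zpow_self g i j).eq)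
  obtain ⟨F, iF, iF', hq, hodd, ⟨e⟩⟩ := hU.psl (odd_normal_eq_bot_of_normal hO M) hnsM
  haveI hMs : IsSimpleGroup M := hU.isSimple (odd_normal_eq_bot_of_normal hO M) hnsM
  have hZ : center M = ⊥ := (inferInstance : (center M).Normal).eq_bot_or_eq_top.resolve_right fun h => by
    refine hnsM (Group.isSolvable_of_comm fun a b => ?_)
    exact (mem_center_iff.mp (h ▸ mem_top b) a)
  have hcap : ∀ g ∈ M, (∀ m ∈ M, g * m = m * g) → g = 1 := by
    intro g hg h
    have h1 : (⟨g, hg⟩ : M) ∈ center M :=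
      mem_center_iff.mpr fun m => Subtype.ext (h m m.2).symm
    rw [hZ, mem_bot] at h1
    exact congrArg Subtype.val h1
  have hC : ∀ g : G, (∀ m ∈ M, g * m = m * g) → g = 1 := by
    intro g h
    by_contra hg1
    have hgM : g ∉ M := fun hg => hg1 (hcap g hg h)
    have hgg : g * g = 1 := hcap _ (mul_self_mem_of_index_two hi g) fun m hm => by
      rw [mul_assoc, h m hm, ← mul_assoc, h m hm, mul_assoc]
    obtain ⟨x, hx⟩ := hcen g (orderOf_two_of hgg hg1)
    apply hx
    by_cases hxM : x ∈ M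
    · exact (h x hxM).symm
    · have hxg : x * g ∈ M := (mul_mem_iff_of_index_two hi).mpr (by simp [hxM, hgM])
      have := h _ hxg
      rw [← mul_assoc, mul_assoc x g g, hgg, mul_one] at this
      calc x * g = g * x * g * g := by rw [this]
        _ = g * x := by rw [mul_assoc (g * x), hgg, mul_one]
  exact ⟨F, iF, iF', hq, hodd, pgl_of_index_two hE M hC hi huM hu F hodd e⟩

/-- The squares of elements of `C`. -/
def IsSq (C : Subgroup G) (x : G) : Prop := ∃ d ∈ C, x = d * d

section Squares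

variable {C : Subgroup G} {z : G} (hC : IsPGroup 2 C) (hcomm : ∀ a ∈ C, ∀ b ∈ C, a * b = b * a)
  (hz : z ∈ C) (hz2 : orderOf z = 2) (huniq : ∀ a ∈ C, a * a = 1 → a = 1 ∨ a = z)

include hC hcomm hz hz2 huniq

theorem sq_facts : (∃ a ∈ C, ¬ IsSq C a) ∧
    (∀ a ∈ C, ∀ b ∈ C, ¬ IsSq C a → ¬ IsSq C b → IsSq C (a * b)) ∧
    (IsSq C z ∨ ∀ a ∈ C, a * a = 1) := by
  let sq : C →* C :=
    { toFun := fun x => x * x
      map_one' := one_mul 1
      map_mul' := fun a b => by
        have h : a * b = b * a := Subtype.ext (hcomm a a.2 b b.2)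
        calc a * b * (a * b) = a * (b * a) * b := by group
          _ = a * a * (b * b) := by rw [← h]; group }
  have hker : Nat.card sq.ker = 2 := by
    have h : sq.ker = zpowers (⟨z, hz⟩ : C) := by
      refine le_antisymm (fun x hx => ?_) (zpowers_le.mpr (Subtype.ext (mul_self_of_two hz2)))
      have hx' : (x : G) * x = 1 := congrArg Subtype.val (MonoidHom.mem_ker.mp hx)
      rcases huniq x x.2 hx' with h | h
      · rw [show x = 1 from Subtype.ext h]; exact one_mem _
      · rw [show x = ⟨z, hz⟩ from Subtype.ext h]; exact mem_zpowers _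
    rw [h, Nat.card_zpowers, Subgroup.orderOf_mk, hz2]
  have hidx : sq.range.index = 2 := by
    have h1 := sq.range.card_mul_index
    rw [← sq.ker.card_mul_index, index_ker, hker, mul_comm 2] at h1
    exact Nat.eq_of_mul_eq_mul_left Nat.card_pos h1
  have hiff : ∀ x : C, x ∈ sq.range ↔ IsSq C (x : G) := fun x =>
    ⟨fun ⟨d, hd⟩ => ⟨d, d.2, by rw [← hd]; rfl⟩,
      fun ⟨d, hd, h⟩ => ⟨⟨d, hd⟩, Subtype.ext h.symm⟩⟩
  refine ⟨?_, ?_, ?_⟩
  · obtain ⟨a, ha⟩ := not_forall.mp fun h =>
      (show sq.range ≠ ⊤ from fun e => by rw [e, index_top] at hidx; omega)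
        (eq_top_iff.mpr fun x _ => h x)
    exact ⟨a, a.2, fun h => ha ((hiff a).mpr h)⟩
  · intro a ha b hb h1 h2
    have := (mul_mem_iff_of_index_two hidx (a := ⟨a, ha⟩) (b := ⟨b, hb⟩)).mpr
      (by simp [hiff, h1, h2])
    exact (hiff _).mp this
  · by_cases h : ∀ a ∈ C, a * a = 1
    · exact Or.inr h
    push Not at h
    obtain ⟨a, ha, haa⟩ := h
    left
    obtain ⟨k, hk⟩ := IsPGroup.iff_orderOf.mp hC ⟨a, ha⟩
    rw [Subgroup.orderOf_mk] at hk
    obtain ⟨k, rfl⟩ : ∃ l, k = l + 2 := ⟨k - 2, by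
      by_contra hk2
      apply haa
      have h2 : orderOf a ∣ 2 := by
        rw [hk]; exact (pow_dvd_pow 2 (show k ≤ 1 by omega)).trans (by norm_num)
      rw [← pow_two]
      exact orderOf_dvd_iff_pow_eq_one.mp h2⟩
    refine ⟨a ^ 2 ^ k, pow_mem ha _, ?_⟩
    rw [← pow_add]
    have h1 : orderOf (a ^ (2 ^ k + 2 ^ k)) = 2 := by
      rw [orderOf_pow_of_dvd (by positivity) ⟨2, by rw [hk]; ring⟩, hk]
      rw [show 2 ^ (k + 2) = (2 ^ k + 2 ^ k) * 2 by ring, Nat.mul_div_cancel_left _ (by positivity)]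
    exact ((huniq _ (pow_mem ha _) (mul_self_of_two h1)).resolve_left (ne_one_of_two h1)).symm

end Squares

variable {z : G} {A : Subgroup G}

theorem Shape.pairwise (hA : Shape z A) {a b c : G} (ha : orderOf a = 2) (hb : orderOf b = 2)
    (hc : orderOf c = 2) (haz : a * z = z * a) (hbz : b * z = z * b) (hcz : c * z = z * c)
    (hab : a * b = b * a) (hac : a * c = c * a) (hbc : b * c = c * b) (hne : a ≠ b) :
    c = a ∨ c = b ∨ c = a * b := by
  have hin : ∀ x ∈ A, orderOf x = 2 → x = z := fun x hx h2 =>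
    (hA.uniq x hx (mul_self_of_two h2)).resolve_left (ne_one_of_two h2)
  have hout : ∀ x y, x * z = z * x → x ∉ A → y * z = z * y → y ∉ A → orderOf x = 2 →
      orderOf y = 2 → x * y = y * x → y = x ∨ y = x * z := by
    intro x y hx hxA hy hyA hx2 hy2 hxy
    have h1 : (x * y) * (x * y) = 1 := by
      calc x * y * (x * y) = x * (y * x) * y := by group
        _ = (x * x) * (y * y) := by rw [← hxy]; group
        _ = 1 := by rw [mul_self_of_two hx2, mul_self_of_two hy2, one_mul]
    have h3 : y = x * (x * y) := by rw [← mul_assoc, mul_self_of_two hx2, one_mul]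
    rcases hA.uniq _ (hA.mul x y hx hxA hy hyA) h1 with h | h <;> rw [h] at h3
    · exact Or.inl (by rw [h3, mul_one])
    · exact Or.inr h3
  by_cases haA : a ∈ A
  · have ea := hin a haA ha
    have hbA : b ∉ A := fun h => hne (ea.trans (hin b h hb).symm)
    by_cases hcA : c ∈ A
    · exact Or.inl ((hin c hcA hc).trans ea.symm)
    · rcases hout b c hbz hbA hcz hcA hb hc hbc with h | h
      · exact Or.inr (Or.inl h)
      · exact Or.inr (Or.inr (by rw [h, ea, hbz]))
  · by_cases hbA : b ∈ A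
    · have eb := hin b hbA hb
      by_cases hcA : c ∈ A
      · exact Or.inr (Or.inl ((hin c hcA hc).trans eb.symm))
      · rcases hout a c haz haA hcz hcA ha hc hac with h | h
        · exact Or.inl h
        · exact Or.inr (Or.inr (by rw [h, eb]))
    · have eb := (hout a b haz haA hbz hbA ha hb hab).resolve_left (Ne.symm hne)
      by_cases hcA : c ∈ A
      · refine Or.inr (Or.inr ?_)
        rw [hin c hcA hc, eb, ← mul_assoc, mul_self_of_two ha, one_mul]
      · rcases hout a c haz haA hcz hcA ha hc hac with h | h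
        · exact Or.inl h
        · exact Or.inr (Or.inl (h.trans eb.symm))

theorem Shape.isSolvable (hA : Shape z A) (h : ∀ g : G, g * z = z * g) : Group.IsSolvable G := by
  have hn : A.Normal := ⟨fun a ha g => by
    by_cases hg : g ∈ A
    · exact mul_mem (mul_mem hg ha) (inv_mem hg)
    · rw [(hA.out g (h g) hg).2 a ha]; exact inv_mem ha⟩
  haveI := hn
  refine isSolvable_of_extension A (Group.isSolvable_of_comm fun a b => Subtype.ext
    (hA.comm a a.2 b b.2)) (Group.isSolvable_of_comm fun x y => ?_)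
  induction x using QuotientGroup.induction_on with
  | _ x =>
  induction y using QuotientGroup.induction_on with
  | _ y =>
  by_cases hx : x ∈ A
  · rw [(QuotientGroup.eq_one_iff x).mpr hx, one_mul, mul_one]
  by_cases hy : y ∈ A
  · rw [(QuotientGroup.eq_one_iff y).mpr hy, one_mul, mul_one]
  rw [← QuotientGroup.mk_mul, ← QuotientGroup.mk_mul,
    (QuotientGroup.eq_one_iff _).mpr (hA.mul x y (h x) hx (h y) hy),
    (QuotientGroup.eq_one_iff _).mpr (hA.mul y x (h y) hy (h x) hx)]

variable (hA : Shape z A) (hz : orderOf z = 2) (P : Sylow 2 G)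
  (hP : ∀ x ∈ (P : Subgroup G), x * z = z * x) (hzP : z ∈ (P : Subgroup G))

include hA hP

theorem noEight_of_sylow_le : NoEight G := by
  intro a b c ha hb hc hab hac hbc hne
  let f : G →* G := MonoidHom.id G
  have hS : IsPGroup 2 (closure ({a, b, c} : Set G)) := by
    haveI hcm : IsMulCommutative (closure ({a, b, c} : Set G)) :=
      Subgroup.isMulCommutative_closure (by
        rintro x (rfl | rfl | rfl) y (rfl | rfl | rfl) <;>
          first | rfl | assumption | exact hab.symm | exact hac.symm | exact hbc.symm)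
    intro x
    refine ⟨1, Subtype.ext ?_⟩
    simp only [pow_one, pow_two, Subgroup.coe_mul, Subgroup.coe_one]
    refine Subgroup.closure_induction (p := fun x _ => x * x = 1) ?_ (one_mul 1) ?_ ?_ x.2
    · rintro x (rfl | rfl | rfl) <;> exact mul_self_of_two (by assumption)
    · intro x y hx hy h1 h2
      have hxy : x * y = y * x := congrArg Subtype.val (mul_comm'
        (⟨x, hx⟩ : closure ({a, b, c} : Set G)) ⟨y, hy⟩)
      calc x * y * (x * y) = x * (y * x) * y := by group
        _ = (x * x) * (y * y) := by rw [← hxy]; group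
        _ = 1 := by rw [h1, h2, one_mul]
    · intro x _ h1
      rw [← mul_inv_rev, h1, inv_one]
  obtain ⟨g, hg⟩ := sylow_two_conj P hS
  have hmul : ∀ x y : G, g * x * g⁻¹ * (g * y * g⁻¹) = g * (x * y) * g⁻¹ := fun x y => by group
  have hinj := (MulAut.conj g).injective
  rcases hA.pairwise (a := g * a * g⁻¹) (b := g * b * g⁻¹) (c := g * c * g⁻¹)
    (by rw [orderOf_conj', ha]) (by rw [orderOf_conj', hb]) (by rw [orderOf_conj', hc])
    (hP _ (hg a (subset_closure (by simp)))) (hP _ (hg b (subset_closure (by simp))))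
    (hP _ (hg c (subset_closure (by simp)))) (by rw [hmul, hmul, hab]) (by rw [hmul, hmul, hac])
    (by rw [hmul, hmul, hbc]) (fun h => hne (hinj h)) with h | h | h
  · exact Or.inl (hinj h)
  · exact Or.inr (Or.inl (hinj h))
  · exact Or.inr (Or.inr (hinj (h.trans (hmul a b))))

include hz hzP

/-- The Sylow subgroup of `G` centralises the involution. -/
theorem alpha (hO : ∀ N : Subgroup G, N.Normal → Odd (Nat.card N) → N = ⊥)
    (hns : ¬ Group.IsSolvable G) {s : G} (hsP : s ∈ (P : Subgroup G)) (hsA : s ∉ A) :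
    IsTwoDimLinear G := by
  haveI : Fact (Nat.Prime 2) := ⟨Nat.prime_two⟩
  set C := (P : Subgroup G) ⊓ A with hCdef
  have hCp : IsPGroup 2 C := P.2.to_le inf_le_left
  obtain ⟨⟨a₀, ha₀, ha₀'⟩, hnn, hzsq⟩ := sq_facts (C := C) hCp
    (fun a ha b hb => hA.comm a ha.2 b hb.2) ⟨hzP, hA.mem⟩ hz (fun a ha => hA.uniq a ha.2)
  have hsqC : ∀ x, IsSq C x → x ∈ C := fun x ⟨d, hd, h⟩ => h ▸ mul_mem hd hd
  have hsqmul : ∀ x y, IsSq C x → IsSq C y → IsSq C (x * y) := by
    rintro x y ⟨d, hd, rfl⟩ ⟨e, he, rfl⟩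
    refine ⟨d * e, mul_mem hd he, ?_⟩
    calc d * d * (e * e) = d * (d * e) * e := by group
      _ = d * (e * d) * e := by rw [hA.comm d hd.2 e he.2]
      _ = _ := by group
  have hsqinv : ∀ x, IsSq C x → IsSq C x⁻¹ := by
    rintro x ⟨d, hd, rfl⟩
    exact ⟨d⁻¹, inv_mem hd, by group⟩
  -- elements outside `A` are fused with their square translates
  have hfuse : ∀ x ∈ (P : Subgroup G), x ∉ A → ∀ c, IsSq C c → IsConj x (x * c) := by
    rintro x hx hxA c ⟨d, hd, rfl⟩
    refine isConj_iff.mpr ⟨d⁻¹, ?_⟩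
    rw [inv_inv]
    obtain ⟨hxx, hinv⟩ := hA.out x (hP x hx) hxA
    have h1 : x * d⁻¹ * x⁻¹ = d := by rw [hinv _ (inv_mem hd.2), inv_inv]
    calc d⁻¹ * x * d = x * (x⁻¹ * d⁻¹ * x) * d := by group
      _ = x * (x * d⁻¹ * x⁻¹) * d := by rw [inv_eq_of_mul_eq_one_right hxx]
      _ = _ := by rw [h1, mul_assoc]
  have hinvP : ∀ x ∈ (P : Subgroup G), orderOf x = 2 → x = z ∨ (x ∉ A ∧ ∀ y ∈ (P : Subgroup G),
      y ∉ A → y * x ∈ C) := by
    intro x hx hx2
    by_cases hxA : x ∈ A
    · exact Or.inl ((hA.uniq x hxA (mul_self_of_two hx2)).resolve_left (ne_one_of_two hx2))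
    · exact Or.inr ⟨hxA, fun y hy hyA => ⟨mul_mem hy hx, hA.mul y x (hP y hy) hyA (hP x hx) hxA⟩⟩
  have hout : ∀ y ∈ (P : Subgroup G), y ∉ A → ∀ c ∈ C, y * c ∈ (P : Subgroup G) ∧ y * c ∉ A ∧
      y * (y * c) = c := fun y hy hyA c hc => ⟨mul_mem hy hc.1, fun h => hyA (by
        simpa using mul_mem h (inv_mem hc.2)), by
        rw [← mul_assoc, (hA.out y (hP y hy) hyA).1, one_mul]⟩
  -- one of the two classes is fused with `z`
  have key : ∀ y ∈ (P : Subgroup G), y ∉ A → IsConj y z → ¬ IsConj (y * a₀) z →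
      IsTwoDimLinear G := by
    intro y hy hyA hyz hnot
    obtain ⟨hyy, hyinv⟩ := hA.out y (hP y hy) hyA
    let Q : Subgroup G :=
      { carrier := {x | IsSq C x ∨ IsSq C (y * x)}
        one_mem' := Or.inl ⟨1, one_mem _, (one_mul 1).symm⟩
        inv_mem' := by
          rintro x (h | h)
          · exact Or.inl (hsqinv x h)
          · right
            have hc := hsqC _ h
            obtain ⟨-, -, -⟩ := hout y hy hyA _ hc
            have hx : x = y * (y * x) := by rw [← mul_assoc, hyy, one_mul]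
            have : y * x⁻¹ = y * x := by
              rw [hx, mul_inv_rev, inv_eq_of_mul_eq_one_right hyy, ← mul_assoc y (y * x)⁻¹ y]
              have h1 := hyinv _ (inv_mem hc.2)
              rw [inv_inv, inv_eq_of_mul_eq_one_right hyy] at h1
              rw [h1, ← mul_assoc y y, hyy, one_mul]
            rwa [this]
        mul_mem' := by
          rintro x x' (h | h) (h' | h')
          · exact Or.inl (hsqmul _ _ h h')
          · right
            have h1 := hyinv x (hsqC x h).2
            rw [show y * (x * x') = (y * x * y⁻¹) * (y * x') by group, h1]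
            exact hsqmul _ _ (hsqinv x h) h'
          · right
            rw [← mul_assoc]
            exact hsqmul _ _ h h'
          · left
            have h1 : x = y * (y * x) := by rw [← mul_assoc, hyy, one_mul]
            have h2 : x * x' = (y * x)⁻¹ * (y * x') := by
              conv_lhs => rw [h1]
              rw [← hyinv _ (hsqC _ h).2, inv_eq_of_mul_eq_one_right hyy,
                show y * (y * x) * y * (y * x') = y * (y * x) * (y * y) * x' by group, hyy, mul_one]
            rw [h2]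
            exact hsqmul _ _ (hsqinv _ h) h' }
    have hQP : Q ≤ (P : Subgroup G) := by
      rintro x (h | h)
      · exact (hsqC x h).1
      · simpa using mul_mem (inv_mem hy) (hsqC _ h).1
    have hcosetP : ∀ x ∈ (P : Subgroup G), IsSq C x ∨ (x ∈ C ∧ ¬ IsSq C x) ∨ IsSq C (y * x) ∨
        (y * x ∈ C ∧ ¬ IsSq C (y * x)) := by
      intro x hx
      by_cases hxA : x ∈ A
      · by_cases h : IsSq C x
        exacts [Or.inl h, Or.inr (Or.inl ⟨⟨hx, hxA⟩, h⟩)]
      · by_cases h : IsSq C (y * x)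
        exacts [Or.inr (Or.inr (Or.inl h)), Or.inr (Or.inr (Or.inr
          ⟨⟨mul_mem hy hx, hA.mul y x (hP y hy) hyA (hP x hx) hxA⟩, h⟩))]
    have ha₀Q : a₀ ∉ Q := by
      rintro (h | h)
      · exact ha₀' h
      · have h1 : y * a₀ * a₀⁻¹ ∈ A := mul_mem (hsqC _ h).2 (inv_mem ha₀.2)
        rw [mul_inv_cancel_right] at h1
        exact hyA h1
    have hQi : Q.relIndex (P : Subgroup G) = 2 := by
      refine relIindex_eq_two_iff'.mpr ⟨a₀⁻¹, inv_mem ha₀.1, fun x hx => ?_⟩
      by_cases hxQ : x ∈ Q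
      · refine Or.inr ⟨hxQ, fun h => ha₀Q ?_⟩
        have h2 := mul_mem hxQ (inv_mem h)
        simpa using h2
      · refine Or.inl ⟨?_, hxQ⟩
        rcases hcosetP x hx with h | ⟨h, h'⟩ | h | ⟨h, h'⟩
        · exact absurd (Or.inl h) hxQ
        · exact Or.inl (hnn _ (inv_mem ha₀) _ h (fun e => ha₀' (by simpa using hsqinv _ e)) h')
        · exact absurd (Or.inr h) hxQ
        · refine Or.inr ?_
          have h1 := hyinv _ (inv_mem ha₀.2)
          rw [show y * (a₀⁻¹ * x) = (y * a₀⁻¹ * y⁻¹) * (y * x) by group, h1, inv_inv]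
          exact hnn _ ha₀ _ h ha₀' h'
    have hconjQ : ∀ x ∈ Q, orderOf x = 2 → IsConj x z := by
      rintro x (h | h) hx2
      · rw [(hA.uniq x (hsqC x h).2 (mul_self_of_two hx2)).resolve_left (ne_one_of_two hx2)]
      · have h1 := hfuse y hy hyA _ h
        rw [← mul_assoc, hyy, one_mul] at h1
        exact h1.symm.trans hyz
    have hya : orderOf (y * a₀) = 2 := by
      obtain ⟨hm, hmA, -⟩ := hout y hy hyA a₀ ha₀
      exact orderOf_two_of (hA.out _ (hP _ hm) hmA).1 fun h => hmA (h ▸ one_mem A)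
    obtain ⟨M, hMn, hMi, hMu⟩ := Involution.thompson_transfer P Q hQP hQi (mul_self_of_two hya)
      fun g hg => hnot ((isConj_iff.mpr ⟨g, rfl⟩).trans (hconjQ _ hg (by rw [orderOf_conj', hya])))
    haveI := hMn
    have hmul := fun {p q : G} => mul_mem_iff_of_index_two (a := p) (b := q) hMi
    have hsqM : ∀ x, IsSq C x → x ∈ M := fun x ⟨d, _, h⟩ => h ▸ mul_self_mem_of_index_two hMi d
    have hconjM : ∀ p q : G, IsConj p q → p ∈ M → q ∈ M := fun p q h hp => by
      obtain ⟨g, rfl⟩ := isConj_iff.mp h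
      exact hMn.conj_mem p hp g
    have hyzM : y ∈ M ↔ z ∈ M := ⟨hconjM _ _ hyz, hconjM _ _ hyz.symm⟩
    have hzM : z ∈ M := by
      rcases hzsq with h | h
      · exact hsqM z h
      · by_contra hzM
        have ea : a₀ = z := (hA.uniq a₀ ha₀.2 (h a₀ ha₀)).resolve_left fun e =>
          ha₀' (e ▸ ⟨1, one_mem _, (one_mul 1).symm⟩)
        exact hMu (hmul.mpr (by rw [hyzM, ea]))
    have hyM : y ∈ M := hyzM.mpr hzM
    have ha₀M : a₀ ∉ M := fun h => hMu (mul_mem hyM h)
    have hcenM : ∀ x : M, orderOf x = 2 → IsConj x ⟨z, hzM⟩ := by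
      intro x hx
      rw [← Subgroup.orderOf_coe] at hx
      obtain ⟨g, hg⟩ := involution_conj_sylow P hx
      set x' := g * (x : G) * g⁻¹
      have hx' : orderOf x' = 2 := by rw [orderOf_conj', hx]
      have hx'M : x' ∈ M := hMn.conj_mem _ x.2 g
      have hx'z : IsConj x' z := by
        rcases hcosetP x' hg with h | ⟨h, h'⟩ | h | ⟨h, h'⟩
        · exact hconjQ _ (Or.inl h) hx'
        · rw [(hA.uniq x' h.2 (mul_self_of_two hx')).resolve_left (ne_one_of_two hx')]
        · exact hconjQ _ (Or.inr h) hx'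
        · exfalso
          have h1 : IsSq C (a₀⁻¹ * (y * x')) :=
            hnn _ (inv_mem ha₀) _ h (fun e => ha₀' (by simpa using hsqinv _ e)) h'
          refine ha₀M ?_
          have h2 := mul_mem (mul_mem hyM hx'M) (inv_mem (hsqM _ h1))
          simpa [mul_assoc] using h2
      obtain ⟨k, hk⟩ := isConj_iff.mp ((isConj_iff.mpr ⟨g, rfl⟩ : IsConj (x : G) x').trans hx'z)
      have ha₀z : a₀ * z * a₀⁻¹ = z := by rw [hP a₀ ha₀.1, mul_inv_cancel_right]
      by_cases hkM : k ∈ M
      · exact isConj_iff.mpr ⟨⟨k, hkM⟩, Subtype.ext hk⟩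
      · refine isConj_iff.mpr ⟨⟨a₀ * k, hmul.mpr (by simp [hkM, ha₀M])⟩, Subtype.ext ?_⟩
        show a₀ * k * (x : G) * (a₀ * k)⁻¹ = z
        rw [show a₀ * k * (x : G) * (a₀ * k)⁻¹ = a₀ * (k * x * k⁻¹) * a₀⁻¹ by group, hk, ha₀z]
    have hU : Uni M := by
      refine ⟨fun p q hp hq => (hcenM p hp).trans (hcenM q hq).symm, ⟨z, hzM⟩, A.subgroupOf M,
        by rw [Subgroup.orderOf_mk, hz], ?_⟩
      constructor
      · exact fun a ha => Subtype.ext (hA.le a ha)
      · exact hA.mem
      · exact fun a ha b hb => Subtype.ext (hA.comm a ha b hb)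
      · intro x hx hxA
        obtain ⟨h1, h2⟩ := hA.out x (congrArg Subtype.val hx) hxA
        exact ⟨Subtype.ext h1, fun a ha => Subtype.ext (h2 a ha)⟩
      · exact fun p q hp hpA hq hqA =>
          hA.mul p q (congrArg Subtype.val hp) hpA (congrArg Subtype.val hq) hqA
      · intro a ha h1
        rcases hA.uniq a ha (congrArg Subtype.val h1) with h | h
        exacts [Or.inl (Subtype.ext h), Or.inr (Subtype.ext h)]
      · exact ⟨⟨y, hyM⟩, Subtype.ext (hP y hy), hyA⟩
    have hcen : ∀ c : G, orderOf c = 2 → ∃ g : G, g * c ≠ c * g := by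
      intro c hc
      by_contra hall
      push Not at hall
      by_cases hcA : c ∈ A
      · rw [(hA.uniq c hcA (mul_self_of_two hc)).resolve_left (ne_one_of_two hc)] at hall
        exact hns (hA.isSolvable hall)
      · have h1 := (hA.out c (hall z).symm hcA).2 a₀ ha₀.2
        rw [← hall a₀, mul_inv_cancel_right] at h1
        have ea : a₀ = z := (hA.uniq a₀ ha₀.2 (eq_inv_iff_mul_eq_one.mp h1)).resolve_left fun e =>
          ha₀M (e ▸ one_mem M)
        exact ha₀M (ea ▸ hzM)
    obtain ⟨F, iF, iF', hq, -, he⟩ := pgl_of_uni_index_two hO hns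
      (noEight_of_sylow_le hA P hP) M hMi hU hya hMu hcen
    exact ⟨F, iF, iF', hq, Or.inr he⟩
  obtain ⟨hsaP, hsaA, hssa⟩ := hout s hsP hsA a₀ ha₀
  by_cases h1 : IsConj s z
  · by_cases h2 : IsConj (s * a₀) z
    · -- one class
      have hU : Uni G := by
        have hall : ∀ x : G, orderOf x = 2 → IsConj x z := by
          intro x hx
          obtain ⟨g, hg⟩ := involution_conj_sylow P hx
          refine (isConj_iff.mpr ⟨g, rfl⟩).trans ?_
          rcases hinvP _ hg (by rw [orderOf_conj', hx]) with h | ⟨hxA, h⟩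
          · rw [h]
          · obtain ⟨hss, -⟩ := hA.out s (hP s hsP) hsA
            have hc := h s hsP hsA
            set c := s * (g * x * g⁻¹)
            have e : g * x * g⁻¹ = s * c := by rw [← mul_assoc, hss, one_mul]
            rw [e]
            by_cases hs : IsSq C c
            · exact (hfuse s hsP hsA c hs).symm.trans h1
            · have h3 := hfuse _ hsaP hsaA _
                (hnn _ (inv_mem ha₀) _ hc (fun e => ha₀' (by simpa using hsqinv _ e)) hs)
              rw [show s * a₀ * (a₀⁻¹ * c) = s * c by group] at h3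
              exact h3.symm.trans h2
        exact ⟨fun p q hp hq => (hall p hp).trans (hall q hq).symm, z, A, hz, hA⟩
      obtain ⟨F, iF, iF', hq, -, he⟩ := hU.psl hO hns
      exact ⟨F, iF, iF', hq, Or.inl he⟩
    · exact key s hsP hsA h1 h2
  · by_cases h2 : IsConj (s * a₀) z
    · refine key _ hsaP hsaA h2 fun h => h1 ?_
      have h3 := hfuse s hsP hsA _ ⟨a₀, ha₀, rfl⟩
      rw [mul_assoc] at h
      exact h3.trans h
    · -- `z` is isolated
      exfalso
      refine hns (hA.isSolvable (central_of_isolated hO P hz hzP fun g hg => ?_))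
      rcases hinvP _ hg (by rw [orderOf_conj', hz]) with h | ⟨hxA, h⟩
      · exact h
      · exfalso
        have hconj : IsConj (g * z * g⁻¹) z := (isConj_iff.mpr ⟨g, rfl⟩).symm
        obtain ⟨hss, -⟩ := hA.out s (hP s hsP) hsA
        have hc := h s hsP hsA
        set c := s * (g * z * g⁻¹)
        have e : g * z * g⁻¹ = s * c := by rw [← mul_assoc, hss, one_mul]
        rw [e] at hconj
        by_cases hs : IsSq C c
        · exact h1 ((hfuse s hsP hsA c hs).trans hconj)
        · have h3 := hfuse _ hsaP hsaA _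
            (hnn _ (inv_mem ha₀) _ hc (fun e => ha₀' (by simpa using hsqinv _ e)) hs)
          rw [show s * a₀ * (a₀⁻¹ * c) = s * c by group] at h3
          exact h2 (h3.trans hconj)

end Cfsg.Agent.GenDih45
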