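import Cfsg.Agent.GenDih45.Local

/-!
# The three axes of a four-group and invariant `p`-subgroups
-/

set_option autoImplicit false

namespace Cfsg.Agent.GenDih45

open Subgroup

variable {G : Type*} [Group G]

/-- The involutions of the four-group generated by `a` and `b`. -/
def Ax (a b d : G) : Prop := d = a ∨ d = b ∨ d = a * b

theorem Ax.two {a b d : G} (V : Pair a b) (hd : Ax a b d) : orderOf d = 2 := by
  rcases hd with rfl | rfl | rfl
  exacts [V.he, V.hf, V.two_mul']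

theorem Ax.pair {a b d d' : G} (V : Pair a b) (hd : Ax a b d) (hd' : Ax a b d') (hne : d ≠ d') :
    Pair d d' := by
  rcases hd with rfl | rfl | rfl <;> rcases hd' with rfl | rfl | rfl <;>
    first
    | exact absurd rfl hne
    | exact V
    | exact V.symm
    | exact V.left
    | exact V.left.symm
    | exact V.rot
    | exact V.rot.symm

theorem Inv.conj_ax {a b d : G} {Y : Subgroup G} (hY : Inv a b Y) (hd : Ax a b d) :
    ∀ x ∈ Y, d * x * d⁻¹ ∈ Y := by
  rcases hd with rfl | rfl | rfl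
  exacts [hY.le₁, hY.le₂, hY.left.le₂]

/-- `p`-subgroup normalised by the four-group generated by `a` and `b`. -/
structure PI (a b : G) (p : ℕ) (Y : Subgroup G) : Prop where
  pgroup : IsPGroup p Y
  inv : Inv a b Y

/-- The elements of `p`-power order in the odd part of the centraliser of `e`. -/
def Pp (p : ℕ) (e : G) : Subgroup G := closure {x | x ∈ O e ∧ ∃ k : ℕ, orderOf x = p ^ k}

theorem Pp_le (p : ℕ) (e : G) : Pp p e ≤ O e := (closure_le _).mpr fun _ hx => hx.1

variable [Finite G]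

namespace Uni

variable (hU : Uni G)

include hU

theorem isPGroup_Pp {p : ℕ} [Fact p.Prime] {e : G} (he : orderOf e = 2) :
    IsPGroup p (Pp p e) := by
  let T : Subgroup G :=
    { carrier := {x | x ∈ O e ∧ ∃ k : ℕ, x ^ p ^ k = 1}
      one_mem' := ⟨one_mem _, 0, by simp⟩
      mul_mem' := by
        rintro x y ⟨hx, i, hi⟩ ⟨hy, j, hj⟩
        refine ⟨mul_mem hx hy, i + j, ?_⟩
        rw [(show Commute x y from hU.O_comm he hx hy).mul_pow, pow_add, pow_mul, hi, one_pow,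
          one_mul, mul_comm, pow_mul, hj, one_pow]
      inv_mem' := by
        rintro x ⟨hx, i, hi⟩
        exact ⟨inv_mem hx, i, by rw [inv_pow, hi, inv_one]⟩ }
  have h : Pp p e ≤ T :=
    (closure_le T).mpr fun x ⟨hx, k, hk⟩ => ⟨hx, k, by rw [← hk, pow_orderOf_eq_one]⟩
  rintro ⟨x, hx⟩
  obtain ⟨-, k, hk⟩ := h hx
  exact ⟨k, Subtype.ext hk⟩

theorem mem_Pp {p : ℕ} [Fact p.Prime] {e x : G} (he : orderOf e = 2) (hp2 : p ≠ 2)
    (hxe : x * e = e * x) (hx : ∃ k : ℕ, orderOf x = p ^ k) : x ∈ Pp p e := by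
  refine subset_closure ⟨(hU.mem_O he).mpr ⟨hxe, ?_⟩, hx⟩
  obtain ⟨k, hk⟩ := hx
  rw [hk]
  exact ((Fact.out (p := p.Prime)).odd_of_ne_two hp2).pow

theorem Pp_cent {p : ℕ} [Fact p.Prime] {e x : G} (he : orderOf e = 2) (hx : x ∈ Pp p e) :
    x * e = e * x := ((hU.mem_O he).mp (Pp_le p e hx)).1

theorem Pp_comm {p : ℕ} {e x y : G} (he : orderOf e = 2) (hx : x ∈ Pp p e) (hy : y ∈ Pp p e) :
    x * y = y * x := hU.O_comm he (Pp_le p e hx) (Pp_le p e hy)

theorem inf_cent_le_Pp {p : ℕ} [Fact p.Prime] (hp2 : p ≠ 2) {Y : Subgroup G} (hY : IsPGroup p Y)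
    {e : G} (he : orderOf e = 2) : Y ⊓ cent e ≤ Pp p e := by
  rintro x ⟨hx, hxe⟩
  refine hU.mem_Pp he hp2 (mem_cent.mp hxe) ?_
  obtain ⟨k, hk⟩ := IsPGroup.iff_orderOf.mp hY ⟨x, hx⟩
  exact ⟨k, by rwa [Subgroup.orderOf_mk] at hk⟩

theorem odd_of_pgroup {p : ℕ} [Fact p.Prime] (hp2 : p ≠ 2) {Y : Subgroup G} (hY : IsPGroup p Y) :
    Odd (Nat.card Y) := by
  obtain ⟨k, hk⟩ := IsPGroup.iff_card.mp hY
  rw [hk]
  exact ((Fact.out (p := p.Prime)).odd_of_ne_two hp2).pow

omit hU [Finite G] in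
theorem conj_mem_O {g e x : G} (hx : x ∈ O e) : g * x * g⁻¹ ∈ O (g * e * g⁻¹) := by
  have : O e ≤ (O (g * e * g⁻¹)).comap (MulAut.conj g).toMonoidHom :=
    (closure_le _).mpr fun y hy => mem_oddPart_of (mem_cent.mpr (by
      show g * y * g⁻¹ * (g * e * g⁻¹) = g * e * g⁻¹ * (g * y * g⁻¹)
      calc g * y * g⁻¹ * (g * e * g⁻¹) = g * (y * e) * g⁻¹ := by group
        _ = _ := by rw [mem_cent.mp hy.1]; group)) (by
      show Odd (orderOf (g * y * g⁻¹))
      rw [orderOf_conj']; exact hy.2)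
  exact this hx

omit hU [Finite G] in
theorem Pp_map_conj {p : ℕ} (g e : G) :
    (Pp p e).map (MulAut.conj g).toMonoidHom = Pp p (g * e * g⁻¹) := by
  rw [Pp, MonoidHom.map_closure]
  congr 1
  ext x
  constructor
  · rintro ⟨y, ⟨hy, k, hk⟩, rfl⟩
    exact ⟨conj_mem_O hy, k, by
      show orderOf (g * y * g⁻¹) = _
      rw [orderOf_conj', hk]⟩
  · rintro ⟨hx, k, hk⟩
    refine ⟨g⁻¹ * x * g, ⟨?_, k, ?_⟩, by simp [mul_assoc]⟩
    · have := conj_mem_O (g := g⁻¹) hx
      simpa [mul_assoc] using this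
    · have := orderOf_conj' g⁻¹ x
      rw [inv_inv] at this
      rw [this, hk]

/-- The common order of the groups `Pp p e`. -/
theorem card_Pp_eq {p : ℕ} {e f : G} (he : orderOf e = 2) (hf : orderOf f = 2) :
    Nat.card (Pp p e) = Nat.card (Pp p f) := by
  obtain ⟨g, rfl⟩ := isConj_iff.mp (hU.conj e f he hf)
  rw [← Pp_map_conj g e, card_map_of_injective (MulAut.conj g).injective]

/-- `Pp p d` is invariant. -/
theorem pi_Pp {p : ℕ} [Fact p.Prime] {a b d : G} (V : Pair a b) (hd : Ax a b d) :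
    PI a b p (Pp p d) := by
  refine ⟨hU.isPGroup_Pp (hd.two V), ?_, ?_⟩ <;> intro x hx
  · by_cases h : d = a
    · subst h
      rwa [← hU.Pp_cent (hd.two V) hx, mul_inv_cancel_right]
    · rw [hU.inverts (hd.pair V (Or.inl rfl) h) (Pp_le p d hx)]
      exact inv_mem hx
  · by_cases h : d = b
    · subst h
      rwa [← hU.Pp_cent (hd.two V) hx, mul_inv_cancel_right]
    · rw [hU.inverts (hd.pair V (Or.inr (Or.inl rfl)) h) (Pp_le p d hx)]
      exact inv_mem hx

variable {a b : G} (V : Pair a b) {p : ℕ} [Fact p.Prime] (hp2 : p ≠ 2)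

include V hp2

theorem pi_fourAct {Y : Subgroup G} (hY : PI a b p Y) : FourAct a b Y :=
  hU.fourAct V (hU.odd_of_pgroup hp2 hY.pgroup) hY.inv.le₁ hY.inv.le₂

theorem pi_le {Y L : Subgroup G} (hY : PI a b p Y)
    (h : ∀ d, Ax a b d → Y ⊓ cent d ≤ L) : Y ≤ L := by
  have F := hU.pi_fourAct V hp2 hY
  exact le_of_fixed_le F.ha F.hb F.hab F.odd F.haK F.hbK F.fpf (h a (Or.inl rfl))
    (h b (Or.inr (Or.inl rfl))) (h (a * b) (Or.inr (Or.inr rfl)))

/-- If an invariant `p`-subgroup contains all three axes, it contains every invariant one. -/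
theorem pi_le_of_full {Y L : Subgroup G} (hY : PI a b p Y) (h : ∀ d, Ax a b d → Pp p d ≤ L) :
    Y ≤ L :=
  hU.pi_le V hp2 hY fun d hd => (hU.inf_cent_le_Pp hp2 hY.pgroup (hd.two V)).trans (h d hd)

theorem card_pi {Y : Subgroup G} (hY : PI a b p Y) :
    Nat.card (Y ⊓ cent a : Subgroup G) * Nat.card (Y ⊓ cent b : Subgroup G) *
      Nat.card (Y ⊓ cent (a * b) : Subgroup G) = Nat.card Y := by
  have F := hU.pi_fourAct V hp2 hY
  exact card_eq_mul F.ha F.hb F.hab F.odd F.haK F.hbK F.fpf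

theorem full_iff_card {Y : Subgroup G} (hY : PI a b p Y) :
    (∀ d, Ax a b d → Pp p d ≤ Y) ↔ Nat.card Y = Nat.card (Pp p a) ^ 3 := by
  have hle : ∀ d, Ax a b d → Y ⊓ cent d ≤ Pp p d := fun d hd =>
    hU.inf_cent_le_Pp hp2 hY.pgroup (hd.two V)
  have hPc : ∀ d, Ax a b d → Pp p d ≤ cent d := fun d hd x hx =>
    mem_cent.mpr (hU.Pp_cent (hd.two V) hx)
  have hcard : ∀ d, Ax a b d → Nat.card (Pp p d) = Nat.card (Pp p a) := fun d hd =>
    hU.card_Pp_eq (hd.two V) V.he
  rw [← hU.card_pi V hp2 hY]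
  constructor
  · intro h
    have heq : ∀ d, Ax a b d → Nat.card (Y ⊓ cent d : Subgroup G) = Nat.card (Pp p a) :=
      fun d hd => by
        rw [le_antisymm (hle d hd) (le_inf (h d hd) (hPc d hd)), hcard d hd]
    rw [heq a (Or.inl rfl), heq b (Or.inr (Or.inl rfl)), heq _ (Or.inr (Or.inr rfl))]
    ring
  · intro h
    have h1 : ∀ d, Ax a b d → Nat.card (Y ⊓ cent d : Subgroup G) ≤ Nat.card (Pp p a) :=
      fun d hd => (hcard d hd) ▸ card_le_of_le (hle d hd)
    have hpos : 0 < Nat.card (Pp p a) := Nat.card_pos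
    have key : ∀ {x y z A : ℕ}, 0 < A → x ≤ A → y ≤ A → z ≤ A → x * y * z = A ^ 3 →
        x = A ∧ y = A ∧ z = A := by
      intro x y z A hA hx hy hz h
      have hxy : x * y ≤ A * A := Nat.mul_le_mul hx hy
      have hzA : z = A := by
        by_contra hne
        have hlt : z < A := by omega
        have := Nat.mul_le_mul_right z hxy
        have h2 : A * A * z < A * A * A := Nat.mul_lt_mul_of_pos_left hlt (Nat.mul_pos hA hA)
        have h3 : A ^ 3 = A * A * A := by ring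
        omega
      subst hzA
      have hxy' : x * y = z * z := Nat.eq_of_mul_eq_mul_right hA (by rw [h]; ring)
      have hxA : x = z := by
        by_contra hne
        have h4 : x * y ≤ x * z := Nat.mul_le_mul_left x hy
        have h5 : x * z < z * z := Nat.mul_lt_mul_of_pos_right (by omega) hA
        omega
      subst hxA
      exact ⟨rfl, Nat.eq_of_mul_eq_mul_left hA hxy', rfl⟩
    obtain ⟨e1, e2, e3⟩ := key hpos (h1 a (Or.inl rfl)) (h1 b (Or.inr (Or.inl rfl)))
      (h1 _ (Or.inr (Or.inr rfl))) h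
    intro d hd
    have hc : Nat.card (Pp p d) ≤ Nat.card (Y ⊓ cent d : Subgroup G) := by
      rw [hcard d hd]
      rcases hd with rfl | rfl | rfl
      exacts [e1.ge, e2.ge, e3.ge]
    rw [← eq_of_le_of_card_ge (hle d hd) hc]
    exact inf_le_left

end Uni

end Cfsg.Agent.GenDih45
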