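import Cfsg.Agent.GenDih45.Act
import Cfsg.Agent.Lib.Transfer.Frobenius
import Cfsg.Agent.Lib.Transfer.Focal
import Cfsg.Agent.Lib.Involution.Counting

/-!
# Centralisers of involutions of generalised dihedral type

`Shape e A`: the centraliser of the involution `e` is `A⟨f⟩` with `A` abelian, inverted by `f` and
having `e` as its only involution.
-/

set_option autoImplicit false

namespace Cfsg.Agent.GenDih45

open Subgroup

variable {G : Type*} [Group G]

/-- `C(e)` is generalised dihedral over `A`, whose only involution is `e`. -/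
structure Shape (e : G) (A : Subgroup G) : Prop where
  le : ∀ a ∈ A, a * e = e * a
  mem : e ∈ A
  comm : ∀ a ∈ A, ∀ b ∈ A, a * b = b * a
  out : ∀ x, x * e = e * x → x ∉ A → x * x = 1 ∧ ∀ a ∈ A, x * a * x⁻¹ = a⁻¹
  mul : ∀ x y, x * e = e * x → x ∉ A → y * e = e * y → y ∉ A → x * y ∈ A
  uniq : ∀ a ∈ A, a * a = 1 → a = 1 ∨ a = e
  exists_out : ∃ x, x * e = e * x ∧ x ∉ A

theorem Shape.map {e : G} {A : Subgroup G} (h : Shape e A) (g : G) :
    Shape (g * e * g⁻¹) (A.map (MulAut.conj g).toMonoidHom) := by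
  have hmem : ∀ x, x ∈ A.map (MulAut.conj g).toMonoidHom ↔ g⁻¹ * x * g ∈ A := fun x =>
    ⟨by rintro ⟨a, ha, rfl⟩; simpa [mul_assoc] using ha,
      fun hx => ⟨_, hx, by simp [mul_assoc]⟩⟩
  have hcom : ∀ x, x * (g * e * g⁻¹) = g * e * g⁻¹ * x → g⁻¹ * x * g * e = e * (g⁻¹ * x * g) := by
    intro x hx
    calc g⁻¹ * x * g * e = g⁻¹ * (x * (g * e * g⁻¹)) * g := by group
      _ = _ := by rw [hx]; group
  have hcom' : ∀ x, x * e = e * x → g * x * g⁻¹ * (g * e * g⁻¹) = g * e * g⁻¹ * (g * x * g⁻¹) := by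
    intro x hx
    calc g * x * g⁻¹ * (g * e * g⁻¹) = g * (x * e) * g⁻¹ := by group
      _ = _ := by rw [hx]; group
  constructor
  · rintro _ ⟨a, ha, rfl⟩
    exact hcom' a (h.le a ha)
  · exact ⟨e, h.mem, rfl⟩
  · rintro _ ⟨a, ha, rfl⟩ _ ⟨b, hb, rfl⟩
    rw [← map_mul, ← map_mul, h.comm a ha b hb]
  · intro x hx hxA
    rw [hmem] at hxA
    obtain ⟨h1, h2⟩ := h.out _ (hcom x hx) hxA
    refine ⟨?_, ?_⟩
    · calc x * x = g * (g⁻¹ * x * g * (g⁻¹ * x * g)) * g⁻¹ := by group
        _ = 1 := by rw [h1]; group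
    · rintro _ ⟨a, ha, rfl⟩
      show x * (g * a * g⁻¹) * x⁻¹ = (g * a * g⁻¹)⁻¹
      calc x * (g * a * g⁻¹) * x⁻¹ = g * ((g⁻¹ * x * g) * a * (g⁻¹ * x * g)⁻¹) * g⁻¹ := by group
        _ = _ := by rw [h2 a ha]; group
  · intro x y hx hxA hy hyA
    rw [hmem] at hxA hyA ⊢
    have := h.mul _ _ (hcom x hx) hxA (hcom y hy) hyA
    simpa [mul_assoc] using this
  · rintro _ ⟨a, ha, rfl⟩ h1
    rw [← map_mul, ← map_one (MulAut.conj g).toMonoidHom] at h1
    rcases h.uniq a ha ((MulAut.conj g).injective h1) with rfl | rfl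
    · exact Or.inl (map_one _)
    · exact Or.inr rfl
  · obtain ⟨x, hx, hxA⟩ := h.exists_out
    exact ⟨g * x * g⁻¹, hcom' x hx, fun h' => hxA (by rw [hmem] at h'; simpa [mul_assoc] using h')⟩

/-- The subgroup generated by the elements of odd order of `H`. -/
def oddPart (H : Subgroup G) : Subgroup G := closure {x | x ∈ H ∧ Odd (orderOf x)}

theorem oddPart_le (H : Subgroup G) : oddPart H ≤ H := (closure_le _).mpr fun _ hx => hx.1

theorem mem_oddPart_of {H : Subgroup G} {x : G} (hx : x ∈ H) (ho : Odd (orderOf x)) :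
    x ∈ oddPart H := subset_closure ⟨hx, ho⟩

theorem orderOf_conj' (g x : G) : orderOf (g * x * g⁻¹) = orderOf x :=
  orderOf_injective (MulAut.conj g).toMonoidHom (MulAut.conj g).injective x

theorem conj_mem_oddPart {H : Subgroup G} {g : G} (hg : ∀ x ∈ H, g * x * g⁻¹ ∈ H) :
    ∀ x ∈ oddPart H, g * x * g⁻¹ ∈ oddPart H := by
  have : oddPart H ≤ (oddPart H).comap (MulAut.conj g).toMonoidHom :=
    (closure_le _).mpr fun x hx =>
      mem_oddPart_of (hg x hx.1) (by
        show Odd (orderOf (g * x * g⁻¹))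
        rw [orderOf_conj']; exact hx.2)
  exact fun x hx => this hx

/-- The centraliser of an involution. -/
abbrev cent (x : G) : Subgroup G := centralizer ({x} : Set G)

theorem mem_cent {g x : G} : g ∈ cent x ↔ g * x = x * g := mem_centralizer_singleton_iff

/-- The odd part of the centraliser of `e`. -/
abbrev O (e : G) : Subgroup G := oddPart (cent e)

/-- All involutions are conjugate and one of them has centraliser of generalised dihedral shape. -/
structure Uni (G : Type*) [Group G] : Prop where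
  conj : ∀ x y : G, orderOf x = 2 → orderOf y = 2 → IsConj x y
  shape₀ : ∃ (t : G) (A : Subgroup G), orderOf t = 2 ∧ Shape t A

/-- Two distinct commuting involutions. -/
structure Pair (e f : G) : Prop where
  he : orderOf e = 2
  hf : orderOf f = 2
  comm : e * f = f * e
  ne : e ≠ f

theorem eq_one_of_odd_of_sq {x : G} (ho : Odd (orderOf x)) (h : x * x = 1) : x = 1 := by
  have h1 : orderOf x ∣ 2 := orderOf_dvd_of_pow_eq_one (by rw [sq, h])
  rcases (Nat.dvd_prime Nat.prime_two).mp h1 with h2 | h2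
  · exact orderOf_eq_one_iff.mp h2
  · rw [h2] at ho; exact absurd ho (by decide)

theorem mul_self_of_two {e : G} (he : orderOf e = 2) : e * e = 1 := by
  rw [← sq, ← he, pow_orderOf_eq_one]

theorem ne_one_of_two {e : G} (he : orderOf e = 2) : e ≠ 1 := fun h => by simp [h] at he

theorem inv_of_two {e : G} (he : orderOf e = 2) : e⁻¹ = e :=
  inv_eq_of_mul_eq_one_right (mul_self_of_two he)

theorem orderOf_two_of {x : G} (h : x * x = 1) (h1 : x ≠ 1) : orderOf x = 2 :=
  orderOf_eq_prime (by rw [sq, h]) h1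

namespace Pair

variable {e f : G} (V : Pair e f)

include V

theorem symm : Pair f e := ⟨V.hf, V.he, V.comm.symm, V.ne.symm⟩

theorem mul_ne_one : e * f ≠ 1 := fun h =>
  V.ne (by rw [eq_inv_of_mul_eq_one_left h, inv_of_two V.hf])

theorem two_mul' : orderOf (e * f) = 2 :=
  orderOf_two_of (by
    calc e * f * (e * f) = e * (f * e) * f := by group
      _ = (e * e) * (f * f) := by rw [← V.comm]; group
      _ = 1 := by rw [mul_self_of_two V.he, mul_self_of_two V.hf, one_mul]) V.mul_ne_one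

theorem left : Pair e (e * f) where
  he := V.he
  hf := V.two_mul'
  comm := by rw [mul_assoc e f e, ← V.comm]
  ne h := ne_one_of_two V.hf (left_eq_mul.mp h)

theorem rot : Pair f (e * f) := by
  have h := V.symm.left
  rwa [← V.comm] at h

theorem conj (g : G) : Pair (g * e * g⁻¹) (g * f * g⁻¹) where
  he := by rw [orderOf_conj', V.he]
  hf := by rw [orderOf_conj', V.hf]
  comm := by
    calc g * e * g⁻¹ * (g * f * g⁻¹) = g * (e * f) * g⁻¹ := by group
      _ = _ := by rw [V.comm]; group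
  ne h := V.ne ((MulAut.conj g).injective h)

end Pair

namespace Uni

variable (hU : Uni G)

include hU

theorem shape {e : G} (he : orderOf e = 2) : ∃ A : Subgroup G, Shape e A := by
  obtain ⟨t, A, ht, hA⟩ := hU.shape₀
  obtain ⟨g, rfl⟩ := isConj_iff.mp (hU.conj t e ht he)
  exact ⟨_, hA.map g⟩

theorem odd_mem {e x : G} {A : Subgroup G} (hA : Shape e A) (hx : x * e = e * x)
    (ho : Odd (orderOf x)) : x ∈ A := by
  by_contra h
  exact h (eq_one_of_odd_of_sq ho (hA.out x hx h).1 ▸ A.one_mem)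

theorem mem_O {e x : G} (he : orderOf e = 2) :
    x ∈ O e ↔ x * e = e * x ∧ Odd (orderOf x) := by
  refine ⟨fun hx => ?_, fun hx => mem_oddPart_of (mem_cent.mpr hx.1) hx.2⟩
  obtain ⟨A, hA⟩ := hU.shape he
  let S : Subgroup G :=
    { carrier := {g | g ∈ A ∧ Odd (orderOf g)}
      one_mem' := ⟨one_mem _, by simp⟩
      mul_mem' := fun {p q} hp hq => ⟨mul_mem hp.1 hq.1,
        (hp.2.mul hq.2).of_dvd_nat ((Commute.orderOf_mul_dvd_lcm
          (show Commute p q from hA.comm p hp.1 q hq.1)).trans (Nat.lcm_dvd_mul _ _))⟩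
      inv_mem' := fun {p} hp => ⟨inv_mem hp.1, by rw [orderOf_inv]; exact hp.2⟩ }
  have h : x ∈ S := (closure_le S).mpr
    (fun g (hg : g ∈ cent e ∧ Odd (orderOf g)) =>
      (show g ∈ S from ⟨hU.odd_mem hA (mem_cent.mp hg.1) hg.2, hg.2⟩)) hx
  exact ⟨hA.le x h.1, h.2⟩

theorem O_le {e : G} {A : Subgroup G} (he : orderOf e = 2) (hA : Shape e A) : O e ≤ A :=
  fun _ hx => let h := (hU.mem_O he).mp hx; hU.odd_mem hA h.1 h.2

theorem O_comm {e x y : G} (he : orderOf e = 2) (hx : x ∈ O e) (hy : y ∈ O e) : x * y = y * x := by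
  obtain ⟨A, hA⟩ := hU.shape he
  exact hA.comm x (hU.O_le he hA hx) y (hU.O_le he hA hy)

theorem odd_O [Finite G] {e : G} (he : orderOf e = 2) : Odd (Nat.card (O e)) := by
  rw [← Nat.not_even_iff_odd, even_iff_two_dvd]
  intro h
  obtain ⟨x, hx⟩ := exists_prime_orderOf_dvd_card' (G := O e) 2 h
  have h1 := ((hU.mem_O he).mp x.2).2
  rw [Subgroup.orderOf_coe, hx] at h1
  exact absurd h1 (by decide)

theorem out_of_pair {e f : G} {A : Subgroup G} (V : Pair e f) (hA : Shape e A) : f ∉ A := fun h => by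
  rcases hA.uniq f h (mul_self_of_two V.hf) with h1 | h1
  · exact ne_one_of_two V.hf h1
  · exact V.ne h1.symm

theorem inverts {e f : G} (V : Pair e f) {x : G} (hx : x ∈ O e) : f * x * f⁻¹ = x⁻¹ := by
  obtain ⟨A, hA⟩ := hU.shape V.he
  exact (hA.out f V.comm.symm (hU.out_of_pair V hA)).2 x (hU.O_le V.he hA hx)

/-- `C(V) = V`. -/
theorem four_cent {e f g : G} (V : Pair e f) (hge : g * e = e * g) (hgf : g * f = f * g) :
    g = 1 ∨ g = e ∨ g = f ∨ g = e * f := by
  obtain ⟨A, hA⟩ := hU.shape V.he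
  have key : ∀ a ∈ A, a * f = f * a → a = 1 ∨ a = e := by
    intro a ha h
    refine hA.uniq a ha ?_
    have h1 := (hA.out f V.comm.symm (hU.out_of_pair V hA)).2 a ha
    rw [← h, mul_inv_cancel_right] at h1
    exact eq_inv_iff_mul_eq_one.mp h1
  by_cases hg : g ∈ A
  · rcases key g hg hgf with h | h
    · exact Or.inl h
    · exact Or.inr (Or.inl h)
  · have h1 := hA.mul g f hge hg V.comm.symm (hU.out_of_pair V hA)
    have hff := mul_self_of_two V.hf
    rcases key _ h1 (by rw [mul_assoc, hff, mul_one, ← mul_assoc, ← hgf, mul_assoc, hff, mul_one])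
      with h | h
    · right; right; left
      rw [eq_inv_of_mul_eq_one_left h, inv_of_two V.hf]
    · right; right; right
      rw [← h, mul_assoc, hff, mul_one]

theorem four_cent_odd {e f g : G} (V : Pair e f) (hge : g * e = e * g) (hgf : g * f = f * g)
    (ho : Odd (orderOf g)) : g = 1 := by
  rcases hU.four_cent V hge hgf with h | h | h | h
  · exact h
  · rw [h, V.he] at ho; exact absurd ho (by decide)
  · rw [h, V.hf] at ho; exact absurd ho (by decide)
  · rw [h, V.two_mul'] at ho; exact absurd ho (by decide)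

/-- An odd subgroup normalised by a four-group satisfies the hypotheses of a four-group action. -/
theorem fourAct [Finite G] {e f : G} (V : Pair e f) {K : Subgroup G} (hK : Odd (Nat.card K))
    (heK : ∀ x ∈ K, e * x * e⁻¹ ∈ K) (hfK : ∀ x ∈ K, f * x * f⁻¹ ∈ K) : FourAct e f K where
  ha := mul_self_of_two V.he
  hb := mul_self_of_two V.hf
  hab := V.comm
  odd := hK
  haK := heK
  hbK := hfK
  fpf := fun x hx h1 h2 => hU.four_cent_odd V (mul_inv_eq_iff_eq_mul.mp h1).symm
    (mul_inv_eq_iff_eq_mul.mp h2).symm (odd_orderOf_of_mem hK hx)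
  comm := fun d hd x hx hdx y hy hdy => by
    have hd2 : orderOf d = 2 := by
      rcases hd with rfl | rfl | rfl
      exacts [V.he, V.hf, V.two_mul']
    exact hU.O_comm hd2
      ((hU.mem_O hd2).mpr ⟨(mul_inv_eq_iff_eq_mul.mp hdx).symm, odd_orderOf_of_mem hK hx⟩)
      ((hU.mem_O hd2).mpr ⟨(mul_inv_eq_iff_eq_mul.mp hdy).symm, odd_orderOf_of_mem hK hy⟩)

/-- An element of odd order normalising a 2-group and fixing an involution which centralises it,
centralises it. -/
theorem centralizes_of_fix [Finite G] {Q : Subgroup G} (hQ : IsPGroup 2 Q) {g j : G}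
    (hg : g ∈ normalizer (Q : Set G)) (ho : Odd (orderOf g)) (hj : orderOf j = 2)
    (hQj : ∀ q ∈ Q, q * j = j * q) (hgj : g * j = j * g) : g ∈ centralizer (Q : Set G) := by
  haveI : Fact (Nat.Prime 2) := ⟨Nat.prime_two⟩
  obtain ⟨A, hA⟩ := hU.shape hj
  have hgA : g ∈ A := hU.odd_mem hA hgj ho
  refine mem_centralizer_iff.mpr fun q hq => ?_
  by_cases hqA : q ∈ A
  · exact hA.comm q hqA g hgA
  obtain ⟨hqq, hqinv⟩ := hA.out q (hQj q hq) hqA
  have h1 : g * q * g⁻¹ * q⁻¹ ∈ Q := mul_mem ((mem_normalizer_iff.mp hg q).mp hq) (inv_mem hq)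
  have h2 : g * q * g⁻¹ * q⁻¹ = g ^ 2 := by
    rw [show g * q * g⁻¹ * q⁻¹ = g * (q * g⁻¹ * q⁻¹) by group, hqinv _ (inv_mem hgA), inv_inv, sq]
  rw [h2] at h1
  obtain ⟨k, hk⟩ := IsPGroup.iff_orderOf.mp hQ ⟨g ^ 2, h1⟩
  rw [Subgroup.orderOf_mk, (Nat.Coprime.orderOf_pow (Nat.coprime_two_right.mpr ho))] at hk
  rcases Nat.eq_zero_or_pos k with h0 | h0
  · rw [h0, pow_zero, orderOf_eq_one_iff] at hk
    rw [hk, one_mul, mul_one]
  · rw [hk] at ho
    exact absurd ho (by rw [Nat.not_odd_iff_even, Nat.even_pow]; exact ⟨even_two, h0.ne'⟩)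

end Uni

theorem exists_central_involution [Finite G] {P : Subgroup G} (hP : IsPGroup 2 P) (hne : P ≠ ⊥) :
    ∃ j ∈ P, orderOf j = 2 ∧ ∀ q ∈ P, q * j = j * q := by
  haveI : Fact (Nat.Prime 2) := ⟨Nat.prime_two⟩
  haveI : Nontrivial P := (nontrivial_iff_ne_bot P).mpr hne
  haveI := hP.center_nontrivial
  obtain ⟨z, hz⟩ := exists_prime_orderOf_dvd_card' (G := center P) 2 (by
    rcases (hP.to_subgroup (center P)).card_eq_or_dvd with h | h
    · exact absurd h (Finite.one_lt_card (α := center P)).ne'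
    · exact h)
  exact ⟨((z : P) : G), (z : P).2, by rw [Subgroup.orderOf_coe, Subgroup.orderOf_coe, hz],
    fun q hq => congrArg Subtype.val (mem_center_iff.mp z.2 ⟨q, hq⟩)⟩

theorem isPGroup_pair [Finite G] {e f : G} (V : Pair e f) :
    IsPGroup 2 (closure ({e, f} : Set G) : Subgroup G) := by
  have hee := mul_self_of_two V.he
  have hff := mul_self_of_two V.hf
  have hfe : f * e = e * f := V.comm.symm
  let T : Subgroup G :=
    { carrier := {x | x * e = e * x ∧ x * f = f * x ∧ x * x = 1 ∧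
        ∀ y, y * e = e * y → y * f = f * y → y * x = x * y}
      one_mem' := ⟨by simp, by simp, by simp, fun y _ _ => by simp⟩
      mul_mem' := fun {p q} hp hq => ⟨by rw [mul_assoc, hq.1, ← mul_assoc, hp.1, mul_assoc],
        by rw [mul_assoc, hq.2.1, ← mul_assoc, hp.2.1, mul_assoc],
        by
          rw [show p * q * (p * q) = p * (q * p) * q by group, hp.2.2.2 q hq.1 hq.2.1,
            show p * (p * q) * q = (p * p) * (q * q) by group, hp.2.2.1, hq.2.2.1, one_mul],
        fun y h1 h2 => by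
          rw [← mul_assoc, hp.2.2.2 y h1 h2, mul_assoc, hq.2.2.2 y h1 h2, mul_assoc]⟩
      inv_mem' := fun {p} hp => by
        rw [inv_eq_of_mul_eq_one_right hp.2.2.1]; exact hp }
  have hle : closure ({e, f} : Set G) ≤ T := (closure_le T).mpr (by
    rintro x (rfl | rfl)
    · exact ⟨rfl, V.comm, hee, fun y h _ => h⟩
    · exact ⟨hfe, rfl, hff, fun y _ h => h⟩)
  exact fun x => ⟨1, Subtype.ext (by simpa [sq] using (hle x.2).2.2.1)⟩

namespace Uni

variable [Finite G] (hU : Uni G)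

include hU

/-- Every four-group has a cyclic automorphism of order three. -/
theorem exists_cycle {e f : G} (V : Pair e f) :
    ∃ y : G, y * e * y⁻¹ = f ∧ y * f * y⁻¹ = e * f ∧ y * (e * f) * y⁻¹ = e := by
  haveI : Fact (Nat.Prime 2) := ⟨Nat.prime_two⟩
  suffices h : ∃ y : G, y * e * y⁻¹ = f ∧ y * f * y⁻¹ = e * f by
    obtain ⟨y, h1, h2⟩ := h
    refine ⟨y, h1, h2, ?_⟩
    rw [show y * (e * f) * y⁻¹ = (y * e * y⁻¹) * (y * f * y⁻¹) by group, h1, h2, ← mul_assoc,
      ← V.comm, mul_assoc, mul_self_of_two V.hf, mul_one]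
  by_cases hr : ∃ d r : G, orderOf d = 2 ∧ r * r = d
  · obtain ⟨d, r, hd, hrr⟩ := hr
    have hall : ∀ d' h' : G, Pair d' h' → ∃ r' : G, r' * d' * r'⁻¹ = d' ∧ r' * h' * r'⁻¹ = d' * h' := by
      intro d' h' W
      obtain ⟨g, hg⟩ := isConj_iff.mp (hU.conj d d' hd W.he)
      obtain ⟨A, hA⟩ := hU.shape W.he
      set r' := g * r * g⁻¹ with hr'
      have hrd : r' * r' = d' := by
        rw [hr', show g * r * g⁻¹ * (g * r * g⁻¹) = g * (r * r) * g⁻¹ by group, hrr, hg]
      have hrc : r' * d' = d' * r' := by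
        calc r' * d' = r' * (r' * r') := by rw [hrd]
          _ = r' * r' * r' := (mul_assoc _ _ _).symm
          _ = _ := by rw [hrd]
      have hrA : r' ∈ A := by
        by_contra h
        have := (hA.out r' hrc h).1
        rw [hrd] at this
        exact ne_one_of_two W.he this
      refine ⟨r', by rw [hrc, mul_inv_cancel_right], ?_⟩
      have h1 := (hA.out h' W.comm.symm (hU.out_of_pair W hA)).2 r' hrA
      have h2 : h' * r'⁻¹ = r' * h' := by
        rw [← h1]
        calc h' * (h' * r' * h'⁻¹) = (h' * h') * r' * h'⁻¹ := by group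
          _ = r' * h' := by rw [mul_self_of_two W.hf, one_mul, inv_of_two W.hf]
      calc r' * h' * r'⁻¹ = h' * (r'⁻¹ * r'⁻¹) := by rw [← h2, mul_assoc]
        _ = d' * h' := by rw [← mul_inv_rev, hrd, inv_of_two W.he, W.comm]
    obtain ⟨p, hp1, hp2⟩ := hall e f V
    obtain ⟨q, hq1, hq2⟩ := hall f e V.symm
    refine ⟨p * q, ?_, ?_⟩
    · calc p * q * e * (p * q)⁻¹ = p * (q * e * q⁻¹) * p⁻¹ := by group
        _ = (p * f * p⁻¹) * (p * e * p⁻¹) := by rw [hq2]; group
        _ = f := by rw [hp1, hp2, mul_assoc, ← V.comm, ← mul_assoc, mul_self_of_two V.he, one_mul]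
    · calc p * q * f * (p * q)⁻¹ = p * (q * f * q⁻¹) * p⁻¹ := by group
        _ = e * f := by rw [hq1, hp2]
  · push Not at hr
    obtain ⟨P, hP⟩ := (isPGroup_pair V).exists_le_sylow
    have heP : e ∈ (P : Subgroup G) := hP (subset_closure (by simp))
    have hfP : f ∈ (P : Subgroup G) := hP (subset_closure (by simp))
    have hsq : ∀ p ∈ (P : Subgroup G), p * p = 1 := by
      intro p hp
      obtain ⟨k, hk⟩ := IsPGroup.iff_orderOf.mp P.2 ⟨p, hp⟩
      rw [Subgroup.orderOf_mk] at hk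
      rcases k with _ | _ | k
      · rw [pow_zero, orderOf_eq_one_iff] at hk; rw [hk, one_mul]
      · rw [zero_add, pow_one] at hk; exact mul_self_of_two hk
      · exfalso
        have h4 : orderOf (p ^ 2 ^ (k + 1)) = 2 := by
          rw [orderOf_pow_of_dvd (pow_ne_zero _ two_ne_zero) (hk ▸ pow_dvd_pow 2 (by omega)), hk,
            Nat.pow_div (by omega) two_pos, show k + 1 + 1 - (k + 1) = 1 by omega, pow_one]
        refine hr _ (p ^ 2 ^ k) h4 ?_
        rw [← sq, ← pow_mul, ← pow_succ]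
    have hcomm : IsMulCommutative (P : Subgroup G) := ⟨⟨fun a b => Subtype.ext (by
      have h1 := hsq _ (mul_mem a.2 b.2)
      calc ((a : G) * b) = ((a : G) * b)⁻¹ := eq_inv_of_mul_eq_one_left h1
        _ = (b : G) * a := by
          rw [mul_inv_rev, inv_eq_of_mul_eq_one_right (hsq _ a.2),
            inv_eq_of_mul_eq_one_right (hsq _ b.2)])⟩⟩
    have hmem : ∀ p ∈ (P : Subgroup G), p = 1 ∨ p = e ∨ p = f ∨ p = e * f := fun p hp =>
      hU.four_cent V (congrArg Subtype.val (mul_comm' (⟨p, hp⟩ : (P : Subgroup G)) ⟨e, heP⟩))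
        (congrArg Subtype.val (mul_comm' (⟨p, hp⟩ : (P : Subgroup G)) ⟨f, hfP⟩))
    have move : ∀ x ∈ (P : Subgroup G), ∀ y ∈ (P : Subgroup G), orderOf x = 2 → orderOf y = 2 →
        ∃ n ∈ normalizer ((P : Subgroup G) : Set G), n * x * n⁻¹ = y := by
      intro x hx y hy hx2 hy2
      obtain ⟨g, rfl⟩ := isConj_iff.mp (hU.conj x y hx2 hy2)
      exact Transfer.conj_normalizer_of_abelian P hcomm hx hy
    have img : ∀ n ∈ normalizer ((P : Subgroup G) : Set G), ∀ x ∈ (P : Subgroup G), x ≠ 1 →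
        n * x * n⁻¹ = e ∨ n * x * n⁻¹ = f ∨ n * x * n⁻¹ = e * f := fun n hn x hx hx1 =>
      ((hmem _ ((mem_normalizer_iff.mp hn x).mp hx))).resolve_left
        fun h => hx1 (conj_eq_one_iff.mp h)
    have hinj : ∀ n x y : G, n * x * n⁻¹ = n * y * n⁻¹ → x = y := fun n x y h =>
      (MulAut.conj n).injective h
    obtain ⟨n, hn, hne⟩ := move e heP f hfP V.he V.hf
    rcases img n hn f hfP (ne_one_of_two V.hf) with h | h | h
    · obtain ⟨m, hm, hme⟩ := move e heP _ (mul_mem heP hfP) V.he V.two_mul'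
      have hnef : n * (e * f) * n⁻¹ = e * f := by
        rw [show n * (e * f) * n⁻¹ = (n * e * n⁻¹) * (n * f * n⁻¹) by group, hne, h, V.comm]
      rcases img m hm f hfP (ne_one_of_two V.hf) with h' | h' | h'
      · -- `m` is a three-cycle, so its square is the required one
        have hmef : m * (e * f) * m⁻¹ = f := by
          rw [show m * (e * f) * m⁻¹ = (m * e * m⁻¹) * (m * f * m⁻¹) by group, hme, h', V.comm,
            mul_assoc, mul_self_of_two V.he, mul_one]
        refine ⟨m * m, ?_, ?_⟩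
        · rw [show m * m * e * (m * m)⁻¹ = m * (m * e * m⁻¹) * m⁻¹ by group, hme, hmef]
        · rw [show m * m * f * (m * m)⁻¹ = m * (m * f * m⁻¹) * m⁻¹ by group, h', hme]
      · refine ⟨m * n, ?_, ?_⟩
        · rw [show m * n * e * (m * n)⁻¹ = m * (n * e * n⁻¹) * m⁻¹ by group, hne, h']
        · rw [show m * n * f * (m * n)⁻¹ = m * (n * f * n⁻¹) * m⁻¹ by group, h, hme]
      · exact absurd (hinj m _ _ (hme.trans h'.symm)) V.ne
    · exact absurd (hinj n _ _ (hne.trans h.symm)) V.ne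
    · exact ⟨n, hne, h⟩

end Uni

end Cfsg.Agent.GenDih45
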