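import Cfsg.Agent.GenDih45.Maximal

/-!
# The Sylow subgroup is of maximal class: all cases
-/

set_option autoImplicit false

namespace Cfsg.Agent.GenDih45

open Subgroup

universe u

variable {G : Type u} [Group G] [Finite G] {z r j : G} {A : Subgroup G} {P : Sylow 2 G}

theorem MC.card_gt {P : Subgroup G} (hP : IsPGroup 2 P) (h : MC P z r j) : 4 < Nat.card P := by
  haveI : Fact (Nat.Prime 2) := ⟨Nat.prime_two⟩
  have hle : zpowers r ≤ P := zpowers_le.mpr h.rP
  obtain ⟨n, hn⟩ := IsPGroup.iff_card.mp hP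
  obtain ⟨m, hm, hm'⟩ := (Nat.dvd_prime_pow Nat.prime_two).mp (hn ▸ card_dvd_of_le hle)
  have hr2 : 2 < orderOf r := by
    by_contra hle2
    apply h.r_notMem
    have h1 : orderOf r ∣ 2 := by
      rw [Nat.card_zpowers] at hm'
      rw [hm']
      rcases m with _ | _ | m
      · exact one_dvd _
      · exact dvd_refl _
      · exfalso
        rw [hm', pow_succ, pow_succ] at hle2
        have := Nat.one_le_two_pow (n := m)
        omega
    have h2 : r * r = 1 := by rw [← pow_two]; exact orderOf_dvd_iff_pow_eq_one.mp h1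
    rw [h2, zpowers_one_eq_bot, mem_bot]
    have h3 := h.jK
    by_contra hr1
    rcases h.uniq r (mem_zpowers r) h2 with e | e
    · exact hr1 e
    · have h4 := h.jR
      rw [h2, zpowers_one_eq_bot, mem_bot] at h4
      exact ne_one_of_two h.hj h4
  have hlt : Nat.card (zpowers r) < Nat.card P :=
    lt_of_le_of_ne (Nat.le_of_dvd Nat.card_pos (card_dvd_of_le hle)) fun e =>
      h.zr ((eq_of_le_of_card_ge hle e.ge).symm ▸ h.zP)
  rw [Nat.card_zpowers] at hlt hm'
  rw [hn] at hlt ⊢
  rw [hm'] at hlt hr2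
  have h1 : m < n := (Nat.pow_lt_pow_iff_right (by norm_num)).mp hlt
  have h2 : 1 < m := (Nat.pow_lt_pow_iff_right (by norm_num)).mp (show 2 ^ 1 < 2 ^ m by simpa using hr2)
  calc 4 < 2 ^ 3 := by norm_num
    _ ≤ 2 ^ n := Nat.pow_le_pow_right two_pos (by omega)

theorem MC.not_isConj (h : MC (P : Subgroup G) z r j)
    (hV : ∀ Q : Subgroup G, IsPGroup 2 Q → Q ≤ cent z → Nat.card Q ≤ 4) : ¬ IsConj z j := by
  intro hc
  obtain ⟨g, hg⟩ := isConj_iff.mp hc.symm
  have h1 := hV ((P : Subgroup G).map (MulAut.conj g).toMonoidHom) (P.2.map _) (by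
    rintro _ ⟨x, hx, rfl⟩
    refine mem_cent.mpr ?_
    show g * x * g⁻¹ * z = z * (g * x * g⁻¹)
    rw [← hg]
    calc g * x * g⁻¹ * (g * j * g⁻¹) = g * (x * j) * g⁻¹ := by group
      _ = _ := by rw [h.jc x hx]; group)
  rw [card_map_of_injective (MulAut.conj g).injective] at h1
  exact absurd (h.card_gt P.2) h1.not_gt

theorem beta (hO : ∀ N : Subgroup G, N.Normal → Odd (Nat.card N) → N = ⊥)
    (hns : ¬ Group.IsSolvable G) (hA : Shape z A) (h : MC (P : Subgroup G) z r j)
    (hzj : ¬ IsConj z j) : IsTwoDimLinear G := by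
  haveI : Fact (Nat.Prime 2) := ⟨Nat.prime_two⟩
  have hzz := mul_self_of_two h.hz
  by_cases hw : z * r * (z * r) = 1
  · by_cases hwj : IsConj (z * r) j
    · obtain ⟨F, iF, iF', hq, -, he⟩ := beta_two hO hns hA h hzj hw hwj
      exact ⟨F, iF, iF', hq, Or.inr he⟩
    · obtain ⟨X, hX, hXodd, hXc⟩ := h.exists_cyclic_part hw hzj hwj
      haveI := hX
      exact absurd (isSolvable_of_inf_cyclic P X hXodd hXc) hns
  exfalso
  -- `j` is central
  have hcj : ∀ g : G, g * j = j * g := by
    refine central_of_isolated hO P h.hj h.jP fun g hg => ?_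
    rcases h.involution_cases hg (by rw [orderOf_conj', h.hj]) with e | e | e
    · exact e
    · exact absurd (e.trans (isConj_iff.mpr ⟨g, rfl⟩ : IsConj j _).symm) hzj
    · exfalso
      obtain ⟨k, hk⟩ := isConj_iff.mp (e.trans (isConj_iff.mpr ⟨g, rfl⟩ : IsConj j _).symm)
      apply hw
      refine (MulAut.conj k).injective ?_
      rw [map_mul, map_one, MulAut.conj_apply, hk, mul_self_of_two h.hj]
  have hfour : ∀ x, x * z = z * x → x = 1 ∨ x = z ∨ x = j ∨ x = z * j := fun x hx =>
    hA.cent_four h hx (hcj x)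
  have hKfour : ∀ x ∈ zpowers r, x * z = z * x → x = 1 ∨ x = j := by
    intro x hx hxz
    rcases hfour x hxz with e | e | e | e
    · exact Or.inl e
    · exact absurd (e ▸ hx) h.zr
    · exact Or.inr e
    · have h1 := mul_mem hx (inv_mem h.jK)
      rw [e, mul_inv_cancel_right] at h1
      exact absurd h1 h.zr
  have hww : z * r * (z * r) = j := by
    refine (hKfour _ ?_ ?_).resolve_left hw
    · rw [show z * r * (z * r) = z * r * z * r by group]
      exact mul_mem (h.znorm r (mem_zpowers r)) (mem_zpowers r)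
    · calc z * r * (z * r) * z = z * (r * (z * r * z)) := by group
        _ = z * (z * r * z * r) := by rw [zpowers_comm (mem_zpowers r) (h.znorm r (mem_zpowers r))]
        _ = _ := by group
  have hrr : r * r ≠ j := by
    intro e
    have hcases : ∀ x ∈ zpowers r, x = 1 ∨ x = j ∨ x = r ∨ x = r * j := by
      intro x hx
      have hmem : ∀ y, y ∈ zpowers (r * r) → y = 1 ∨ y = j := fun y hy =>
        h.uniq y (mem_rr_le hy) (by
          obtain ⟨i, rfl⟩ := mem_zpowers_iff.mp hy
          rw [e, ← (Commute.refl j).mul_zpow, mul_self_of_two h.hj, one_zpow])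
      rcases h.parity x hx with e' | e' <;> rcases hmem _ e' with f | f
      · exact Or.inl f
      · exact Or.inr (Or.inl f)
      · exact Or.inr (Or.inr (Or.inl (inv_mul_eq_one.mp f).symm))
      · exact Or.inr (Or.inr (Or.inr (by rw [← f, mul_inv_cancel_left])))
    have hr1 : r * r ≠ 1 := fun e' => ne_one_of_two h.hj (e.symm.trans e')
    have hback : r = z * (z * r * z) * z := by
      calc r = (z * z) * r * (z * z) := by rw [hzz, one_mul, mul_one]
        _ = _ := by group
    rcases hcases _ (h.znorm r (mem_zpowers r)) with f | f | f | f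
    · rw [f, mul_one, hzz] at hback
      exact hr1 (by rw [hback, one_mul])
    · rw [f, hcj z, mul_assoc, hzz, mul_one] at hback
      exact hr1 (by rw [hback, mul_self_of_two h.hj])
    · have hrz : r * z = z * r := by
        calc r * z = (z * r * z) * z := by rw [f]
          _ = z * r := by rw [mul_assoc, hzz, mul_one]
      rcases hKfour r (mem_zpowers r) hrz with f' | f'
      · exact hr1 (by rw [f', one_mul])
      · exact hr1 (by rw [f', mul_self_of_two h.hj])
    · apply hw
      calc z * r * (z * r) = (z * r * z) * r := by group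
        _ = r * (j * r) := by rw [f, mul_assoc]
        _ = r * r * j := by rw [← hcj r, mul_assoc]
        _ = 1 := by rw [e, mul_self_of_two h.hj]
  -- the element moving `z` to `z * j`
  obtain ⟨x, hxK, hxz⟩ := h.conjz j h.jR
  have hxx : x * x = 1 ∨ x * x = j := by
    refine hKfour _ (mul_mem hxK hxK) (mul_inv_eq_iff_eq_mul.mp ?_)
    calc x * x * z * (x * x)⁻¹ = x * (x * z * x⁻¹) * x⁻¹ := by group
      _ = x * (z * j) * x⁻¹ := by rw [hxz]
      _ = (x * z * x⁻¹) * (x * j * x⁻¹) := by group
      _ = z * j * j := by rw [hxz, hcj x, mul_inv_cancel_right]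
      _ = z := by rw [mul_assoc, mul_self_of_two h.hj, mul_one]
  -- the quotient by `⟨j⟩`
  have hJmem : ∀ a ∈ zpowers j, a = 1 ∨ a = j := by
    intro a ha
    obtain ⟨i, rfl⟩ := mem_zpowers_iff.mp ha
    rw [← zpow_mod_orderOf, h.hj]
    rcases Int.emod_two_eq_zero_or_one i with e | e <;> simp [e]
  haveI hJ : (zpowers j).Normal := ⟨fun a ha g => by
    obtain ⟨i, rfl⟩ := mem_zpowers_iff.mp ha
    rw [(Commute.zpow_right (hcj g) i).eq, mul_inv_cancel_right]
    exact ha⟩
  set π := QuotientGroup.mk' (zpowers j) with hπ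
  have hπsurj : Function.Surjective π := QuotientGroup.mk'_surjective _
  have hπker : ∀ a, π a = 1 ↔ a = 1 ∨ a = j := fun a => by
    rw [hπ, QuotientGroup.mk'_apply, QuotientGroup.eq_one_iff]
    exact ⟨hJmem a, by rintro (rfl | rfl); exacts [one_mem _, mem_zpowers _]⟩
  have hπj : π j = 1 := (hπker j).mpr (Or.inr rfl)
  have hπeq : ∀ a b, π a = π b → a = b ∨ a = b * j := by
    intro a b e
    rcases (hπker (b⁻¹ * a)).mp (by rw [map_mul, map_inv, e, inv_mul_cancel]) with f | f
    · exact Or.inl (inv_mul_eq_one.mp f).symm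
    · exact Or.inr (inv_mul_eq_iff_eq_mul.mp f)
  have hz' : orderOf (π z) = 2 := by
    refine orderOf_two_of (by rw [← map_mul, hzz, map_one]) fun e => ?_
    rcases (hπker z).mp e with f | f
    exacts [ne_one_of_two h.hz f, h.j_ne_z f.symm]
  have hx' : π x * π x = 1 := by
    rw [← map_mul]; exact (hπker _).mpr hxx
  have hxz' : π x * π z = π z * π x := by
    refine mul_inv_eq_iff_eq_mul.mp ?_
    rw [← map_inv, ← map_mul, ← map_mul, hxz, map_mul, hπj, mul_one]
  have hcent : ∀ q, q * π z = π z * q →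
      q = 1 ∨ q = π z ∨ q = π x ∨ q = π x * π z := by
    intro q hq
    obtain ⟨y, rfl⟩ := hπsurj q
    have hy : π (y * z * y⁻¹) = π z := by
      rw [map_mul, map_mul, map_inv, hq, mul_inv_cancel_right]
    have key : ∀ c, c * z = z * c → π c = 1 ∨ π c = π z := by
      intro c hc
      rcases hfour c hc with e | e | e | e <;> rw [e]
      · exact Or.inl (map_one _)
      · exact Or.inr rfl
      · exact Or.inl hπj
      · exact Or.inr (by rw [map_mul, hπj, mul_one])
    rcases hπeq _ _ hy with e | e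
    · rcases key y (mul_inv_eq_iff_eq_mul.mp e) with f | f
      exacts [Or.inl f, Or.inr (Or.inl f)]
    · rw [← hxz] at e
      have hc : x⁻¹ * y * z = z * (x⁻¹ * y) := by
        refine mul_inv_eq_iff_eq_mul.mp ?_
        calc x⁻¹ * y * z * (x⁻¹ * y)⁻¹ = x⁻¹ * (y * z * y⁻¹) * x := by group
          _ = z := by rw [e]; group
      rcases key _ hc with f | f
      · rw [map_mul, map_inv, inv_mul_eq_one] at f
        exact Or.inr (Or.inr (Or.inl f.symm))
      · rw [map_mul, map_inv, inv_mul_eq_iff_eq_mul] at f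
        exact Or.inr (Or.inr (Or.inr f))
  have hmemA : ∀ q, q ∈ zpowers (π z) ↔ q = 1 ∨ q = π z := by
    intro q
    refine ⟨fun hq => ?_, by rintro (rfl | rfl); exacts [one_mem _, mem_zpowers _]⟩
    obtain ⟨i, rfl⟩ := mem_zpowers_iff.mp hq
    rw [← zpow_mod_orderOf, hz']
    rcases Int.emod_two_eq_zero_or_one i with e | e <;> simp [e]
  have hxA : π x ∉ zpowers (π z) := by
    intro e
    have h0 : x * z = z * x := by
      rcases (hmemA _).mp e with f | f
      · rcases (hπker x).mp f with f' | f' <;> rw [f']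
        exacts [by simp, (hcj z).symm]
      · rcases hπeq _ _ f with f' | f'
        · exact absurd (f' ▸ hxK) h.zr
        · exfalso
          have h1 := mul_mem hxK (inv_mem h.jK)
          rw [f', mul_inv_cancel_right] at h1
          exact h.zr h1
    rw [h0, mul_inv_cancel_right] at hxz
    exact ne_one_of_two h.hj (left_eq_mul.mp hxz)
  have hA' : Shape (π z) (zpowers (π z)) := by
    have hcomm : ∀ a ∈ zpowers (π z), ∀ q, q * π z = π z * q → q * a = a * q := fun a ha q hq => by
      rcases (hmemA a).mp ha with rfl | rfl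
      exacts [by simp, hq]
    have hout : ∀ q, q * π z = π z * q → q ∉ zpowers (π z) → q = π x ∨ q = π x * π z := by
      intro q hq hqA
      rcases hcent q hq with f | f | f | f
      exacts [absurd ((hmemA q).mpr (Or.inl f)) hqA, absurd ((hmemA q).mpr (Or.inr f)) hqA,
        Or.inl f, Or.inr f]
    have hzz' := mul_self_of_two hz'
    constructor
    · exact fun a ha => (hcomm a ha (π z) rfl).symm
    · exact mem_zpowers _
    · exact fun a ha b hb => (zpowers_comm ha hb)
    · intro q hq hqA
      refine ⟨?_, fun a ha => ?_⟩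
      · rcases hout q hq hqA with rfl | rfl
        · exact hx'
        · rw [mul_assoc, ← mul_assoc (π z) (π x), ← hxz', mul_assoc, hzz', mul_one, hx']
      · rw [hcomm a ha q hq, mul_inv_cancel_right]
        rcases (hmemA a).mp ha with rfl | rfl
        exacts [inv_one.symm, (inv_of_two hz').symm]
    · intro p q hp hpA hq hqA
      refine (hmemA _).mpr ?_
      rcases hout p hp hpA with rfl | rfl <;> rcases hout q hq hqA with rfl | rfl
      · exact Or.inl hx'
      · exact Or.inr (by rw [← mul_assoc, hx', one_mul])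
      · exact Or.inr (by rw [hxz', mul_assoc, hx', mul_one])
      · exact Or.inl (by rw [mul_assoc, ← mul_assoc (π z) (π x), ← hxz', mul_assoc, hzz', mul_one, hx'])
    · exact fun a ha _ => (hmemA a).mp ha
    · exact ⟨π x, hxz', hxA⟩
  set P' := P.mapSurjective (f := π) hπsurj with hP'
  have hP'mem : ∀ q, q ∈ (P' : Subgroup (G ⧸ zpowers j)) ↔ ∃ y ∈ (P : Subgroup G), π y = q := by
    intro q
    rw [hP', Sylow.coe_mapSurjective, mem_map]
  have hKmem : ∀ y, π y ∈ zpowers (π r) → y ∈ zpowers r := by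
    intro y hy
    obtain ⟨i, hi⟩ := mem_zpowers_iff.mp hy
    rw [← map_zpow] at hi
    rcases hπeq _ _ hi.symm with e | e
    · rw [e]; exact zpow_mem (mem_zpowers r) i
    · rw [e]; exact mul_mem (zpow_mem (mem_zpowers r) i) h.jK
  have hmap : ∀ y, y ∈ zpowers r → π y ∈ zpowers (π r) := fun y hy => by
    obtain ⟨i, rfl⟩ := mem_zpowers_iff.mp hy
    rw [map_zpow]; exact zpow_mem (mem_zpowers _) i
  have hcard4 : Nat.card (cent (π z) : Subgroup (G ⧸ zpowers j)) = 4 := by
    classical
    have h1 : ((cent (π z) : Subgroup (G ⧸ zpowers j)) : Set (G ⧸ zpowers j)) =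
        ({1, π z, π x, π x * π z} : Set (G ⧸ zpowers j)) := by
      ext q
      refine ⟨fun hq => by simpa using hcent q (mem_cent.mp hq), ?_⟩
      rintro (rfl | rfl | rfl | rfl)
      · exact one_mem _
      · exact mem_cent.mpr rfl
      · exact mem_cent.mpr hxz'
      · exact mul_mem (mem_cent.mpr hxz') (mem_cent.mpr rfl)
    rw [← SetLike.coe_sort_coe, Nat.card_coe_set_eq, h1, Set.ncard_insert_of_notMem,
      Set.ncard_insert_of_notMem, Set.ncard_pair]
    · exact fun e => ne_one_of_two hz' (left_eq_mul.mp e)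
    · simp only [Set.mem_insert_iff, Set.mem_singleton_iff, not_or]
      exact ⟨fun e => hxA (e ▸ mem_zpowers _), fun e => hxA (by
        have : π x = 1 := right_eq_mul.mp e
        rw [this]; exact one_mem _)⟩
    · simp only [Set.mem_insert_iff, Set.mem_singleton_iff, not_or]
      refine ⟨(ne_one_of_two hz').symm, fun e => hxA (e ▸ one_mem _), fun e => hxA ?_⟩
      rw [eq_inv_of_mul_eq_one_left e.symm]
      exact inv_mem (mem_zpowers _)
  have hzr' : π z ∉ zpowers (π r) := fun e => h.zr (hKmem z e)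
  have hP'four : Nat.card ((P' : Subgroup (G ⧸ zpowers j)) ⊓ cent (π z) : Subgroup _) = 4 := by
    suffices hle : cent (π z) ≤ (P' : Subgroup (G ⧸ zpowers j)) by
      rw [inf_eq_right.mpr hle, hcard4]
    intro q hq
    refine (hP'mem q).mpr ?_
    have hxP := zpowers_le.mpr h.rP hxK
    rcases hcent q (mem_cent.mp hq) with rfl | rfl | rfl | rfl
    exacts [⟨1, one_mem _, map_one _⟩, ⟨z, h.zP, rfl⟩, ⟨x, hxP, rfl⟩,
      ⟨x * z, mul_mem hxP h.zP, map_mul _ _ _⟩]
  obtain ⟨j', h'⟩ := exists_MC (P := (P' : Subgroup (G ⧸ zpowers j))) P'.2 hz'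
    ((hP'mem _).mpr ⟨z, h.zP, rfl⟩) ((hP'mem _).mpr ⟨r, h.rP, rfl⟩) hzr'
    (by rw [← map_mul, ← map_mul]; exact hmap _ (h.znorm r (mem_zpowers r)))
    (fun q hq => by
      obtain ⟨y, hy, rfl⟩ := (hP'mem q).mp hq
      rcases h.cases y hy with e | e
      · exact Or.inl (hmap y e)
      · exact Or.inr (by rw [← map_mul]; exact hmap _ e))
    hP'four (fun e => by
      rw [← map_mul] at e
      rcases (hπker _).mp e with f | f
      · exact h.r_notMem (by
          rw [f, zpowers_one_eq_bot, mem_bot]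
          rcases h.uniq r (mem_zpowers r) f with f' | f'
          · exact f'
          · have h4 := h.jR
            rw [f, zpowers_one_eq_bot, mem_bot] at h4
            exact absurd h4 (ne_one_of_two h.hj))
      · exact hrr f)
  have hw' : π z * π r * (π z * π r) = 1 := by rw [← map_mul, ← map_mul, hww, hπj]
  have hzj' : ¬ IsConj (π z) j' := h'.not_isConj fun Q _ hQ => by
    rw [← hcard4]; exact card_le_of_le hQ
  have hns' : ¬ Group.IsSolvable (G ⧸ zpowers j) := fun e =>
    hns (isSolvable_of_extension (zpowers j)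
      (Group.isSolvable_of_comm fun a b => Subtype.ext (zpowers_comm a.2 b.2)) e)
  by_cases hwj : IsConj (π z * π r) j'
  swap
  · obtain ⟨X, hX, hXodd, hXc⟩ := h'.exists_cyclic_part hw' hzj' hwj
    haveI := hX
    exact hns' (isSolvable_of_inf_cyclic P' X hXodd hXc)
  have hO' : ∀ N : Subgroup (G ⧸ zpowers j), N.Normal → Odd (Nat.card N) → N = ⊥ := by
    intro N hN hodd
    haveI := hN
    set N' := N.comap π with hN'
    have hjN : j ∈ N' := by rw [hN', mem_comap, hπj]; exact one_mem N
    obtain ⟨T⟩ := (inferInstance : Nonempty (Sylow 2 N'))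
    have hTc : IsCyclic ↥((T : Subgroup N') ⊓ ⊤) := by
      rw [inf_top_eq]
      have hcard : Nat.card N' = 2 * Nat.card N := by
        have h1 := N'.card_mul_index
        rw [hN', index_comap_of_surjective _ hπsurj, ← (zpowers j).card_mul_index,
          Nat.card_zpowers, h.hj, index_eq_card (zpowers j), ← N.card_mul_index, ← mul_assoc,
          ← hN'] at h1
        exact Nat.eq_of_mul_eq_mul_right (Nat.pos_of_ne_zero FiniteIndex.index_ne_zero) h1
      obtain ⟨k, hk⟩ := IsPGroup.iff_card.mp T.2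
      rcases k with _ | _ | k
      · haveI : Subsingleton (T : Subgroup N') := (Nat.card_eq_one_iff_unique.mp (by simpa using hk)).1
        exact isCyclic_of_subsingleton
      · exact isCyclic_of_prime_card (p := 2) (by simpa using hk)
      · exfalso
        have h4 : 4 ∣ 2 * Nat.card N := by
          rw [← hcard]
          exact dvd_trans ⟨2 ^ k, by rw [hk]; ring⟩ (card_subgroup_dvd_card (T : Subgroup N'))
        obtain ⟨m, hm⟩ := hodd
        omega
    obtain ⟨K, hK, hKodd, hKall, -⟩ := exists_complement_of_inf_cyclic T ⊤ (fun _ _ => mem_top _) hTc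
    have hKn : (K.map N'.subtype).Normal := ⟨by
      rintro _ ⟨a, ha, rfl⟩ g
      refine ⟨⟨g * (a : G) * g⁻¹, (hN.comap π).conj_mem _ a.2 g⟩, hKall _ ?_, rfl⟩
      rw [Subgroup.orderOf_mk, orderOf_conj', Subgroup.orderOf_coe]
      exact odd_orderOf_of_mem hKodd ha⟩
    have hK1 : K.map N'.subtype = ⊥ := hO _ hKn (by
      rwa [card_map_of_injective N'.subtype_injective])
    rw [map_eq_bot_iff_of_injective _ N'.subtype_injective] at hK1
    rw [eq_bot_iff]
    intro q hq
    obtain ⟨y, rfl⟩ := hπsurj q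
    have hodd' := odd_orderOf_of_mem hodd hq
    set m := orderOf (π y) with hm
    have h1 : y ^ m = 1 ∨ y ^ m = j := (hπker _).mp (by rw [map_pow, hm, pow_orderOf_eq_one])
    have h2 : (y * y) ^ m = 1 := by
      rw [(Commute.refl y).mul_pow]
      rcases h1 with e | e <;> rw [e]
      · exact one_mul 1
      · exact mul_self_of_two h.hj
    have h3 : (⟨y * y, mul_mem hq hq⟩ : N') ∈ K := hKall _ (by
      rw [Subgroup.orderOf_mk]
      exact hodd'.of_dvd_nat (orderOf_dvd_of_pow_eq_one h2))
    rw [hK1, mem_bot] at h3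
    have h4 : y * y = 1 := congrArg Subtype.val h3
    rw [mem_bot]
    exact eq_one_of_odd_of_sq hodd' (by rw [← map_mul, h4, map_one])
  obtain ⟨F, iF, iF', hq, hFodd, ⟨e⟩⟩ := beta_two hO' hns' hA' h' hzj' hw' hwj
  have he2 : orderOf (e (π z)) = 2 := by rw [MulEquiv.orderOf_eq, hz']
  obtain ⟨t, ht, ht2⟩ := pgl_exists_commuting hFodd hq he2
  apply ht2
  have hc : e.symm t * π z = π z * e.symm t := e.injective (by simp [ht])
  rw [← e.apply_symm_apply t, ← map_mul, ← map_one e]
  congr 1
  rcases hcent _ hc with f | f | f | f <;> rw [f]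
  · exact one_mul 1
  · exact mul_self_of_two hz'
  · exact hx'
  · rw [mul_assoc, ← mul_assoc (π z) (π x), ← hxz', mul_assoc, mul_self_of_two hz', mul_one, hx']

end Cfsg.Agent.GenDih45
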