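import Cfsg.Agent.GenDih45.Tools

/-!
# A joined prime with nonabelian signalizer
-/

set_option autoImplicit false

namespace Cfsg.Agent.GenDih45

open Subgroup
open scoped commutatorElement

variable {G : Type*} [Group G] [Finite G]

/-- What the local analysis produces: a proper subgroup containing `C(a)` and fusing `a` with every
other involution commuting with it. -/
def HasFusingSub (a : G) : Prop :=
  ∃ M : Subgroup G, M ≠ ⊤ ∧ cent a ≤ M ∧
    ∀ f, Pair a f → ∃ y ∈ M, y * a * y⁻¹ = f ∧ y * f * y⁻¹ = a * f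

namespace Uni

variable (hU : Uni G)

include hU

theorem pair_of_shape {a : G} (ha : orderOf a = 2) : ∃ b, Pair a b := by
  obtain ⟨A, hA⟩ := hU.shape ha
  obtain ⟨b, hb, hbA⟩ := hA.exists_out
  refine ⟨b, ha, orderOf_two_of (hA.out b hb hbA).1 fun h => hbA (h ▸ A.one_mem), hb.symm, ?_⟩
  rintro rfl
  exact hbA hA.mem

omit [Finite G] in
theorem conj_pm {a x g : G} (ha : orderOf a = 2) (hx : x ∈ O a) (hg : g * a = a * g) :
    g * x * g⁻¹ = x ∨ g * x * g⁻¹ = x⁻¹ := by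
  obtain ⟨A, hA⟩ := hU.shape ha
  have hxA := hU.O_le ha hA hx
  by_cases hgA : g ∈ A
  · exact Or.inl (by rw [hA.comm g hgA x hxA, mul_inv_cancel_right])
  · exact Or.inr ((hA.out g hg hgA).2 x hxA)

omit [Finite G] in
/-- `C(a)` normalises the odd part of the centraliser of an element of `O a`. -/
theorem cent_normalizes {a x g : G} (ha : orderOf a = 2) (hx : x ∈ O a) (hg : g * a = a * g) :
    ∀ z ∈ oddPart (cent x), g * z * g⁻¹ ∈ oddPart (cent x) := by
  refine conj_mem_oddPart fun z hz => ?_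
  rw [mem_cent] at hz ⊢
  have h1 : Commute (g * z * g⁻¹) (g * x * g⁻¹) := by
    show g * z * g⁻¹ * (g * x * g⁻¹) = g * x * g⁻¹ * (g * z * g⁻¹)
    calc g * z * g⁻¹ * (g * x * g⁻¹) = g * (z * x) * g⁻¹ := by group
      _ = _ := by rw [hz]; group
  rcases hU.conj_pm ha hx hg with h | h
  · rwa [h] at h1
  · rw [h] at h1; simpa using h1.inv_right.eq

omit hU [Finite G] in
theorem inv_of_cent {a f : G} {Y : Subgroup G} (V : Pair a f)
    (h : ∀ g, g * a = a * g → ∀ z ∈ Y, g * z * g⁻¹ ∈ Y) : Inv a f Y :=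
  ⟨h a rfl, h f V.comm.symm⟩

omit [Finite G] in
theorem pi_map {a b y : G} (V : Pair a b) (hy₁ : y * a * y⁻¹ = b) (hy₂ : y * b * y⁻¹ = a * b)
    {p : ℕ} {Y : Subgroup G} (hY : PI a b p Y) :
    PI a b p (Y.map (MulAut.conj y).toMonoidHom) := by
  refine ⟨hY.pgroup.map _, ?_⟩
  have h := hY.inv.map_conj y
  rw [hy₁, hy₂] at h
  have h2 := h.left
  rw [show b * (a * b) = a by rw [V.comm, ← mul_assoc, mul_self_of_two V.hf, one_mul]] at h2
  exact h2.symm

/-- The cycle normalises the largest invariant `p`-subgroup. -/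
theorem cycle_mem_normalizer {a b y : G} (V : Pair a b) (hy₁ : y * a * y⁻¹ = b)
    (hy₂ : y * b * y⁻¹ = a * b) {p : ℕ} {Q : Subgroup G} (hQ : PI a b p Q)
    (hmax : ∀ Y, PI a b p Y → Y ≤ Q) : y ∈ normalizer (Q : Set G) :=
  mem_normalizer_of_map_eq (eq_of_le_of_card_ge (hmax _ (hU.pi_map V hy₁ hy₂ hQ))
    (by rw [card_map_of_injective (MulAut.conj y).injective]))

theorem hasFusingSub_of_nonabelian (hO : ∀ N : Subgroup G, N.Normal → Odd (Nat.card N) → N = ⊥)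
    {a b : G} (V : Pair a b) {p : ℕ} [Fact p.Prime] (hp2 : p ≠ 2) (hj : Joined a b p)
    {Y₀ : Subgroup G} (hY₀ : PI a b p Y₀) (hnc : ¬ ∀ u ∈ Y₀, ∀ v ∈ Y₀, u * v = v * u) :
    HasFusingSub a := by
  obtain ⟨Q, hQ, hQmax, hQfull, -⟩ := hU.uniform V hp2 hj
  have hQne : Q ≠ ⊥ := fun h => hnc fun u hu v hv => by
    have h1 := hQmax Y₀ hY₀ hu
    rw [h, mem_bot] at h1
    simp [h1]
  obtain ⟨y, hy₁, hy₂, hy₃⟩ := hU.exists_cycle V
  have hyQ := hU.cycle_mem_normalizer V hy₁ hy₂ hQ hQmax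
  -- a central element on the axis of `a`
  obtain ⟨x, hx, hx1, hxc⟩ : ∃ x, x ∈ Pp p a ∧ x ≠ 1 ∧ ∀ q ∈ Q, q * x = x * q := by
    obtain ⟨d, z, hd, hz, hz1, hzc⟩ := hU.exists_central_axis V hp2 hQ hQne
    have move : ∀ g, g ∈ normalizer (Q : Set G) → g * d * g⁻¹ = a →
        ∃ x, x ∈ Pp p a ∧ x ≠ 1 ∧ ∀ q ∈ Q, q * x = x * q := by
      intro g hg hgd
      refine ⟨g * z * g⁻¹, hgd ▸ Pp_map_conj g d ▸ ⟨z, hz, rfl⟩,
        fun h => hz1 (conj_eq_one_iff.mp h), fun q hq => ?_⟩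
      have h1 : g⁻¹ * q * g ∈ Q :=
        (mem_normalizer_iff.mp hg _).mpr (by simpa [mul_assoc] using hq)
      calc q * (g * z * g⁻¹) = g * ((g⁻¹ * q * g) * z) * g⁻¹ := by group
        _ = _ := by rw [hzc _ h1]; group
    rcases hd with rfl | rfl | rfl
    · exact ⟨z, hz, hz1, hzc⟩
    · exact move y⁻¹ (inv_mem hyQ) (by rw [← hy₁]; group)
    · exact move y hyQ hy₃
  have hxO := Pp_le p a hx
  set X := oddPart (cent x) with hX
  have hXodd : Odd (Nat.card X) := hU.odd_cent ((hU.mem_O V.he).mp hxO).2 hx1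
  have hXn : ∀ g, g * a = a * g → ∀ z ∈ X, g * z * g⁻¹ ∈ X := fun g hg =>
    hU.cent_normalizes V.he hxO hg
  have hQX : Q ≤ X := fun q hq =>
    mem_oddPart_of (mem_cent.mpr (hxc q hq)) (odd_orderOf_of_mem (hU.odd_of_pgroup hp2 hQ.pgroup) hq)
  obtain ⟨R, hR⟩ := hU.exists_invSylow V hXodd (inv_of_cent V hXn) p
  have hRQ : R = Q :=
    le_antisymm (hQmax R ⟨hR.pgroup, hR.inv⟩) (hR.max Q hQX hQ.pgroup hQ.inv)
  have hcard : Nat.card Q = p ^ (Nat.card X).factorization p := hRQ ▸ hR.card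
  set N := ⁅X, X⁆ with hN
  have hNnil : Group.IsNilpotent N :=
    (hU.fourAct V hXodd (hXn a rfl) (hXn b V.comm.symm)).commutator_isNilpotent
  have hNX : N ≤ X := commutator_self_le X
  set K₀ := ⁅Q, Q⁆ with hK₀
  have hK₀Q : K₀ ≤ Q := commutator_self_le Q
  have hK₀N : K₀ ≤ N := commutator_mono hQX hQX
  have hQK : normalizer (Q : Set G) ≤ normalizer (K₀ : Set G) := by
    intro g hg
    refine mem_normalizer_of_map_eq ?_
    rw [hK₀, map_commutator, map_conj_eq_of_mem hg]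
  have hXN : ∀ g ∈ X, ∀ z ∈ N, g * z * g⁻¹ ∈ N := by
    intro g hg z hz
    have h1 := commutator_mem_commutator (H₁ := X) (H₂ := X) hg (hNX hz)
    have h2 := mul_mem h1 hz
    rw [commutatorElement_def] at h2
    simpa [mul_assoc] using h2
  have hXeN : ∀ g, g * a = a * g → ∀ z ∈ N, g * z * g⁻¹ ∈ N := by
    intro g hg z hz
    have hle : X.map (MulAut.conj g).toMonoidHom ≤ X := by
      rintro _ ⟨w, hw, rfl⟩; exact hXn g hg w hw
    have h1 : (⁅X, X⁆).map (MulAut.conj g).toMonoidHom ≤ ⁅X, X⁆ := by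
      rw [map_commutator]; exact commutator_mono hle hle
    exact h1 ⟨z, hz, rfl⟩
  -- `N` normalises `K₀`
  have hNK : N ≤ normalizer (K₀ : Set G) := by
    obtain ⟨P⟩ := (inferInstance : Nonempty (Sylow p N))
    haveI : (P : Subgroup N).Normal := Transfer.nilpotent_sylow_normal hNnil P
    set Nr := (P : Subgroup N).map N.subtype with hNr
    have hNrp : IsPGroup p Nr := P.isPGroup'.map _
    have hNrN : Nr ≤ N := map_subtype_le _
    have hmem : ∀ u ∈ N, (∃ j, orderOf u = p ^ j) → u ∈ Nr := by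
      rintro u hu ⟨j, hj⟩
      exact ⟨⟨u, hu⟩, Transfer.nilpotent_mem_sylow hNnil P (k := j)
        (by rw [Subgroup.orderOf_mk, hj]), rfl⟩
    have hNrn : ∀ g, (∀ z ∈ N, g * z * g⁻¹ ∈ N) → ∀ z ∈ Nr, g * z * g⁻¹ ∈ Nr := by
      intro g hg z hz
      obtain ⟨j, hj⟩ := IsPGroup.iff_orderOf.mp hNrp ⟨z, hz⟩
      rw [Subgroup.orderOf_mk] at hj
      exact hmem _ (hg z (hNrN hz)) ⟨j, by rw [orderOf_conj', hj]⟩
    have hNrQ : Nr ≤ Q := hQmax Nr ⟨hNrp, inv_of_cent V fun g hg => hNrn g (hXeN g hg)⟩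
    have hK₀Nr : K₀ ≤ Nr := fun u hu => by
      obtain ⟨j, hj⟩ := IsPGroup.iff_orderOf.mp hQ.pgroup ⟨u, hK₀Q hu⟩
      rw [Subgroup.orderOf_mk] at hj
      exact hmem u (hK₀N hu) ⟨j, hj⟩
    intro n hn
    set m := orderOf n
    set j := m.factorization p
    have hm : p ^ j * (m / p ^ j) = m := Nat.ordProj_mul_ordCompl_eq_self m p
    have hco : (p ^ j).Coprime (m / p ^ j) :=
      (Nat.coprime_ordCompl (Fact.out : p.Prime) (orderOf_pos n).ne').pow_left j
    obtain ⟨s, t, hst⟩ : ∃ s t : ℤ, ((p ^ j : ℕ) : ℤ) * s + ((m / p ^ j : ℕ) : ℤ) * t = 1 :=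
      ⟨_, _, (Nat.gcd_eq_gcd_ab _ _).symm.trans (by rw [hco.gcd_eq_one]; rfl)⟩
    set n₂ := n ^ (((p ^ j : ℕ) : ℤ) * s)
    set n₁ := n ^ (((m / p ^ j : ℕ) : ℤ) * t)
    have hn12 : n₂ * n₁ = n := by rw [← zpow_add, hst, zpow_one]
    have hn₁ : n₁ ∈ Nr := by
      refine hmem _ (zpow_mem hn _) ?_
      have h1 : n₁ ^ (p ^ j) = 1 := by
        rw [← zpow_natCast n₁, ← zpow_mul, show ((m / p ^ j : ℕ) : ℤ) * t * ((p ^ j : ℕ) : ℤ)
          = ((p ^ j * (m / p ^ j) : ℕ) : ℤ) * t by push_cast; ring, hm, zpow_mul, zpow_natCast,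
          pow_orderOf_eq_one, one_zpow]
      obtain ⟨i, -, hi⟩ := (Nat.dvd_prime_pow Fact.out).mp (orderOf_dvd_of_pow_eq_one h1)
      exact ⟨i, hi⟩
    have hn₂ : (orderOf n₂).Coprime p := by
      have h1 : n₂ ^ (m / p ^ j) = 1 := by
        rw [← zpow_natCast n₂, ← zpow_mul, show ((p ^ j : ℕ) : ℤ) * s * ((m / p ^ j : ℕ) : ℤ)
          = ((p ^ j * (m / p ^ j) : ℕ) : ℤ) * s by push_cast; ring, hm, zpow_mul, zpow_natCast,
          pow_orderOf_eq_one, one_zpow]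
      exact Nat.Coprime.coprime_dvd_left (orderOf_dvd_of_pow_eq_one h1)
        (Nat.coprime_ordCompl (Fact.out : p.Prime) (orderOf_pos n).ne').symm
    have hn₂N : n₂ ∈ N := zpow_mem hn _
    have h2 : n₂ ∈ normalizer (K₀ : Set G) := centralizer_le_normalizer _
      (mem_centralizer_iff.mpr fun u hu => by
        obtain ⟨i, hi⟩ := IsPGroup.iff_orderOf.mp hNrp ⟨u, hK₀Nr hu⟩
        rw [Subgroup.orderOf_mk] at hi
        exact congrArg Subtype.val (Transfer.nilpotent_commute_of_coprime hNnil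
          (x := (⟨u, hK₀N hu⟩ : N)) (y := ⟨n₂, hn₂N⟩) (by
            rw [Subgroup.orderOf_mk, Subgroup.orderOf_mk, hi]
            exact (hn₂.pow_right i).symm)))
    exact hn12 ▸ mul_mem h2 (hQK (le_normalizer (hNrQ hn₁)))
  have hcomp : ∀ g, ∀ P : Subgroup G, P.map (MulAut.conj g).toMonoidHom ≤ X → Nat.card P = Nat.card Q →
      ∀ h ∈ X, ((Q.map (MulAut.conj h).toMonoidHom : Subgroup G) =
        P.map (MulAut.conj g).toMonoidHom) →
        (h⁻¹ * g) ∈ {k | P.map (MulAut.conj k).toMonoidHom = Q} := by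
    intro g P _ _ h _ he
    show P.map (MulAut.conj (h⁻¹ * g)).toMonoidHom = Q
    rw [show (MulAut.conj (h⁻¹ * g)).toMonoidHom
      = (MulAut.conj h⁻¹).toMonoidHom.comp (MulAut.conj g).toMonoidHom by ext z; simp [mul_assoc],
      ← Subgroup.map_map, ← he, Subgroup.map_map]
    convert Subgroup.map_id Q using 2
    ext z; simp [mul_assoc]
  have hXK : X ≤ normalizer (K₀ : Set G) := by
    intro g hg
    have h1 : Q.map (MulAut.conj g).toMonoidHom ≤ Q ⊔ N := by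
      rintro _ ⟨q, hq, rfl⟩
      have h2 := commutator_mem_commutator (H₁ := X) (H₂ := X) hg (hQX hq)
      show g * q * g⁻¹ ∈ Q ⊔ N
      have h3 := mul_mem (mem_sup_right (S := Q) h2) (mem_sup_left (T := N) hq)
      rw [commutatorElement_def] at h3
      simpa [mul_assoc] using h3
    obtain ⟨h, hh, hhe⟩ := exists_conj_of_card (X := X) (sup_le hQX hNX) le_sup_left h1 hcard
      (by rw [card_map_of_injective (MulAut.conj g).injective, hcard])
    have h2 : h⁻¹ * g ∈ normalizer (Q : Set G) := mem_normalizer_of_map_eq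
      (hcomp g Q (h1.trans (sup_le hQX hNX)) rfl h (sup_le hQX hNX hh) hhe)
    have h3 : h ∈ normalizer (K₀ : Set G) := sup_le (le_normalizer.trans hQK) hNK hh
    simpa using mul_mem h3 (hQK h2)
  have hcentK : cent a ≤ normalizer (K₀ : Set G) := by
    intro g hg
    have h1 : Q.map (MulAut.conj g).toMonoidHom ≤ X := by
      rintro _ ⟨q, hq, rfl⟩; exact hXn g (mem_cent.mp hg) q (hQX hq)
    obtain ⟨h, hh, hhe⟩ := exists_conj_of_card (X := X) le_rfl hQX h1 hcard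
      (by rw [card_map_of_injective (MulAut.conj g).injective, hcard])
    have h2 : h⁻¹ * g ∈ normalizer (Q : Set G) := mem_normalizer_of_map_eq (hcomp g Q h1 rfl h hh hhe)
    simpa using mul_mem (hXK hh) (hQK h2)
  refine ⟨normalizer (K₀ : Set G), fun htop => ?_, hcentK, fun f W => ?_⟩
  · have hK : K₀ = ⊥ := hO K₀ (normalizer_eq_top_iff.mp htop)
      ((hU.odd_of_pgroup hp2 hQ.pgroup).of_dvd_nat (card_dvd_of_le hK₀Q))
    refine hnc fun u hu v hv => commutatorElement_eq_one_iff_mul_comm.mp (mem_bot.mp (hK ▸ ?_))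
    exact commutator_mem_commutator (hQmax Y₀ hY₀ hu) (hQmax Y₀ hY₀ hv)
  · obtain ⟨R₂, hR₂⟩ := hU.exists_invSylow W hXodd (inv_of_cent W hXn) p
    have hR₂pi : PI a f p R₂ := ⟨hR₂.pgroup, hR₂.inv⟩
    have hR₂full : ∀ d, Ax a f d → Pp p d ≤ R₂ := (hU.full_iff_card W hp2 hR₂pi).mpr
      (by rw [hR₂.card, ← hcard]; exact (hU.full_iff_card V hp2 hQ).mp hQfull)
    obtain ⟨y', h₁, h₂, -⟩ := hU.exists_cycle W
    have hyR := hU.cycle_mem_normalizer W h₁ h₂ hR₂pi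
      fun Y hY => hU.pi_le_of_full W hp2 hY hR₂full
    obtain ⟨h, hh, hhe⟩ := exists_conj_of_card (X := X) le_rfl hQX hR₂.le hcard hR₂.card
    have h3 : ⁅R₂, R₂⁆ = K₀ := by
      rw [← hhe, ← map_commutator]
      exact map_conj_eq_of_mem (hXK hh)
    refine ⟨y', mem_normalizer_of_map_eq ?_, h₁, h₂⟩
    rw [← h3, map_commutator, map_conj_eq_of_mem hyR]

end Uni

end Cfsg.Agent.GenDih45
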