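import Cfsg.Agent.GenDih45.CaseA

/-!
# All joined primes have abelian signalizers
-/

set_option autoImplicit false

namespace Cfsg.Agent.GenDih45

open Subgroup
open scoped commutatorElement

variable {G : Type*} [Group G] [Finite G]

/-- `H` is an odd subgroup normalised by `C(a)` and maximal as such. -/
structure MaxSig (a : G) (H : Subgroup G) : Prop where
  odd : Odd (Nat.card H)
  norm : cent a ≤ normalizer (H : Set G)
  max : ∀ K : Subgroup G, Odd (Nat.card K) → cent a ≤ normalizer (K : Set G) → H ≤ K → K ≤ H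

omit [Finite G] in
theorem inv_of_norm {a f : G} (V : Pair a f) {H : Subgroup G}
    (h : cent a ≤ normalizer (H : Set G)) : Inv a f H :=
  Inv.of_normalizer (h (mem_cent.mpr rfl)) (h (mem_cent.mpr V.comm.symm))

theorem odd_sup {H W : Subgroup G} (hn : H ≤ normalizer (W : Set G)) (hH : Odd (Nat.card H))
    (hW : Odd (Nat.card W)) : Odd (Nat.card (H ⊔ W : Subgroup G)) := by
  refine (hH.mul hW).of_dvd_nat ?_
  set L := normalizer (W : Set G)
  haveI : (W.subgroupOf L).Normal := normal_in_normalizer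
  have h1 := Thompson.card_sup_dvd_mul (H.subgroupOf L) (W.subgroupOf L)
  rw [← subgroupOf_sup hn le_normalizer,
    Nat.card_congr (subgroupOfEquivOfLe (sup_le hn le_normalizer)).toEquiv,
    Nat.card_congr (subgroupOfEquivOfLe hn).toEquiv,
    Nat.card_congr (subgroupOfEquivOfLe (le_normalizer (H := W))).toEquiv] at h1
  exact h1

/-- The largest invariant `r`-subgroups for the joined primes `r` with `O_r(H) ≠ 1`. -/
def sigSet (a f : G) (H : Subgroup G) : Set (Subgroup G) :=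
  {Q | ∃ r : ℕ, r.Prime ∧ r ≠ 2 ∧ Joined a f r ∧ BGUniq.core r H ≠ ⊥ ∧ PI a f r Q ∧
    ∀ Y, PI a f r Y → Y ≤ Q}

/-- The union of the largest invariant `r`-subgroups for the joined primes `r` with `O_r(H) ≠ 1`. -/
def bigY (a f : G) (H : Subgroup G) : Subgroup G :=
  sSup (sigSet a f H)

namespace Uni

variable (hU : Uni G) {a : G}
  (hcomm : ∀ f (r : ℕ), Pair a f → r.Prime → r ≠ 2 → Joined a f r →
    ∀ Y, PI a f r Y → ∀ u ∈ Y, ∀ v ∈ Y, u * v = v * u)

include hU hcomm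

variable {H : Subgroup G} (hH : MaxSig a H)

include hH

theorem pi_core {f : G} (W : Pair a f) (r : ℕ) : PI a f r (BGUniq.core r H) := by
  have h := inv_of_norm W hH.norm
  exact ⟨BGUniq.isPGroup_core r H,
    fun x hx => conj_mem_core (hH.norm (mem_cent.mpr rfl)) hx,
    fun x hx => conj_mem_core (hH.norm (mem_cent.mpr W.comm.symm)) hx⟩

theorem prime_ne_two {r : ℕ} (h : BGUniq.core r H ≠ ⊥) : r ≠ 2 := by
  rintro rfl
  haveI : Fact (Nat.Prime 2) := ⟨Nat.prime_two⟩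
  rcases (BGUniq.isPGroup_core 2 H).card_eq_or_dvd with h1 | h1
  · exact h (eq_bot_of_card_eq _ h1)
  · exact absurd (hH.odd.of_dvd_nat (card_dvd_of_le (BGUniq.core_le 2 H)))
      (Nat.not_odd_iff_even.mpr (even_iff_two_dvd.mpr h1))

/-- A joined prime dividing `|F(H)|` has its signalizer in `H`. -/
theorem le_of_core {f : G} (W : Pair a f) {r : ℕ} [Fact r.Prime] (hj : Joined a f r)
    (hc : BGUniq.core r H ≠ ⊥) {Q : Subgroup G} (hQ : PI a f r Q)
    (hQmax : ∀ Y, PI a f r Y → Y ≤ Q) : Q ≤ H := by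
  have hr2 := hU.prime_ne_two hcomm hH hc
  set E := BGUniq.core r H with hE
  have hEQ : E ≤ Q := hQmax E (hU.pi_core hcomm hH W r)
  set C := oddPart (centralizer (E : Set G)) with hC
  obtain ⟨⟨u, hu⟩, hu1⟩ := ne_bot_iff_exists_ne_one.mp hc
  have hu1' : u ≠ 1 := fun h => hu1 (Subtype.ext h)
  have huo : Odd (orderOf u) := odd_orderOf_of_mem hH.odd (BGUniq.core_le r H hu)
  have hCodd : Odd (Nat.card C) := by
    refine (hU.odd_cent huo hu1').of_dvd_nat (card_dvd_of_le ((closure_le _).mpr fun z hz => ?_))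
    exact mem_oddPart_of (mem_cent.mpr (mem_centralizer_iff.mp hz.1 u hu).symm) hz.2
  have hQC : Q ≤ C := fun q hq => mem_oddPart_of
    (mem_centralizer_iff.mpr fun v hv => hcomm f r W Fact.out hr2 hj Q hQ v (hEQ hv) q hq)
    (odd_orderOf_of_mem (hU.odd_of_pgroup hr2 hQ.pgroup) hq)
  have hCn : ∀ g, g ∈ normalizer (H : Set G) → g ∈ normalizer (C : Set G) := by
    intro g hg
    have key : ∀ g, g ∈ normalizer (H : Set G) → ∀ z ∈ C, g * z * g⁻¹ ∈ C := by
      intro g hg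
      refine conj_mem_oddPart fun z hz => mem_centralizer_iff.mpr fun v hv => ?_
      have hv' : g⁻¹ * v * g⁻¹⁻¹ ∈ E := conj_mem_core (inv_mem hg) hv
      rw [inv_inv] at hv'
      calc v * (g * z * g⁻¹) = g * ((g⁻¹ * v * g) * z) * g⁻¹ := by group
        _ = _ := by rw [mem_centralizer_iff.mp hz _ hv']; group
    refine mem_normalizer_iff.mpr fun z => ⟨key g hg z, fun hz => ?_⟩
    simpa [mul_assoc] using key g⁻¹ (inv_mem hg) _ hz
  have hHC : H ≤ normalizer (C : Set G) := fun h hh => hCn h (le_normalizer hh)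
  have hsup : H ⊔ C ≤ H := hH.max _ (odd_sup hHC hH.odd hCodd)
    (Coprime.le_normalizer_sup hH.norm fun g hg => hCn g (hH.norm hg)) le_sup_left
  exact hQC.trans ((le_sup_right : C ≤ H ⊔ C).trans hsup)

/-- A joined signalizer in `H` centralises `O_s(H)` for a prime `s` which is not joined. -/
theorem centralizes_core {f : G} (W : Pair a f) {r s : ℕ} [Fact r.Prime] [Fact s.Prime]
    (hr2 : r ≠ 2) {Q : Subgroup G} (hQ : PI a f r Q) (hQH : Q ≤ H) (hs : ¬ Joined a f s) :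
    ∀ q ∈ Q, ∀ u ∈ BGUniq.core s H, u * q = q * u := by
  by_cases hb : BGUniq.core s H = ⊥
  · intro q _ u hu
    rw [hb, mem_bot] at hu
    rw [hu, one_mul, mul_one]
  have hs2 := hU.prime_ne_two hcomm hH hb
  obtain ⟨e, he, heE⟩ := hU.le_axis W hs2 hs (hU.pi_core hcomm hH W s)
  have hle : Q ≤ centralizer (BGUniq.core s H : Set G) := by
    refine hU.pi_le W hr2 hQ fun d hd => ?_
    rintro t ⟨ht, htd⟩
    replace htd : t * d = d * t := mem_cent.mp htd
    refine mem_centralizer_iff.mpr fun u hu => ?_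
    have hto := odd_orderOf_of_mem (hU.odd_of_pgroup hr2 hQ.pgroup) ht
    have htO : t ∈ O d := (hU.mem_O (hd.two W)).mpr ⟨htd, hto⟩
    by_cases hde : d = e
    · subst hde
      exact hU.O_comm (hd.two W) (Pp_le s d (heE hu)) htO
    · have het : e * t * e⁻¹ = t⁻¹ := hU.inverts (hd.pair W he hde) htO
      have hfix : ∀ v ∈ BGUniq.core s H, e * v * e⁻¹ = v := fun v hv => by
        rw [← hU.Pp_cent (he.two W) (heE hv), mul_inv_cancel_right]
      have htu := conj_mem_core (p := s) (le_normalizer (hQH ht)) hu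
      have h1 := hfix _ htu
      rw [show e * (t * u * t⁻¹) * e⁻¹ = (e * t * e⁻¹) * (e * u * e⁻¹) * (e * t * e⁻¹)⁻¹ by group,
        het, hfix u hu, inv_inv] at h1
      have h2 : Commute (t ^ 2) u := by
        refine mul_inv_eq_iff_eq_mul.mp ?_
        rw [sq]
        calc t * t * u * (t * t)⁻¹ = t * (t * u * t⁻¹) * t⁻¹ := by group
          _ = u := by rw [← h1]; group
      obtain ⟨m, hm⟩ := exists_pow_eq_self_of_coprime (x := t) (n := 2)
        (Nat.coprime_two_left.mpr hto)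
      have h3 := h2.pow_left m
      rw [hm] at h3
      exact h3.eq.symm
  exact fun q hq u hu => mem_centralizer_iff.mp (hle hq) u hu

/-- There is a joined prime `p` with `O_p(H) ≠ 1`. -/
theorem exists_prime {b : G} (V : Pair a b) {p₀ : ℕ} [Fact p₀.Prime] (hp₀ : p₀ ≠ 2)
    (hj : Joined a b p₀) {Q₀ : Subgroup G} (hQ₀ : PI a b p₀ Q₀) (hQ₀H : Q₀ ≤ H) (hQ₀ne : Q₀ ≠ ⊥) :
    ∃ p : ℕ, p.Prime ∧ Joined a b p ∧ BGUniq.core p H ≠ ⊥ := by
  by_cases h0 : BGUniq.core p₀ H = ⊥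
  swap
  · exact ⟨p₀, Fact.out, hj, h0⟩
  by_contra hcon
  push Not at hcon
  have hF : ∀ q ∈ Q₀, q ∈ Cfsg.fittingOf H := by
    intro q hq
    refine BGUniq.inf_centralizer_fittingOf_le (isSolvable_of_odd hH.odd) ⟨hQ₀H hq,
      mem_centralizer_iff.mpr fun u hu => (centralizes_fitting (x := q) (fun s hs v hv => ?_) u hu).symm⟩
    haveI := Fact.mk hs
    by_cases hsj : Joined a b s
    · rw [hcon s hs hsj, mem_bot] at hv
      rw [hv, one_mul, mul_one]
    · exact hU.centralizes_core hcomm hH V hp₀ hQ₀ hQ₀H hsj q hq v hv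
  obtain ⟨⟨q, hq⟩, hq1⟩ := ne_bot_iff_exists_ne_one.mp hQ₀ne
  obtain ⟨j, hj'⟩ := IsPGroup.iff_orderOf.mp hQ₀.pgroup ⟨q, hq⟩
  rw [Subgroup.orderOf_mk] at hj'
  have := BGUniq.mem_core_of_mem_fittingOf (hF q hq) (j := j) hj'
  rw [h0, mem_bot] at this
  exact hq1 (Subtype.ext this)

/-- `O_p(H)` is `O_p` of the group generated by the joined signalizers. -/
theorem core_eq {f : G} (W : Pair a f) {p : ℕ} [Fact p.Prime] (hj : Joined a f p)
    (hc : BGUniq.core p H ≠ ⊥) : BGUniq.core p (bigY a f H) = BGUniq.core p H := by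
  set Y := bigY a f H with hY
  have hYH : Y ≤ H := sSup_le fun Q ⟨r, hr, _, hjr, hcr, hQ, hmax⟩ =>
    haveI := Fact.mk hr
    hU.le_of_core hcomm hH W hjr hcr hQ hmax
  have hp2 := hU.prime_ne_two hcomm hH hc
  obtain ⟨Q, hQ, hQmax, -, -⟩ := hU.uniform W hp2 hj
  have hQY : Q ≤ Y := le_sSup ⟨p, Fact.out, hp2, hj, hc, hQ, hQmax⟩
  have hYn : ∀ r, Y ≤ normalizer (BGUniq.core r H : Set G) := fun r =>
    hYH.trans (BGUniq.le_normalizer_core r H)
  have hHY : BGUniq.core p H ≤ Y := (hQmax _ (hU.pi_core hcomm hH W p)).trans hQY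
  have hYi : Inv a f Y := by
    have key : ∀ d, d * d = 1 → (∀ Q : Subgroup G, ∀ r, PI a f r Q → ∀ x ∈ Q, d * x * d⁻¹ ∈ Q) →
        ∀ x ∈ Y, d * x * d⁻¹ ∈ Y := by
      intro d _ hd
      have : Y ≤ Y.comap (MulAut.conj d).toMonoidHom := by
        refine sSup_le fun Q hQ' x hx => ?_
        obtain ⟨r, hr⟩ := hQ'
        exact le_sSup (show Q ∈ sigSet a f H from ⟨r, hr⟩) (hd Q r hr.2.2.2.2.1 x hx)
      exact fun x hx => this hx
    exact ⟨key a (mul_self_of_two W.he) fun Q r h => h.inv.le₁,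
      key f (mul_self_of_two W.hf) fun Q r h => h.inv.le₂⟩
  have hD'pi : PI a f p (BGUniq.core p Y) :=
    ⟨BGUniq.isPGroup_core p Y,
      fun x hx => conj_mem_core (Inv.mem_normalizer_of (mul_self_of_two W.he) hYi.le₁) hx,
      fun x hx => conj_mem_core (Inv.mem_normalizer_of (mul_self_of_two W.hf) hYi.le₂) hx⟩
  refine le_antisymm (fun x hx => ?_) (fun x hx => ?_)
  · -- `O_p(Y)` centralises `F(H)`
    have hxQ : x ∈ Q := hQmax _ hD'pi hx
    have hxH : x ∈ H := hYH (hQY hxQ)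
    obtain ⟨i, hi⟩ := IsPGroup.iff_orderOf.mp hQ.pgroup ⟨x, hxQ⟩
    rw [Subgroup.orderOf_mk] at hi
    refine BGUniq.mem_core_of_mem_fittingOf (BGUniq.inf_centralizer_fittingOf_le
      (isSolvable_of_odd hH.odd) ⟨hxH, mem_centralizer_iff.mpr fun u hu =>
        (centralizes_fitting (x := x) (fun s hs v hv => ?_) u hu).symm⟩) (j := i) hi
    haveI := Fact.mk hs
    by_cases hsj : Joined a f s
    · by_cases hsp : s = p
      · subst hsp
        exact hcomm f s W hs hp2 hj Q hQ v (hQmax _ (hU.pi_core hcomm hH W s) hv) x hxQ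
      · by_cases hb : BGUniq.core s H = ⊥
        · rw [hb, mem_bot] at hv
          rw [hv, one_mul, mul_one]
        obtain ⟨Qs, hQs, hQsmax, -, -⟩ := hU.uniform W (hU.prime_ne_two hcomm hH hb) hsj
        have hvY : v ∈ Y := le_sSup (a := Qs)
          (show Qs ∈ sigSet a f H from
            ⟨s, hs, hU.prime_ne_two hcomm hH hb, hsj, hb, hQs, hQsmax⟩)
          (hQsmax _ (hU.pi_core hcomm hH W s) hv)
        have hxY : x ∈ Y := hQY hxQ
        have h1 : ⁅v, x⁆ ∈ BGUniq.core p Y := by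
          rw [commutatorElement_def]
          exact mul_mem (conj_mem_core (le_normalizer hvY) hx) (inv_mem hx)
        have h2 : ⁅v, x⁆ ∈ BGUniq.core s H := by
          rw [commutatorElement_def, show v * x * v⁻¹ * x⁻¹ = v * (x * v⁻¹ * x⁻¹) by group]
          exact mul_mem hv ((mem_normalizer_iff.mp (hYn s hxY) _).mp (inv_mem hv))
        refine commutatorElement_eq_one_iff_mul_comm.mp ?_
        obtain ⟨i₁, hi₁⟩ := IsPGroup.iff_orderOf.mp (BGUniq.isPGroup_core p Y) ⟨_, h1⟩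
        obtain ⟨i₂, hi₂⟩ := IsPGroup.iff_orderOf.mp (BGUniq.isPGroup_core s H) ⟨_, h2⟩
        rw [Subgroup.orderOf_mk] at hi₁ hi₂
        apply orderOf_eq_one_iff.mp
        have h3 := Nat.dvd_gcd (dvd_of_eq hi₁) (dvd_of_eq hi₂)
        rw [Nat.Coprime.pow i₁ i₂ ((Nat.coprime_primes Fact.out hs).mpr (Ne.symm hsp))] at h3
        exact Nat.dvd_one.mp h3
    · exact hU.centralizes_core hcomm hH W hp2 hQ (hQY.trans hYH) hsj x hxQ v hv
  · obtain ⟨i, hi⟩ := IsPGroup.iff_orderOf.mp (BGUniq.isPGroup_core p H) ⟨x, hx⟩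
    rw [Subgroup.orderOf_mk] at hi
    have hN : ((BGUniq.core p H).subgroupOf Y).Normal :=
      (normal_subgroupOf_iff_le_normalizer hHY).mpr (hYn p)
    have hle := Thompson.le_pCore hN ((BGUniq.isPGroup_core p H).comap_subtype (K := Y))
    exact ⟨⟨x, hHY hx⟩, hle hx, rfl⟩

theorem cycle_normalizes {f y : G} (W : Pair a f) (hy₁ : y * a * y⁻¹ = f)
    (hy₂ : y * f * y⁻¹ = a * f) : y ∈ normalizer (bigY a f H : Set G) := by
  refine mem_normalizer_of_map_eq (eq_of_le_of_card_ge ?_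
    (by rw [card_map_of_injective (MulAut.conj y).injective]))
  rw [map_le_iff_le_comap]
  refine sSup_le fun Q hQ' x hx => ?_
  obtain ⟨r, hr, hr2, hjr, hcr, hQ, hmax⟩ := hQ'
  have hy := hU.cycle_mem_normalizer W hy₁ hy₂ hQ hmax
  have : y * x * y⁻¹ ∈ Q := (mem_normalizer_iff.mp hy x).mp hx
  exact le_sSup (show Q ∈ sigSet a f H from ⟨r, hr, hr2, hjr, hcr, hQ, hmax⟩) this

omit hcomm in
theorem joined_of_full {f : G} (W : Pair a f) {p : ℕ} [Fact p.Prime] (hp2 : p ≠ 2) {R : Subgroup G}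
    (hR : PI a f p R) (hfull : ∀ d, Ax a f d → Pp p d ≤ R) (hne : Pp p a ≠ ⊥) : Joined a f p := by
  refine ⟨R, hR, a, f, Or.inl rfl, Or.inr (Or.inl rfl), W.ne, fun h => hne ?_, fun h => hne ?_⟩
  · exact eq_bot_iff.mpr (h ▸ le_inf (hfull a (Or.inl rfl))
      fun x hx => mem_cent.mpr (hU.Pp_cent W.he hx))
  · have hf : Pp p f = ⊥ := eq_bot_iff.mpr (h ▸ le_inf (hfull f (Or.inr (Or.inl rfl)))
      fun x hx => mem_cent.mpr (hU.Pp_cent W.hf hx))
    exact eq_bot_of_card_eq _ (by rw [hU.card_Pp_eq W.he W.hf, hf, card_bot])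

end Uni

theorem Uni.hasFusingSub_of_abelian (hU : Uni G)
    (hO : ∀ N : Subgroup G, N.Normal → Odd (Nat.card N) → N = ⊥) {a b : G} (V : Pair a b) {p₀ : ℕ}
    [Fact p₀.Prime] (hp₀ : p₀ ≠ 2) (hj : Joined a b p₀)
    (hcomm : ∀ f (r : ℕ), Pair a f → r.Prime → r ≠ 2 → Joined a f r →
      ∀ Y, PI a f r Y → ∀ u ∈ Y, ∀ v ∈ Y, u * v = v * u) : HasFusingSub a := by
  obtain ⟨Q₀, hQ₀, hQ₀max, hQ₀full, hPne⟩ := hU.uniform V hp₀ hj
  have hPQ : Pp p₀ a ≤ Q₀ := hQ₀full a (Or.inl rfl)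
  obtain ⟨⟨x, hx⟩, hx1⟩ := ne_bot_iff_exists_ne_one.mp hPne
  have hx1' : x ≠ 1 := fun h => hx1 (Subtype.ext h)
  have hxO := Pp_le p₀ a hx
  set X := oddPart (cent x)
  have hXodd : Odd (Nat.card X) := hU.odd_cent ((hU.mem_O V.he).mp hxO).2 hx1'
  have hXnorm : cent a ≤ normalizer (X : Set G) := fun g hg =>
    mem_normalizer_iff.mpr fun z => ⟨hU.cent_normalizes V.he hxO (mem_cent.mp hg) z, fun hz => by
      simpa [mul_assoc] using hU.cent_normalizes V.he hxO (mem_cent.mp (inv_mem hg)) _ hz⟩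
  obtain ⟨H, hXH, hHm⟩ := Finite.exists_le_maximal
    (p := fun K : Subgroup G => Odd (Nat.card K) ∧ cent a ≤ normalizer (K : Set G))
    (⟨hXodd, hXnorm⟩ : Odd (Nat.card X) ∧ cent a ≤ normalizer (X : Set G))
  have hH : MaxSig a H := ⟨hHm.1.1, hHm.1.2, fun K h1 h2 h3 => hHm.2 ⟨h1, h2⟩ h3⟩
  have hQ₀H : Q₀ ≤ H := fun q hq => hXH (mem_oddPart_of
    (mem_cent.mpr (hcomm b p₀ V Fact.out hp₀ hj Q₀ hQ₀ q hq x (hPQ hx)))
    (odd_orderOf_of_mem (hU.odd_of_pgroup hp₀ hQ₀.pgroup) hq))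
  have hQ₀ne : Q₀ ≠ ⊥ := fun h => hx1' (mem_bot.mp (h ▸ hPQ hx))
  obtain ⟨p, hp, hjp, hcp⟩ := hU.exists_prime hcomm hH V hp₀ hj hQ₀ hQ₀H hQ₀ne
  haveI := Fact.mk hp
  have hp2 := hU.prime_ne_two hcomm hH hcp
  obtain ⟨Q, hQ, hQmax, hQfull, hPpne⟩ := hU.uniform V hp2 hjp
  have hQH := hU.le_of_core hcomm hH V hjp hcp hQ hQmax
  set D := BGUniq.core p H with hD
  refine ⟨normalizer (D : Set G), fun htop => hcp (hO D (normalizer_eq_top_iff.mp htop)
    (hH.odd.of_dvd_nat (card_dvd_of_le (BGUniq.core_le p H)))), fun g hg => ?_, fun f W => ?_⟩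
  · exact mem_normalizer_of_map_eq (eq_of_le_of_card_ge
      (map_le_iff_le_comap.mpr fun x hx => conj_mem_core (hH.norm hg) hx)
      (by rw [card_map_of_injective (MulAut.conj g).injective]))
  obtain ⟨R, hR⟩ := hU.exists_invSylow W hH.odd (inv_of_norm W hH.norm) p
  obtain ⟨R₀, hR₀⟩ := hU.exists_invSylow V hH.odd (inv_of_norm V hH.norm) p
  have hR₀Q : R₀ = Q := le_antisymm (hQmax _ ⟨hR₀.pgroup, hR₀.inv⟩) (hR₀.max Q hQH hQ.pgroup hQ.inv)
  have hRfull : ∀ d, Ax a f d → Pp p d ≤ R := (hU.full_iff_card W hp2 ⟨hR.pgroup, hR.inv⟩).mpr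
    (by rw [hR.card, ← hR₀.card, hR₀Q]; exact (hU.full_iff_card V hp2 hQ).mp hQfull)
  have hjf : Joined a f p := hU.joined_of_full hH W hp2 ⟨hR.pgroup, hR.inv⟩ hRfull hPpne
  obtain ⟨y, hy₁, hy₂, -⟩ := hU.exists_cycle W
  refine ⟨y, ?_, hy₁, hy₂⟩
  have hyY := hU.cycle_normalizes hcomm hH W hy₁ hy₂
  rw [hD, ← hU.core_eq hcomm hH W hjf hcp]
  exact mem_normalizer_of_map_eq (eq_of_le_of_card_ge
    (map_le_iff_le_comap.mpr fun x hx => conj_mem_core hyY hx)
    (by rw [card_map_of_injective (MulAut.conj y).injective]))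

end Cfsg.Agent.GenDih45
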