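import Cfsg.Agent.GenDih45.Main
import Cfsg.Agent.BSW7.PSL
import Cfsg.Agent.SylowNum.Swaps

/-!
# One class of involutions: the group is `PSL(2, q)`

A nonsolvable group without odd normal subgroup, with one class of involutions and centralisers of
involutions of generalised dihedral shape, is simple, hence `PSL(2, q)`.
-/

set_option autoImplicit false

namespace Cfsg.Agent.GenDih45

open Subgroup

variable {G : Type*} [Group G] [Finite G]

theorem isSolvable_of_extension (N : Subgroup G) [N.Normal] (h₁ : Group.IsSolvable N)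
    (h₂ : Group.IsSolvable (G ⧸ N)) : Group.IsSolvable G := by
  haveI := h₁; haveI := h₂
  exact Group.isSolvable_of_ker_le_range (f := N.subtype) (g := QuotientGroup.mk' N)
    (by rw [QuotientGroup.ker_mk', Subgroup.range_subtype])

namespace Uni

variable (hU : Uni G)

include hU

theorem isSimple (hO : ∀ N : Subgroup G, N.Normal → Odd (Nat.card N) → N = ⊥)
    (hns : ¬ Group.IsSolvable G) : IsSimpleGroup G := by
  haveI : Fact (Nat.Prime 2) := ⟨Nat.prime_two⟩
  haveI : Nontrivial G := by
    obtain ⟨t, -, ht, -⟩ := hU.shape₀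
    exact ⟨⟨t, 1, ne_one_of_two ht⟩⟩
  refine ⟨fun N hN => ?_⟩
  by_cases hb : N = ⊥
  · exact Or.inl hb
  right
  haveI := hN
  obtain ⟨t, htN, ht⟩ := Involution.exists_involution_of_even
    (Nat.not_odd_iff_even.mp fun h => hb (hO N hN h))
  have hinvN : ∀ u, orderOf u = 2 → u ∈ N := by
    intro u hu
    obtain ⟨g, rfl⟩ := isConj_iff.mp (hU.conj t u ht hu)
    exact hN.conj_mem t htN g
  have hcent : ∀ e, orderOf e = 2 → ∀ g, g * e = e * g → g ∈ N := by
    intro e he g hg
    obtain ⟨A, hA⟩ := hU.shape he
    obtain ⟨s, hs, hsA⟩ := hA.exists_out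
    have hout : ∀ x, x * e = e * x → x ∉ A → x ∈ N := fun x hx hxA =>
      hinvN x (orderOf_two_of (hA.out x hx hxA).1 fun h => hxA (h ▸ A.one_mem))
    by_cases hgA : g ∈ A
    · have h1 : g * s ∉ A := fun h => hsA (by simpa using mul_mem (inv_mem hgA) h)
      have h2 : g * s * e = e * (g * s) := by rw [mul_assoc, hs, ← mul_assoc, hg, mul_assoc]
      have := mul_mem (hout _ h2 h1) (inv_mem (hout s hs hsA))
      simpa using this
    · exact hout g hg hgA
  rcases hU.fused_or_odd N with hodd | ⟨e, f, y, heN, hfN, hyN, V, hy₁, hy₂⟩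
  · exfalso
    -- then `N` is a four-group or smaller and `G` is solvable
    have hP0 : oddPart N = ⊥ := hO _ ⟨fun x hx g =>
      conj_mem_oddPart (fun z hz => hN.conj_mem z hz g) x hx⟩ hodd
    have hN2 : IsPGroup 2 N := by
      refine IsPGroup.iff_orderOf.mpr fun x => ?_
      obtain ⟨k, m, hm, hord⟩ := Nat.exists_eq_two_pow_mul_odd (orderOf_pos (x : G)).ne'
      have h1 : (x : G) ^ 2 ^ k ∈ oddPart N := mem_oddPart_of (pow_mem x.2 _) (by
        rw [orderOf_pow_of_dvd (pow_ne_zero _ two_ne_zero) (Dvd.intro _ hord.symm), hord,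
          Nat.mul_div_cancel_left _ (pow_pos two_pos k)]
        exact hm)
      rw [hP0, mem_bot] at h1
      obtain ⟨j, -, hj⟩ := (Nat.dvd_prime_pow Nat.prime_two).mp (orderOf_dvd_of_pow_eq_one h1)
      exact ⟨j, by rw [← Subgroup.orderOf_coe, hj]⟩
    obtain ⟨j, hjN, hj, hjc⟩ := exists_central_involution hN2 hb
    obtain ⟨f, W⟩ := hU.pair_of_shape hj
    have hfN := hinvN f W.hf
    have hmem : ∀ u, orderOf u = 2 → u = j ∨ u = f ∨ u = j * f := by
      intro u hu
      obtain ⟨g, hg⟩ := isConj_iff.mp (hU.conj j u hj hu)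
      have hcu : ∀ q ∈ N, q * u = u * q := by
        intro q hq
        rw [← hg]
        have := hjc _ (hN.conj_mem' q hq g)
        calc q * (g * j * g⁻¹) = g * (g⁻¹ * q * g * j) * g⁻¹ := by group
          _ = _ := by rw [this]; group
      exact ((hU.four_cent W (hcu j hjN).symm (hcu f hfN).symm)).resolve_left (ne_one_of_two hu)
    have hS : N ≤ closure ({j, f} : Set G) := by
      intro q hq
      have hcq : ∀ u, orderOf u = 2 → q * u = u * q := by
        intro u hu
        obtain ⟨g, hg⟩ := isConj_iff.mp (hU.conj j u hj hu)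
        rw [← hg]
        have := hjc _ (hN.conj_mem' q hq g)
        calc q * (g * j * g⁻¹) = g * (g⁻¹ * q * g * j) * g⁻¹ := by group
          _ = _ := by rw [this]; group
      rcases hU.four_cent W (hcq j hj) (hcq f W.hf) with h | h | h | h <;> rw [h]
      exacts [one_mem _, subset_closure (by simp), subset_closure (by simp),
        mul_mem (subset_closure (by simp)) (subset_closure (by simp))]
    apply hns
    haveI := hN2.isNilpotent
    refine isSolvable_of_extension N inferInstance ?_
    -- the quotient permutes the three involutions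
    let X := {u : G // orderOf u = 2}
    let φ : G →* Equiv.Perm X :=
      { toFun := fun g => (MulAut.conj g).toEquiv.subtypeEquiv fun u => by
          show orderOf u = 2 ↔ orderOf (g * u * g⁻¹) = 2
          rw [orderOf_conj']
        map_one' := by ext; simp
        map_mul' := fun g h => by ext; simp [mul_assoc] }
    have hker : φ.ker ≤ N := by
      intro g hg
      refine hcent j hj g ?_
      have h1 : φ g ⟨j, hj⟩ = ⟨j, hj⟩ := by rw [MonoidHom.mem_ker.mp hg]; rfl
      exact mul_inv_eq_iff_eq_mul.mp (congrArg Subtype.val h1 : g * j * g⁻¹ = j)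
    have hX : Nat.card X ≤ 3 := by
      classical
      haveI := Fintype.ofFinite X
      have : Nat.card X ≤ Nat.card ({j, f, j * f} : Finset G) := by
        refine Nat.card_le_card_of_injective (fun u : X => ⟨u.1, by
          rcases hmem u.1 u.2 with h | h | h <;> simp [h]⟩) fun u v h => ?_
        exact Subtype.ext (congrArg (fun z : ({j, f, j * f} : Finset G) => (z : G)) h)
      rw [Nat.card_eq_finsetCard] at this
      exact this.trans (Finset.card_le_three)
    haveI hPerm : Group.IsSolvable (Equiv.Perm X) := by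
      have hle : Nat.card X ≤ 4 := hX.trans (by norm_num)
      exact SylowNum.isSolvable_perm_of_card_le_four hle
    haveI : Group.IsSolvable (G ⧸ φ.ker) :=
      Group.isSolvable_of_isSolvable_injective (QuotientGroup.kerLift_injective φ)
    exact Group.isSolvable_of_surjective (f := QuotientGroup.map φ.ker N (MonoidHom.id G) hker)
      (by
        intro q
        obtain ⟨g, rfl⟩ := QuotientGroup.mk_surjective q
        exact ⟨g, rfl⟩)
  · -- Frattini
    set S := closure ({e, f} : Set G)
    have hSN : S ≤ N := (closure_le N).mpr (by rintro x (rfl | rfl) <;> assumption)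
    obtain ⟨P, hP⟩ := (isPGroup_pair V).exists_le_sylow
    have heP : e ∈ (P : Subgroup G) := hP (subset_closure (by simp))
    have hfP : f ∈ (P : Subgroup G) := hP (subset_closure (by simp))
    obtain ⟨j, hjP, hj, hjc⟩ := exists_central_involution P.2
      (fun h => ne_one_of_two V.he (mem_bot.mp (h ▸ heP)))
    have hPN : (P : Subgroup G) ≤ N := fun q hq => hcent j hj q (hjc q hq)
    have hV : ∀ u, u ∈ (P : Subgroup G) → orderOf u = 2 → (∀ q ∈ (P : Subgroup G), q * u = u * q) →
        ∃ n ∈ N, n * e * n⁻¹ = u := by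
      intro u _ hu huc
      rcases hU.four_cent V (huc e heP).symm (huc f hfP).symm with h | h | h | h
      · exact absurd h (ne_one_of_two hu)
      · exact ⟨1, one_mem _, by simp [h]⟩
      · exact ⟨y, hyN, by rw [h, hy₁]⟩
      · exact ⟨y * y, mul_mem hyN hyN, by rw [h, ← hy₂, ← hy₁]; group⟩
    refine eq_top_iff.mpr fun g _ => ?_
    have hPn : normalizer ((P : Subgroup G) : Set G) ⊔ N = ⊤ := by
      have := Sylow.normalizer_sup_eq_top (P.subtype hPN)
      rwa [Sylow.coe_subtype, map_subgroupOf_eq_of_le hPN] at this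
    obtain ⟨p, hp, n, hn, rfl⟩ := mem_sup_of_normal_right.mp (hPn.ge (mem_top g))
    refine mul_mem ?_ hn
    obtain ⟨n₁, hn₁, h₁⟩ := hV j hjP hj hjc
    obtain ⟨n₂, hn₂, h₂⟩ := hV (p * j * p⁻¹) ((mem_normalizer_iff.mp hp j).mp hjP)
      (by rw [orderOf_conj', hj]) (fun q hq => by
        have h3 : p⁻¹ * q * p ∈ (P : Subgroup G) :=
          (mem_normalizer_iff.mp hp _).mpr (by simpa [mul_assoc] using hq)
        calc q * (p * j * p⁻¹) = p * (p⁻¹ * q * p * j) * p⁻¹ := by group
          _ = _ := by rw [hjc _ h3]; group)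
    have h4 : n₁ * n₂⁻¹ * p ∈ N := hcent j hj _ (by
      refine mul_inv_eq_iff_eq_mul.mp ?_
      calc n₁ * n₂⁻¹ * p * j * (n₁ * n₂⁻¹ * p)⁻¹
          = n₁ * (n₂⁻¹ * (p * j * p⁻¹) * n₂) * n₁⁻¹ := by group
        _ = n₁ * e * n₁⁻¹ := by rw [← h₂]; group
        _ = j := h₁)
    have := mul_mem (inv_mem (mul_mem hn₁ (inv_mem hn₂))) h4
    rwa [inv_mul_cancel_left] at this

/-- **One class of involutions.** -/
theorem psl (hO : ∀ N : Subgroup G, N.Normal → Odd (Nat.card N) → N = ⊥)
    (hns : ¬ Group.IsSolvable G) :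
    ∃ (F : Type) (_ : Field F) (_ : Fintype F), 3 < Fintype.card F ∧ Odd (Fintype.card F) ∧
      Nonempty (G ≃* Matrix.ProjectiveSpecialLinearGroup (Fin 2) F) := by
  haveI := hU.isSimple hO hns
  have hG : ¬ IsMulCommutative G := fun h => hns (Group.isSolvable_of_comm fun a b => mul_comm' a b)
  obtain ⟨t, A, ht, hA⟩ := hU.shape₀
  obtain ⟨s, hs, hsA⟩ := hA.exists_out
  obtain ⟨hss, hsinv⟩ := hA.out s hs hsA
  let S : BSW7.Setup G :=
    { t := t
      K := A
      s := s
      ht := ht
      comm := hA.comm
      le := fun a ha => mem_centralizer_singleton_iff.mpr (hA.le a ha)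
      tK := hA.mem
      hs := orderOf_two_of hss fun h => hsA (h ▸ A.one_mem)
      sH := mem_centralizer_singleton_iff.mpr hs
      sK := hsA
      gen := by
        refine le_antisymm (sup_le (fun a ha => mem_centralizer_singleton_iff.mpr (hA.le a ha))
          (zpowers_le.mpr (mem_centralizer_singleton_iff.mpr hs))) fun g hg => ?_
        by_cases hgA : g ∈ A
        · exact mem_sup_left hgA
        · have h1 := hA.mul g s (mem_centralizer_singleton_iff.mp hg) hgA hs hsA
          have := mul_mem (mem_sup_left (T := zpowers s) h1)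
            (mem_sup_right (S := A) (inv_mem (mem_zpowers s)))
          simpa using this
      inter := by
        refine le_antisymm (fun a ⟨ha, hac⟩ => ?_) (zpowers_le.mpr
          ⟨hA.mem, mem_centralizer_singleton_iff.mpr hs.symm⟩)
        have h1 := hsinv a ha
        rw [← mem_centralizer_singleton_iff.mp hac, mul_inv_cancel_right] at h1
        rcases hA.uniq a ha (eq_inv_iff_mul_eq_one.mp h1) with h | h <;> rw [h]
        exacts [one_mem _, mem_zpowers t]
      inv := hsinv
      ti := by
        intro g hg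
        rw [Subgroup.eq_bot_iff_forall]
        rintro x ⟨hxA, hxg⟩
        by_contra hx1
        apply hg
        have hA' := hA.map g
        rcases Nat.even_or_odd (orderOf x) with hev | hodd
        · obtain ⟨m, hm⟩ := hev
          have hm0 : 0 < m := by have := orderOf_pos x; omega
          have hk : orderOf (x ^ m) = 2 := by
            rw [orderOf_pow_of_dvd hm0.ne' ⟨2, by omega⟩, hm, ← two_mul,
              Nat.mul_div_cancel _ hm0]
          have h1 := (hA.uniq _ (pow_mem hxA m) (mul_self_of_two hk)).resolve_left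
            (ne_one_of_two hk)
          have h2 := (hA'.uniq _ (pow_mem hxg m) (mul_self_of_two hk)).resolve_left
            (ne_one_of_two hk)
          exact mem_centralizer_singleton_iff.mpr (mul_inv_eq_iff_eq_mul.mp (h2.symm.trans h1))
        · have hxO : x ∈ O t := (hU.mem_O ht).mpr ⟨hA.le x hxA, hodd⟩
          have h1 : g * t * g⁻¹ * t = t * (g * t * g⁻¹) :=
            mem_cent.mp (hU.cent_le hO ht hxO hx1 (mem_cent.mpr (hA'.le x hxg).symm))
          have hgA : g * t * g⁻¹ ∈ A := by
            by_contra h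
            have h3 := (hA.out _ h1 h).2 x hxA
            rw [← hA'.le x hxg, mul_inv_cancel_right] at h3
            exact hx1 (eq_one_of_odd_of_sq hodd (eq_inv_iff_mul_eq_one.mp h3))
          have hk : orderOf (g * t * g⁻¹) = 2 := by rw [orderOf_conj', ht]
          have h4 := (hA.uniq _ hgA (mul_self_of_two hk)).resolve_left (ne_one_of_two hk)
          exact mem_centralizer_singleton_iff.mpr (mul_inv_eq_iff_eq_mul.mp h4)
      conj := hU.conj }
  obtain ⟨Q, D, h1, h2, h3, h4, h5, h6, h7⟩ := S.concl
  have W : BSW7.Frame G Q D := ⟨h1, h2, h3, h4, h5, h6, h7⟩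
  obtain ⟨F, iF, iF', hF, he⟩ := BSW7.psl_of_frame hG W
  refine ⟨F, iF, iF', ?_, ?_, he⟩
  · have := W.D_ne_bot hG; omega
  · rw [hF, ← h4]; exact ⟨Nat.card D, by ring⟩

end Uni

end Cfsg.Agent.GenDih45
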