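import Cfsg.Agent.GenDih45.Basic
import Cfsg.Agent.GenDih45.Simple

/-!
# D-groups

A D-group is elementary abelian or has an abelian subgroup of index two inverted by the elements
outside it.
-/

set_option autoImplicit false

namespace Cfsg.Agent.GenDih45

open Subgroup

variable {G : Type*} [Group G]

/-- `H` is generalised dihedral over `A` and not elementary abelian. -/
structure DH (H A : Subgroup G) : Prop where
  le : A ≤ H
  comm : ∀ a ∈ A, ∀ b ∈ A, a * b = b * a
  out : ∀ x ∈ H, x ∉ A → x * x = 1 ∧ ∀ a ∈ A, x * a * x⁻¹ = a⁻¹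
  mul : ∀ x y, x ∈ H → x ∉ A → y ∈ H → y ∉ A → x * y ∈ A
  nonel : ∃ y ∈ A, y * y ≠ 1
  exists_out : ∃ x ∈ H, x ∉ A

theorem dgroup_dichotomy {H A : Subgroup G} (hAH : A < H) (hD : ∀ x ∈ H, x ∉ A → x ^ 2 = 1) :
    (∀ x ∈ H, x * x = 1) ∨ DH H A := by
  by_cases hel : ∀ x ∈ H, x * x = 1
  · exact Or.inl hel
  right
  push Not at hel
  obtain ⟨y, hyH, hy⟩ := hel
  have hD' : ∀ x ∈ H, x ∉ A → x * x = 1 := fun x hx hxA => by rw [← sq]; exact hD x hx hxA
  have hyA : y ∈ A := by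
    by_contra h
    exact hy (hD' y hyH h)
  have hinv : ∀ x ∈ H, x ∉ A → ∀ a ∈ A, x * a * x⁻¹ = a⁻¹ := by
    intro x hx hxA a ha
    have h1 := hD' (x * a) (mul_mem hx (hAH.le ha)) fun h => hxA (by
      simpa using mul_mem h (inv_mem ha))
    rw [inv_eq_of_mul_eq_one_right (hD' x hx hxA)]
    exact eq_inv_of_mul_eq_one_left (by rw [← h1]; group)
  obtain ⟨s, hsH, hsA⟩ := SetLike.exists_of_lt hAH
  refine ⟨hAH.le, fun a ha b hb => ?_, fun x hx hxA => ⟨hD' x hx hxA, hinv x hx hxA⟩, ?_, ⟨y, hyA, hy⟩,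
    ⟨s, hsH, hsA⟩⟩
  · have h := hinv s hsH hsA (a * b) (mul_mem ha hb)
    rw [show s * (a * b) * s⁻¹ = (s * a * s⁻¹) * (s * b * s⁻¹) by group, hinv s hsH hsA a ha,
      hinv s hsH hsA b hb, ← mul_inv_rev] at h
    exact (inv_injective h).symm
  · intro x x' hx hxA hx' hxA'
    by_contra h
    have h1 := hinv (x * x') (mul_mem hx hx') h y hyA
    rw [show x * x' * y * (x * x')⁻¹ = x * (x' * y * x'⁻¹) * x⁻¹ by group, hinv x' hx' hxA' y hyA,
      hinv x hx hxA y⁻¹ (inv_mem hyA), inv_inv] at h1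
    exact hy (eq_inv_iff_mul_eq_one.mp h1)

namespace DH

variable {H A : Subgroup G} (h : DH H A)

include h

theorem central_of_involution {a : G} (ha : a ∈ A) (h2 : a * a = 1) {x : G} (hx : x ∈ H) :
    x * a = a * x := by
  by_cases hxA : x ∈ A
  · exact h.comm x hxA a ha
  · have := (h.out x hx hxA).2 a ha
    rw [inv_eq_of_mul_eq_one_right h2] at this
    exact mul_inv_eq_iff_eq_mul.mp this

theorem conj_mem {g a : G} (hg : g ∈ H) (ha : a ∈ A) : g * a * g⁻¹ ∈ A := by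
  by_cases hgA : g ∈ A
  · exact mul_mem (mul_mem hgA ha) (inv_mem hgA)
  · rw [(h.out g hg hgA).2 a ha]
    exact inv_mem ha

theorem isSolvable [Finite G] : Group.IsSolvable H := by
  have hn : (A.subgroupOf H).Normal := ⟨fun a ha g => h.conj_mem g.2 ha⟩
  haveI := hn
  refine isSolvable_of_extension (A.subgroupOf H) (Group.isSolvable_of_comm fun a b => ?_)
    (Group.isSolvable_of_comm fun x y => ?_)
  · exact Subtype.ext (Subtype.ext (h.comm _ a.2 _ b.2))
  induction x using QuotientGroup.induction_on with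
  | _ x =>
  induction y using QuotientGroup.induction_on with
  | _ y =>
  by_cases hx : x ∈ A.subgroupOf H
  · rw [(QuotientGroup.eq_one_iff x).mpr hx, one_mul, mul_one]
  by_cases hy : y ∈ A.subgroupOf H
  · rw [(QuotientGroup.eq_one_iff y).mpr hy, one_mul, mul_one]
  rw [← QuotientGroup.mk_mul, ← QuotientGroup.mk_mul,
    (QuotientGroup.eq_one_iff _).mpr (mem_subgroupOf.mpr (h.mul _ _ x.2 hx y.2 hy)),
    (QuotientGroup.eq_one_iff _).mpr (mem_subgroupOf.mpr (h.mul _ _ y.2 hy x.2 hx))]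

end DH

end Cfsg.Agent.GenDih45
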