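import Cfsg.Agent.GenDih45.Act
import Cfsg.Agent.PF14.Compose
import Cfsg.Agent.Lib.Fitting.Minimal

/-!
# The derived group under a four-group action with abelian fixed points

If a four-group acts on a group `K` of odd order without common fixed point and all three
fixed-point subgroups are abelian, then the derived group of `K` is nilpotent.
-/

set_option autoImplicit false

namespace Cfsg.Agent.GenDih45

open Subgroup
open scoped commutatorElement

universe u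

variable {G : Type u} [Group G] [Finite G]

theorem isSolvable_of_odd {K : Subgroup G} (h : Odd (Nat.card K)) : Group.IsSolvable K :=
  PF14.feitThompson K h

namespace FourAct

variable {a b : G} {K : Subgroup G}

omit [Finite G] in
theorem conj_pow_of_step {β u w : G} (h : β * u * β⁻¹ = u * w) (hw : β * w * β⁻¹ = w) :
    ∀ n : ℕ, β ^ n * u * (β ^ n)⁻¹ = u * w ^ n := by
  intro n
  induction n with
  | zero => simp
  | succ n ih =>
    have hwn : β * w ^ n * β⁻¹ = w ^ n := by rw [← conj_pow, hw]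
    calc β ^ (n + 1) * u * (β ^ (n + 1))⁻¹ = β * (β ^ n * u * (β ^ n)⁻¹) * β⁻¹ := by
          rw [pow_succ']; group
      _ = (β * u * β⁻¹) * (β * w ^ n * β⁻¹) := by rw [ih]; group
      _ = u * w ^ (n + 1) := by rw [h, hwn, mul_assoc, ← pow_succ']

/-- The commutator map of `β` on `U`. -/
def phi (β u : G) : G := u⁻¹ * (β * u * β⁻¹)

section Key

variable (W : FourAct a b K) {U : Subgroup G} (hUK : U ≤ K)
  (hUc : ∀ x ∈ U, ∀ y ∈ U, x * y = y * x) {β : G} (hβK : β ∈ K) (hβa : a * β * a⁻¹ = β)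
  (hβU : ∀ u ∈ U, β * u * β⁻¹ ∈ U) (haU : ∀ u ∈ U, a * u * a⁻¹ ∈ U)
  (hbU : ∀ u ∈ U, b * u * b⁻¹ ∈ U)
  (hfix : ∀ u ∈ U, β * phi β u * β⁻¹ = phi β u → phi β u = 1)
  (U' : Subgroup G) (hU' : ∀ x, x ∈ U' ↔ ∃ u ∈ U, phi β u = x)

include W hUK hUc hβK hβa hβU haU hbU hfix hU'

theorem conj_mem_of_fixed {x : G} (hx : x ∈ K) (hxb : b * x * b⁻¹ = x)
    (hB : ∀ i : ℤ, ∀ u ∈ U', (x * β ^ i * x⁻¹) * u * (x * β ^ i * x⁻¹)⁻¹ ∈ U') :
    ∀ u ∈ U', x * u * x⁻¹ ∈ U' := by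
  have hβb : b * β * b⁻¹ = β⁻¹ := W.inverts_fst hβK hβa
  have hU'U : U' ≤ U := fun v hv => by
    obtain ⟨u, hu, rfl⟩ := (hU' v).mp hv
    exact mul_mem (inv_mem hu) (hβU u hu)
  have hU'β : ∀ v ∈ U', β * v * β⁻¹ ∈ U' := fun v hv => by
    obtain ⟨u, hu, rfl⟩ := (hU' v).mp hv
    exact (hU' _).mpr ⟨β * u * β⁻¹, hβU u hu, by simp only [phi]; group⟩
  have hU'β' : ∀ v ∈ U', β⁻¹ * v * β ∈ U' := by
    intro v hv
    have h : ∀ n : ℕ, β ^ n * v * (β ^ n)⁻¹ ∈ U' := by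
      intro n
      induction n with
      | zero => simpa using hv
      | succ n ih =>
        rw [pow_succ', show β * β ^ n * v * (β * β ^ n)⁻¹ = β * (β ^ n * v * (β ^ n)⁻¹) * β⁻¹ by
          group]
        exact hU'β _ ih
    have h2 := h (orderOf β - 1)
    have h3 : β ^ (orderOf β - 1) = β⁻¹ := by
      rw [eq_inv_iff_mul_eq_one, ← pow_succ, Nat.sub_add_cancel (orderOf_pos β), pow_orderOf_eq_one]
    rw [h3, inv_inv] at h2
    exact h2
  have hU'b : ∀ v ∈ U', b * v * b⁻¹ ∈ U' := by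
    intro v hv
    obtain ⟨u, hu, rfl⟩ := (hU' v).mp hv
    have hu' := hbU u hu
    have hu'' : β⁻¹ * (b * u * b⁻¹) * β ∈ U := by
      have h : b * (β * u * β⁻¹) * b⁻¹ = β⁻¹ * (b * u * b⁻¹) * β := by
        calc b * (β * u * β⁻¹) * b⁻¹
            = (b * β * b⁻¹) * (b * u * b⁻¹) * (b * β * b⁻¹)⁻¹ := by group
          _ = _ := by rw [hβb, inv_inv]
      exact h ▸ hbU _ (hβU u hu)
    refine (hU' _).mpr ⟨(β⁻¹ * (b * u * b⁻¹) * β)⁻¹, inv_mem hu'', ?_⟩
    calc phi β (β⁻¹ * (b * u * b⁻¹) * β)⁻¹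
        = (β⁻¹ * (b * u * b⁻¹) * β) * (b * u * b⁻¹)⁻¹ := by simp only [phi]; group
      _ = (b * u * b⁻¹)⁻¹ * (β⁻¹ * (b * u * b⁻¹) * β) := hUc _ hu'' _ (inv_mem hu')
      _ = (b * u * b⁻¹)⁻¹ * ((b * β * b⁻¹) * (b * u * b⁻¹) * (b * β * b⁻¹)⁻¹) := by
          rw [hβb, inv_inv]
      _ = b * phi β u * b⁻¹ := by simp only [phi]; group
  have hainv : ∀ v ∈ U', a * v * a⁻¹ = v⁻¹ := by
    intro v hv
    have haU' : ∀ w ∈ U', a * w * a⁻¹ ∈ U' := by
      intro w hw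
      obtain ⟨u, hu, rfl⟩ := (hU' w).mp hw
      refine (hU' _).mpr ⟨a * u * a⁻¹, haU u hu, ?_⟩
      calc phi β (a * u * a⁻¹) = (a * u * a⁻¹)⁻¹ * (β * (a * u * a⁻¹) * β⁻¹) := rfl
        _ = (a * u * a⁻¹)⁻¹ * ((a * β * a⁻¹) * (a * u * a⁻¹) * (a * β * a⁻¹)⁻¹) := by rw [hβa]
        _ = a * phi β u * a⁻¹ := by simp only [phi]; group
    obtain ⟨i, hi, w, hw, hvw⟩ := exists_inv_mul_fixed W.ha
      (W.odd.of_dvd_nat (card_dvd_of_le (hU'U.trans hUK))) haU' hv
    obtain ⟨hwU, hwa⟩ := mem_inf_centralizer.mp hw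
    have hwβ : β * w * β⁻¹ = w := by
      rw [W.comm a (Or.inl rfl) β hβK hβa w (hUK (hU'U hwU)) hwa, mul_inv_cancel_right]
    obtain ⟨u, hu, rfl⟩ := (hU' w).mp hwU
    rw [hvw, hfix u hu hwβ, mul_one, hi.2]
  let T : Set G := {v | ∃ i : ℤ, ∃ w ∈ U', b * w * b⁻¹ = w ∧ v = β ^ i * w * (β ^ i)⁻¹}
  let R : Subgroup G := closure T
  have hRx : R ≤ U'.comap (MulAut.conj x).toMonoidHom := by
    refine (closure_le _).mpr ?_
    rintro _ ⟨i, w, hw, hwb, rfl⟩
    show x * (β ^ i * w * (β ^ i)⁻¹) * x⁻¹ ∈ U'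
    have hxw : x * w * x⁻¹ = w := by
      rw [W.comm b (Or.inr (Or.inl rfl)) x hx hxb w (hUK (hU'U hw)) hwb, mul_inv_cancel_right]
    rw [show x * (β ^ i * w * (β ^ i)⁻¹) * x⁻¹
        = (x * β ^ i * x⁻¹) * (x * w * x⁻¹) * (x * β ^ i * x⁻¹)⁻¹ by group, hxw]
    exact hB i w hw
  -- modulo `R` the third involution is trivial on `U'`
  have hc : ∀ v ∈ U', (a * b) * v * (a * b)⁻¹ * v⁻¹ ∈ R := by
    intro v hv
    obtain ⟨i, hi, w, hw, rfl⟩ := exists_inv_mul_fixed W.hb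
      (W.odd.of_dvd_nat (card_dvd_of_le (hU'U.trans hUK))) hU'b hv
    obtain ⟨hwU, hwb⟩ := mem_inf_centralizer.mp hw
    have hwR : w ∈ R := subset_closure ⟨0, w, hwU, hwb, by simp⟩
    have e1 : (a * b) * (i * w) * (a * b)⁻¹ = i * w⁻¹ := by
      calc (a * b) * (i * w) * (a * b)⁻¹ = a * ((b * i * b⁻¹) * (b * w * b⁻¹)) * a⁻¹ := by group
        _ = (a * i * a⁻¹)⁻¹ * (a * w * a⁻¹) := by rw [hi.2, hwb]; group
        _ = i * w⁻¹ := by rw [hainv i hi.1, hainv w hwU, inv_inv]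
    rw [e1]
    have e2 : i * w⁻¹ * (i * w)⁻¹ = w⁻¹ * w⁻¹ := by
      have h : i * w⁻¹ = w⁻¹ * i := hUc _ (hU'U hi.1) _ (inv_mem (hU'U hwU))
      calc i * w⁻¹ * (i * w)⁻¹ = (i * w⁻¹) * w⁻¹ * i⁻¹ := by group
        _ = (w⁻¹ * i) * w⁻¹ * i⁻¹ := by rw [h]
        _ = w⁻¹ * (i * w⁻¹) * i⁻¹ := by group
        _ = w⁻¹ * (w⁻¹ * i) * i⁻¹ := by rw [h]
        _ = w⁻¹ * w⁻¹ := by group
    rw [e2]
    exact mul_mem (inv_mem hwR) (inv_mem hwR)
  have hRβ : ∀ r ∈ R, ∀ j : ℤ, β ^ j * r * (β ^ j)⁻¹ ∈ R := by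
    intro r hr j
    have : R ≤ R.comap (MulAut.conj (β ^ j)).toMonoidHom := by
      refine (closure_le _).mpr ?_
      rintro _ ⟨i, w, hw, hwb, rfl⟩
      exact subset_closure ⟨j + i, w, hw, hwb, by
        show β ^ j * (β ^ i * w * (β ^ i)⁻¹) * (β ^ j)⁻¹ = _
        group⟩
    exact this hr
  have hβc : (a * b) * β * (a * b)⁻¹ = β⁻¹ := by
    rw [show (a * b) * β * (a * b)⁻¹ = a * (b * β * b⁻¹) * a⁻¹ by group, hβb,
      show a * β⁻¹ * a⁻¹ = (a * β * a⁻¹)⁻¹ by group, hβa]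
  have hβ2 : ∀ v ∈ U', β ^ 2 * v * (β ^ 2)⁻¹ * v⁻¹ ∈ R := by
    intro v hv
    have h1 := hc (β * v * β⁻¹) (hU'β v hv)
    have h2 := hc v hv
    have e : (a * b) * (β * v * β⁻¹) * (a * b)⁻¹
        = β⁻¹ * ((a * b) * v * (a * b)⁻¹) * β := by
      calc (a * b) * (β * v * β⁻¹) * (a * b)⁻¹
          = ((a * b) * β * (a * b)⁻¹) * ((a * b) * v * (a * b)⁻¹) *
              ((a * b) * β * (a * b)⁻¹)⁻¹ := by group
        _ = _ := by rw [hβc, inv_inv]
    rw [e] at h1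
    have h3 := hRβ _ (mul_mem (inv_mem h1) (hRβ _ h2 (-1))) 1
    rw [pow_two]
    rw [zpow_one, zpow_neg_one] at h3
    convert h3 using 1
    group
  have hphi : ∀ v ∈ U', phi β v ∈ R := by
    intro v hv
    obtain ⟨m, hm⟩ := exists_pow_eq_self_of_coprime (x := β) (n := 2)
      (Nat.coprime_two_left.mpr (odd_orderOf_of_mem W.odd hβK))
    have hU'n : ∀ n : ℕ, ∀ u ∈ U', β ^ n * u * (β ^ n)⁻¹ ∈ U' := by
      intro n
      induction n with
      | zero => simp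
      | succ n ih =>
        intro u hu
        rw [pow_succ', show β * β ^ n * u * (β * β ^ n)⁻¹ = β * (β ^ n * u * (β ^ n)⁻¹) * β⁻¹ by
          group]
        exact hU'β _ (ih u hu)
    have h : ∀ n : ℕ, (β ^ 2) ^ n * v * ((β ^ 2) ^ n)⁻¹ * v⁻¹ ∈ R := by
      intro n
      induction n with
      | zero => simp
      | succ n ih =>
        have h1 := hβ2 _ (hU'n (2 * n) v hv)
        rw [pow_mul] at h1
        have h2 := mul_mem h1 ih
        convert h2 using 1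
        rw [pow_succ']
        group
    have h4 := h m
    rw [hm] at h4
    have h5 : phi β v = β * v * β⁻¹ * v⁻¹ := hUc _ (inv_mem (hU'U hv)) _ (hU'U (hU'β v hv))
    rwa [h5]
  intro v hv
  let f : U' → U' := fun w => ⟨phi β w, (hU' _).mpr ⟨w, hU'U w.2, rfl⟩⟩
  have hinj : Function.Injective f := by
    intro p q h
    have h0 : phi β (p : G) = phi β (q : G) := congrArg Subtype.val h
    have hpq : (q : G) * (p : G)⁻¹ ∈ U' := mul_mem q.2 (inv_mem p.2)
    obtain ⟨u, hu, hu'⟩ := (hU' _).mp hpq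
    have h1 : β * phi β u * β⁻¹ = phi β u := by
      rw [hu']
      calc β * ((q : G) * (p : G)⁻¹) * β⁻¹
          = ((q : G) * phi β q) * ((p : G) * phi β p)⁻¹ := by simp only [phi]; group
        _ = (q : G) * (p : G)⁻¹ := by rw [h0]; group
    have h2 := hfix u hu h1
    rw [hu'] at h2
    exact Subtype.ext (mul_inv_eq_one.mp h2).symm
  obtain ⟨w, hw⟩ := Finite.injective_iff_surjective.mp hinj ⟨v, hv⟩
  have hwv : phi β (w : G) = v := congrArg Subtype.val hw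
  exact hRx (hwv ▸ hphi w w.2)

end Key

/-- A minimal normal abelian subgroup without `a`-fixed points is centralised by the derived group. -/
theorem commutator_le_centralizer_of_fpf (W : FourAct a b K) [K.Normal] {U : Subgroup G} [U.Normal]
    (hUK : U ≤ K) (h : ∀ u ∈ U, a * u * a⁻¹ = u → u = 1) :
    ⁅K, K⁆ ≤ centralizer (U : Set G) := by
  have hUn : U.Normal := inferInstance
  have hinv : ∀ u ∈ U, a * u * a⁻¹ = u⁻¹ := by
    intro u hu
    obtain ⟨i, hi, w, hw, huw⟩ := exists_inv_mul_fixed W.ha (W.odd.of_dvd_nat (card_dvd_of_le hUK))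
      (fun x hx => hUn.conj_mem x hx a) hu
    obtain ⟨hwU, hwa⟩ := mem_inf_centralizer.mp hw
    rw [huw, h w hwU hwa, mul_one, hi.2]
  set C := centralizer (U : Set G) with hC
  haveI : C.Normal := Subgroup.normal_centralizer
  have hrep : ∀ x ∈ K, ∃ w ∈ K, a * w * a⁻¹ = w ∧
      (QuotientGroup.mk' C x) = QuotientGroup.mk' C w := by
    intro x hx
    have hc : a * x * a⁻¹ * x⁻¹ ∈ C := by
      rw [hC, mem_centralizer_iff]
      intro u hu
      have h1 : a⁻¹ * (x⁻¹ * u * x) * a = (x⁻¹ * u * x)⁻¹ := by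
        have h2 : x⁻¹ * u * x ∈ U := hUn.conj_mem' u hu x
        have h3 : a⁻¹ = a := inv_eq_of_mul_eq_one_right W.ha
        have h4 := hinv _ h2
        rw [h3] at h4 ⊢
        exact h4
      have e : (a * x * a⁻¹ * x⁻¹) * u * (a * x * a⁻¹ * x⁻¹)⁻¹ = u := by
        have h5 : x⁻¹ * u * x ∈ U := hUn.conj_mem' u hu x
        calc (a * x * a⁻¹ * x⁻¹) * u * (a * x * a⁻¹ * x⁻¹)⁻¹
            = a * (x * (a⁻¹ * (x⁻¹ * u * x) * a) * x⁻¹) * a⁻¹ := by group
          _ = (a * u * a⁻¹)⁻¹ := by rw [h1]; group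
          _ = u := by rw [hinv u hu, inv_inv]
      exact (mul_inv_eq_iff_eq_mul.mp e).symm
    obtain ⟨n, hn, w, hw, hwa, hxw⟩ := exists_fixed_rep W.ha W.odd W.haK hx hc
    refine ⟨w, hw, hwa, ?_⟩
    rw [hxw, map_mul, show QuotientGroup.mk' C n = 1 from (QuotientGroup.eq_one_iff n).mpr hn.2,
      one_mul]
  rw [commutator_le]
  intro x hx y hy
  obtain ⟨w, hw, hwa, hxw⟩ := hrep x hx
  obtain ⟨v, hv, hva, hyv⟩ := hrep y hy
  refine (QuotientGroup.eq_one_iff _).mp ?_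
  rw [← QuotientGroup.mk'_apply, map_commutatorElement, hxw, hyv, ← map_commutatorElement,
    commutatorElement_eq_one_iff_mul_comm.mpr (W.comm a (Or.inl rfl) w hw hwa v hv hva), map_one]

/-- The element `β` of the proof cannot exist. -/
theorem false_of_beta (W : FourAct a b K)
    (hnormal : ∀ H : Subgroup G, K ≤ normalizer (H : Set G) → (∀ x ∈ H, a * x * a⁻¹ ∈ H) →
      (∀ x ∈ H, b * x * b⁻¹ ∈ H) → H.Normal)
    {U : Subgroup G} (hU : Fitting.IsMinNormal U) (hUK : U ≤ K)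
    (hUc : ∀ x ∈ U, ∀ y ∈ U, x * y = y * x) {p : ℕ} (hp : p.Prime) (hUp : IsPGroup p U)
    (hua : ∃ u ∈ U, a * u * a⁻¹ = u ∧ u ≠ 1) {B : Subgroup G} [B.Normal] (hBK : B ≤ K)
    (hBc : ∀ x ∈ B, ∀ y ∈ B, x * y * x⁻¹ * y⁻¹ ∈ centralizer (U : Set G))
    {β : G} (hβB : β ∈ B) (hβa : a * β * a⁻¹ = β) (hβC : β ∉ centralizer (U : Set G))
    (hco : (orderOf β).Coprime p) : False := by
  haveI := Fact.mk hp
  haveI := hU.1
  have hUn : U.Normal := hU.1
  have hβU : ∀ u ∈ U, β * u * β⁻¹ ∈ U := fun u hu => hUn.conj_mem u hu β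
  have hmul : ∀ u ∈ U, ∀ v ∈ U, phi β (u * v) = phi β u * phi β v := by
    intro u hu v hv
    have h1 : v⁻¹ * (u⁻¹ * (β * u * β⁻¹)) = (u⁻¹ * (β * u * β⁻¹)) * v⁻¹ :=
      hUc _ (inv_mem hv) _ (mul_mem (inv_mem hu) (hβU u hu))
    calc phi β (u * v) = v⁻¹ * (u⁻¹ * (β * u * β⁻¹)) * (β * v * β⁻¹) := by simp only [phi]; group
      _ = _ := by rw [h1]; simp only [phi]; group
  let U' : Subgroup G :=
    { carrier := {x | ∃ u ∈ U, phi β u = x}
      one_mem' := ⟨1, one_mem _, by simp [phi]⟩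
      mul_mem' := by
        rintro _ _ ⟨u, hu, rfl⟩ ⟨v, hv, rfl⟩
        exact ⟨u * v, mul_mem hu hv, hmul u hu v hv⟩
      inv_mem' := by
        rintro _ ⟨u, hu, rfl⟩
        refine ⟨u⁻¹, inv_mem hu, ?_⟩
        have h := hmul u⁻¹ (inv_mem hu) u hu
        rw [inv_mul_cancel] at h
        exact eq_inv_of_mul_eq_one_left (h.symm.trans (by simp [phi])) }
  have hU'U : U' ≤ U := by
    rintro _ ⟨u, hu, rfl⟩
    exact mul_mem (inv_mem hu) (hβU u hu)
  have hfix : ∀ u ∈ U, β * phi β u * β⁻¹ = phi β u → phi β u = 1 := by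
    intro u hu h
    have hw : phi β u ∈ U := mul_mem (inv_mem hu) (hβU u hu)
    have h1 := conj_pow_of_step (β := β) (u := u) (w := phi β u)
      (by simp only [phi]; group) h (orderOf β)
    rw [pow_orderOf_eq_one, one_mul, inv_one, mul_one, left_eq_mul] at h1
    obtain ⟨j, hj⟩ := IsPGroup.iff_orderOf.mp hUp ⟨_, hw⟩
    rw [Subgroup.orderOf_mk] at hj
    have h2 := Nat.dvd_gcd (orderOf_dvd_of_pow_eq_one h1) (dvd_of_eq hj)
    rw [Nat.Coprime.pow_right j hco] at h2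
    exact orderOf_eq_one_iff.mp (Nat.dvd_one.mp h2)
  have hB : ∀ y ∈ B, ∀ v ∈ U', y * v * y⁻¹ ∈ U' := by
    rintro y hy _ ⟨u, hu, rfl⟩
    refine ⟨y * u * y⁻¹, hUn.conj_mem u hu y, ?_⟩
    have hc := hBc y hy β hβB
    have hu' : β * (y * u * y⁻¹) * β⁻¹ ∈ U := hβU _ (hUn.conj_mem u hu y)
    have h1 : (y * β * y⁻¹ * β⁻¹) * (β * (y * u * y⁻¹) * β⁻¹) * (y * β * y⁻¹ * β⁻¹)⁻¹
        = β * (y * u * y⁻¹) * β⁻¹ := by
      rw [← mem_centralizer_iff.mp hc _ hu', mul_inv_cancel_right]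
    calc phi β (y * u * y⁻¹) = (y * u * y⁻¹)⁻¹ * (β * (y * u * y⁻¹) * β⁻¹) := rfl
      _ = y * phi β u * y⁻¹ := by rw [← h1]; simp only [phi]; group
  have hfa : ∀ x ∈ K, a * x * a⁻¹ = x → ∀ v ∈ U', x * v * x⁻¹ ∈ U' := by
    rintro x hx hxa _ ⟨u, hu, rfl⟩
    refine ⟨x * u * x⁻¹, hUn.conj_mem u hu x, ?_⟩
    have h : x * β * x⁻¹ = β := by
      rw [W.comm a (Or.inl rfl) x hx hxa β (hBK hβB) hβa, mul_inv_cancel_right]
    calc phi β (x * u * x⁻¹) = (x * u * x⁻¹)⁻¹ * ((x * β * x⁻¹) * (x * u * x⁻¹) * (x * β * x⁻¹)⁻¹) := by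
          rw [h]; rfl
      _ = _ := by simp only [phi]; group
  have hfb : ∀ x ∈ K, b * x * b⁻¹ = x → ∀ v ∈ U', x * v * x⁻¹ ∈ U' := fun x hx hxb =>
    conj_mem_of_fixed W hUK hUc (hBK hβB) hβa hβU (fun u hu => hUn.conj_mem u hu a)
      (fun u hu => hUn.conj_mem u hu b) hfix U' (fun _ => Iff.rfl) hx hxb
      fun i v hv => hB _ ((inferInstance : B.Normal).conj_mem _ (zpow_mem hβB i) x) v hv
  have hfc : ∀ x ∈ K, a * b * x * (a * b)⁻¹ = x → ∀ v ∈ U', x * v * x⁻¹ ∈ U' := fun x hx hxb =>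
    conj_mem_of_fixed W.third hUK hUc (hBK hβB) hβa hβU (fun u hu => hUn.conj_mem u hu a)
      (fun u hu => hUn.conj_mem u hu (a * b)) hfix U' (fun _ => Iff.rfl) hx hxb
      fun i v hv => hB _ ((inferInstance : B.Normal).conj_mem _ (zpow_mem hβB i) x) v hv
  have hinvfix : ∀ e x : G, e * x * e⁻¹ = x → e * x⁻¹ * e⁻¹ = x⁻¹ := fun e x h => by
    rw [← conj_inv, h]
  have hnorm : ∀ e ∈ K, (∀ v ∈ U', e * v * e⁻¹ ∈ U') → (∀ v ∈ U', e⁻¹ * v * e⁻¹⁻¹ ∈ U') →
      e ∈ normalizer (U' : Set G) := fun e _ h1 h2 =>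
    Subgroup.mem_normalizer_iff.mpr fun v => ⟨h1 v, fun hv => by
      have := h2 _ hv
      simpa [mul_assoc] using this⟩
  have hKn : K ≤ normalizer (U' : Set G) := by
    refine W.le_of_fixed_le' fun e he x hx hex => ?_
    rcases he with rfl | rfl | rfl
    · exact hnorm x hx (hfa x hx hex) (hfa _ (inv_mem hx) (hinvfix _ _ hex))
    · exact hnorm x hx (hfb x hx hex) (hfb _ (inv_mem hx) (hinvfix _ _ hex))
    · exact hnorm x hx (hfc x hx hex) (hfc _ (inv_mem hx) (hinvfix _ _ hex))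
  have hβb : b * β * b⁻¹ = β⁻¹ := W.inverts_fst (hBK hβB) hβa
  have hU'n : U'.Normal := by
    refine hnormal U' hKn ?_ ?_
    · rintro _ ⟨u, hu, rfl⟩
      refine ⟨a * u * a⁻¹, hUn.conj_mem u hu a, ?_⟩
      calc phi β (a * u * a⁻¹) = (a * u * a⁻¹)⁻¹ * ((a * β * a⁻¹) * (a * u * a⁻¹) * (a * β * a⁻¹)⁻¹) := by
            rw [hβa]; rfl
        _ = _ := by simp only [phi]; group
    · rintro _ ⟨u, hu, rfl⟩
      have hu' : b * u * b⁻¹ ∈ U := hUn.conj_mem u hu b
      have hu'' : β⁻¹ * (b * u * b⁻¹) * β ∈ U := hUn.conj_mem' _ hu' β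
      refine ⟨(β⁻¹ * (b * u * b⁻¹) * β)⁻¹, inv_mem hu'', ?_⟩
      calc phi β (β⁻¹ * (b * u * b⁻¹) * β)⁻¹
          = (β⁻¹ * (b * u * b⁻¹) * β) * (b * u * b⁻¹)⁻¹ := by simp only [phi]; group
        _ = (b * u * b⁻¹)⁻¹ * (β⁻¹ * (b * u * b⁻¹) * β) := hUc _ hu'' _ (inv_mem hu')
        _ = (b * u * b⁻¹)⁻¹ * ((b * β * b⁻¹) * (b * u * b⁻¹) * (b * β * b⁻¹)⁻¹) := by
            rw [hβb, inv_inv]
        _ = b * phi β u * b⁻¹ := by simp only [phi]; group
  rcases hU.2.2 U' hU'n hU'U with h | h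
  · refine hβC (mem_centralizer_iff.mpr fun u hu => ?_)
    have h1 : phi β u ∈ (⊥ : Subgroup G) := h ▸ (⟨u, hu, rfl⟩ : phi β u ∈ U')
    have h2 : β * u * β⁻¹ = u := by
      rw [mem_bot, phi, inv_mul_eq_one] at h1
      exact h1.symm
    exact (mul_inv_eq_iff_eq_mul.mp h2).symm
  · obtain ⟨u, hu, hua, hu1⟩ := hua
    obtain ⟨v, hv, hvu⟩ : u ∈ U' := h.ge hu
    have h1 : β * u * β⁻¹ = u := by
      rw [W.comm a (Or.inl rfl) β (hBK hβB) hβa u (hUK hu) hua, mul_inv_cancel_right]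
    exact hu1 (hvu ▸ hfix v hv (by rw [hvu, h1]))

/-- The derived group centralises every minimal normal subgroup inside `K`. -/
theorem commutator_le_centralizer (W : FourAct a b K) [K.Normal]
    (hnormal : ∀ H : Subgroup G, K ≤ normalizer (H : Set G) → (∀ x ∈ H, a * x * a⁻¹ ∈ H) →
      (∀ x ∈ H, b * x * b⁻¹ ∈ H) → H.Normal)
    {U : Subgroup G} (hU : Fitting.IsMinNormal U) (hUK : U ≤ K) :
    ⁅K, K⁆ ≤ centralizer (U : Set G) := by
  classical
  haveI := hU.1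
  haveI : Group.IsSolvable U := isSolvable_of_odd (W.odd.of_dvd_nat (card_dvd_of_le hUK))
  haveI := hU.isMulCommutative
  obtain ⟨p, hp, hUe⟩ := hU.exists_isElementaryAbelian
  haveI := Fact.mk hp
  have hUp : IsPGroup p U := Fitting.isPGroup_of_isElementaryAbelian hUe
  have hUc : ∀ x ∈ U, ∀ y ∈ U, x * y = y * x := fun x hx y hy =>
    congrArg Subtype.val (mul_comm' (⟨x, hx⟩ : U) ⟨y, hy⟩)
  by_cases hza : ∀ u ∈ U, a * u * a⁻¹ = u → u = 1
  · exact commutator_le_centralizer_of_fpf W hUK hza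
  by_cases hzb : ∀ u ∈ U, b * u * b⁻¹ = u → u = 1
  · exact commutator_le_centralizer_of_fpf W.swap hUK hzb
  by_cases hzc : ∀ u ∈ U, a * b * u * (a * b)⁻¹ = u → u = 1
  · exact commutator_le_centralizer_of_fpf W.third.swap hUK hzc
  push Not at hza hzb hzc
  set C := centralizer (U : Set G) with hC
  haveI : C.Normal := Subgroup.normal_centralizer
  by_cases hKC : K ≤ C
  · exact (commutator_le_left K K).trans hKC
  exfalso
  set π := QuotientGroup.mk' C with hπ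
  haveI hKb : (K.map π).Normal :=
    (inferInstance : K.Normal).map π (QuotientGroup.mk'_surjective C)
  have hne : K.map π ≠ ⊥ := by
    rw [Ne, Subgroup.map_eq_bot_iff, hπ, QuotientGroup.ker_mk']
    exact hKC
  obtain ⟨M, hM, hMK⟩ := Fitting.exists_isMinNormal_le hKb hne
  haveI := hM.1
  haveI : Group.IsSolvable M :=
    isSolvable_of_odd (W.map_quot.odd.of_dvd_nat (card_dvd_of_le hMK))
  haveI := hM.isMulCommutative
  obtain ⟨q, hq, hMe⟩ := hM.exists_isElementaryAbelian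
  haveI := Fact.mk hq
  set B := K ⊓ M.comap π with hB
  haveI : B.Normal := inferInstance
  have hMB : ∀ m ∈ M, ∃ x ∈ B, π x = m := by
    intro m hm
    obtain ⟨x, hx, rfl⟩ := hMK hm
    exact ⟨x, ⟨hx, hm⟩, rfl⟩
  have hBc : ∀ x ∈ B, ∀ y ∈ B, x * y * x⁻¹ * y⁻¹ ∈ C := by
    intro x hx y hy
    refine (QuotientGroup.eq_one_iff _).mp ?_
    have h : π x * π y = π y * π x :=
      congrArg Subtype.val (mul_comm' (⟨π x, hx.2⟩ : M) ⟨π y, hy.2⟩)
    rw [← QuotientGroup.mk'_apply]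
    simp only [map_mul, map_inv, ← hπ]
    rw [h]
    group
  have hBC : ¬ B ≤ C := by
    intro h
    apply hM.2.1
    rw [eq_bot_iff]
    intro m hm
    obtain ⟨x, hx, rfl⟩ := hMB m hm
    exact (QuotientGroup.eq_one_iff x).mpr (h hx)
  have hqp : q ≠ p := by
    rintro rfl
    let f : M →* MulAut U := (QuotientGroup.lift C MulAut.conjNormal (by
      intro c hc
      refine MulEquiv.ext fun u => Subtype.ext ?_
      rw [MulAut.conjNormal_apply, ← mem_centralizer_iff.mp hc u u.2, mul_inv_cancel_right]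
      rfl)).comp M.subtype
    letI : MulAction M U := MulAction.compHom U f
    have hMp : IsPGroup q M := Fitting.isPGroup_of_isElementaryAbelian hMe
    have hdvd : q ∣ Nat.card U := by
      obtain ⟨k, hk⟩ := IsPGroup.iff_card.mp hUp
      rw [hk]
      refine dvd_pow_self q ?_
      rintro rfl
      exact hU.2.1 (eq_bot_of_card_eq U (by rw [hk, pow_zero]))
    have h1 : (1 : U) ∈ MulAction.fixedPoints M U := fun m => map_one (f m)
    obtain ⟨u, hu, hu1⟩ := hMp.exists_fixed_point_of_prime_dvd_card_of_fixed_point U hdvd h1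
    have hcent : ∀ x ∈ B, x * (u : G) = u * x := by
      intro x hx
      have h2 : f ⟨π x, hx.2⟩ u = u := hu ⟨π x, hx.2⟩
      have h3 := congrArg Subtype.val h2
      rw [show f ⟨π x, hx.2⟩ = MulAut.conjNormal x from rfl,
        MulAut.conjNormal_apply] at h3
      exact mul_inv_eq_iff_eq_mul.mp h3
    have hUB : U ≤ centralizer (B : Set G) := by
      haveI : (centralizer (B : Set G)).Normal := Subgroup.normal_centralizer
      rcases hU.le_or_inf_eq_bot (centralizer (B : Set G)) with h | h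
      · exact h
      · exfalso
        apply hu1
        have h4 : (u : G) ∈ U ⊓ centralizer (B : Set G) :=
          ⟨u.2, mem_centralizer_iff.mpr hcent⟩
        rw [h, mem_bot] at h4
        exact (Subtype.ext h4).symm
    exact hBC fun x hx => mem_centralizer_iff.mpr fun v hv =>
      (mem_centralizer_iff.mp (hUB hv) x hx).symm
  have haB : ∀ x ∈ B, a * x * a⁻¹ ∈ B := fun x hx => (inferInstance : B.Normal).conj_mem x hx a
  have hbB : ∀ x ∈ B, b * x * b⁻¹ ∈ B := fun x hx => (inferInstance : B.Normal).conj_mem x hx b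
  obtain ⟨e, he, x, hxB, hxe, hxC⟩ : ∃ e, (e = a ∨ e = b ∨ e = a * b) ∧
      ∃ x ∈ B, e * x * e⁻¹ = x ∧ x ∉ C := by
    by_contra hcon
    push Not at hcon
    exact hBC ((W.mono inf_le_left haB hbB).le_of_fixed_le' fun e he x hx hxe => hcon e he x hx hxe)
  set v := (orderOf x).factorization p with hv
  set β := x ^ (p ^ v) with hβ
  have hβB : β ∈ B := pow_mem hxB _
  have hβC : β ∉ C := by
    intro h
    apply hxC
    have h1 : π x ^ (p ^ v) = 1 := by
      rw [← map_pow]; exact (QuotientGroup.eq_one_iff _).mpr h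
    have h2 : π x ^ q = 1 := hMe.2 _ hxB.2
    have h3 := pow_gcd_eq_one.mpr ⟨h1, h2⟩
    rw [(Nat.Coprime.pow_left v ((Nat.coprime_primes hp hq).mpr (Ne.symm hqp))), pow_one] at h3
    exact (QuotientGroup.eq_one_iff _).mp h3
  have hco : (orderOf β).Coprime p := by
    have hd : p ^ v ∣ orderOf x := Nat.ordProj_dvd _ _
    rw [hβ, orderOf_pow_of_dvd (pow_ne_zero _ hp.ne_zero) hd]
    exact (Nat.coprime_ordCompl hp (orderOf_pos x).ne').symm
  have hβe : e * β * e⁻¹ = β := by rw [hβ, ← conj_pow, hxe]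
  rcases he with rfl | rfl | rfl
  · exact false_of_beta W hnormal hU hUK hUc hp hUp hza (inf_le_left) hBc hβB hβe hβC hco
  · exact false_of_beta W.swap (fun H h1 h2 h3 => hnormal H h1 h3 h2) hU hUK hUc hp hUp hzb
      inf_le_left hBc hβB hβe hβC hco
  · refine false_of_beta W.third.swap (fun H h1 h2 h3 => hnormal H h1 h3 fun x hx => ?_) hU hUK hUc
      hp hUp hzc inf_le_left hBc hβB hβe hβC hco
    have h4 := h3 _ (h2 x hx)
    convert h4 using 1
    rw [show a * (a * b * x * (a * b)⁻¹) * a⁻¹ = (a * a) * b * x * ((a * a) * b)⁻¹ by group, W.ha,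
      one_mul]

end FourAct

theorem commutator_isNilpotent_aux : ∀ (n : ℕ) (G : Type u) [Group G] [Finite G] (a b : G)
    (K : Subgroup G), Nat.card K = n → FourAct a b K → Group.IsNilpotent (⁅K, K⁆ : Subgroup G) := by
  intro n
  induction n using Nat.strong_induction_on with
  | _ n IH =>
  intro G _ _ a b K hn W
  set L := K ⊔ closure ({a, b} : Set G) with hL
  have haL : a ∈ L := mem_sup_right (subset_closure (by simp))
  have hbL : b ∈ L := mem_sup_right (subset_closure (by simp))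
  have hKL : K ≤ L := le_sup_left
  have hnK : ∀ e : G, e * e = 1 → (∀ x ∈ K, e * x * e⁻¹ ∈ K) → e ∈ normalizer (K : Set G) :=
    fun e he h => Subgroup.mem_normalizer_iff.mpr fun x => ⟨h x, fun hx => by
      have h1 := h _ hx
      rw [show e * (e * x * e⁻¹) * e⁻¹ = (e * e) * x * (e * e)⁻¹ by group, he] at h1
      simpa using h1⟩
  have hLn : L ≤ normalizer (K : Set G) := sup_le le_normalizer ((closure_le _).mpr (by
    rintro e (rfl | rfl)
    · exact hnK _ W.ha W.haK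
    · exact hnK _ W.hb W.hbK))
  set K' := K.subgroupOf L with hK'
  haveI hK'n : K'.Normal := (normal_subgroupOf_iff_le_normalizer hKL).mpr hLn
  have hmap : K'.map L.subtype = K := map_subgroupOf_eq_of_le hKL
  have hcard : Nat.card K' = n := by rw [Nat.card_congr (subgroupOfEquivOfLe hKL).toEquiv, hn]
  have W' : FourAct (⟨a, haL⟩ : L) ⟨b, hbL⟩ K' :=
    { ha := Subtype.ext W.ha
      hb := Subtype.ext W.hb
      hab := Subtype.ext W.hab
      odd := by rw [hcard, ← hn]; exact W.odd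
      haK := fun x hx => W.haK x hx
      hbK := fun x hx => W.hbK x hx
      fpf := fun x hx h1 h2 =>
        Subtype.ext (W.fpf x hx (congrArg Subtype.val h1) (congrArg Subtype.val h2))
      comm := fun e he x hx hex y hy hey => Subtype.ext (W.comm e (by
          rcases he with rfl | rfl | rfl
          exacts [Or.inl rfl, Or.inr (Or.inl rfl), Or.inr (Or.inr rfl)]) x hx
        (congrArg Subtype.val hex) y hy (congrArg Subtype.val hey)) }
  suffices h : Group.IsNilpotent (⁅K', K'⁆ : Subgroup L) by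
    rw [← hmap, ← map_commutator]
    exact Fitting.isNilpotent_map _ h
  by_cases hK0 : K' = ⊥
  · have h : (⁅K', K'⁆ : Subgroup L) = ⊥ := by rw [hK0, commutator_bot_left]
    haveI : Subsingleton (⁅K', K'⁆ : Subgroup L) := by rw [h]; infer_instance
    infer_instance
  obtain ⟨U, hU, hUK⟩ := Fitting.exists_isMinNormal_le hK'n hK0
  haveI := hU.1
  have hnormal : ∀ H : Subgroup L, K' ≤ normalizer (H : Set L) →
      (∀ x ∈ H, (⟨a, haL⟩ : L) * x * (⟨a, haL⟩ : L)⁻¹ ∈ H) →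
      (∀ x ∈ H, (⟨b, hbL⟩ : L) * x * (⟨b, hbL⟩ : L)⁻¹ ∈ H) → H.Normal := by
    intro H h1 h2 h3
    have hnH : ∀ e : L, e * e = 1 → (∀ x ∈ H, e * x * e⁻¹ ∈ H) → e ∈ normalizer (H : Set L) :=
      fun e he h => Subgroup.mem_normalizer_iff.mpr fun x => ⟨h x, fun hx => by
        have h4 := h _ hx
        rw [show e * (e * x * e⁻¹) * e⁻¹ = (e * e) * x * (e * e)⁻¹ by group, he] at h4
        simpa using h4⟩
    have hmap' : L ≤ (normalizer (H : Set L)).map L.subtype := sup_le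
      (fun x hx => ⟨⟨x, hKL hx⟩, h1 hx, rfl⟩) ((closure_le _).mpr (by
        rintro e (rfl | rfl)
        · exact ⟨_, hnH _ W'.ha h2, rfl⟩
        · exact ⟨_, hnH _ W'.hb h3, rfl⟩))
    refine normalizer_eq_top_iff.mp (eq_top_iff.mpr fun x _ => ?_)
    obtain ⟨y, hy, hyx⟩ := hmap' x.2
    exact (Subtype.ext hyx : y = x) ▸ hy
  have hlt : Nat.card (K'.map (QuotientGroup.mk' U)) < n := by
    have h := relIndex_ker (K := K') (QuotientGroup.mk' U)
    rw [QuotientGroup.ker_mk'] at h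
    have h2 : Nat.card U * U.relIndex K' = Nat.card K' := by
      rw [← relIndex_bot_left, relIndex_mul_relIndex _ _ _ bot_le hUK, relIndex_bot_left]
    rw [h, hcard] at h2
    have h3 : 1 < Nat.card U := Finite.one_lt_card_iff_nontrivial.mpr
      ((nontrivial_iff_ne_bot U).mpr hU.2.1)
    have h4 : 0 < Nat.card (K'.map (QuotientGroup.mk' U)) := Nat.card_pos
    nlinarith
  have hq := IH _ hlt (L ⧸ U) _ _ _ rfl W'.map_quot
  rw [← map_commutator] at hq
  have hc := W'.commutator_le_centralizer hnormal hU hUK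
  haveI : Group.IsNilpotent ((⁅K', K'⁆).map (QuotientGroup.mk' U)) := hq
  refine Subgroup.isNilpotent_of_ker_le_center ((QuotientGroup.mk' U).subgroupMap ⁅K', K'⁆) ?_
  intro x hx
  have hxU : (x : L) ∈ U := (QuotientGroup.eq_one_iff (x : L)).mp (congrArg Subtype.val hx)
  exact mem_center_iff.mpr fun y => Subtype.ext ((mem_centralizer_iff.mp (hc y.2) _ hxU).symm)

/-- **The derived group is nilpotent.** -/
theorem FourAct.commutator_isNilpotent {a b : G} {K : Subgroup G} (W : FourAct a b K) :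
    Group.IsNilpotent (⁅K, K⁆ : Subgroup G) :=
  commutator_isNilpotent_aux _ G a b K rfl W

end Cfsg.Agent.GenDih45
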