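import Cfsg.Agent.GenDih45.Basic
import Cfsg.Agent.Lib.Involution.IndexTwo
import Cfsg.Agent.Lib.Involution.Isolated
import Cfsg.Agent.Lib.Components.ZStarInst
import Cfsg.Agent.GenDih45.Simple

/-!
# Transfer, isolated involutions, odd normal subgroups
-/

set_option autoImplicit false

namespace Cfsg.Agent.GenDih45

open Subgroup

universe u

variable {G : Type u} [Group G] [Finite G]

theorem sylow_two_conj (P : Sylow 2 G) {Q : Subgroup G} (hQ : IsPGroup 2 Q) :
    ∃ g : G, ∀ x ∈ Q, g * x * g⁻¹ ∈ (P : Subgroup G) := by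
  haveI : Fact (Nat.Prime 2) := ⟨Nat.prime_two⟩
  obtain ⟨R, hR⟩ := hQ.exists_le_sylow
  obtain ⟨g, hg⟩ := MulAction.exists_smul_eq G R P
  exact ⟨g, fun x hx => hg ▸ Involution.conj_mem_sylow_smul g (hR hx)⟩

theorem involution_conj_sylow (P : Sylow 2 G) {t : G} (ht : orderOf t = 2) :
    ∃ g : G, g * t * g⁻¹ ∈ (P : Subgroup G) := by
  haveI : Fact (Nat.Prime 2) := ⟨Nat.prime_two⟩
  obtain ⟨g, hg⟩ := sylow_two_conj P (Q := zpowers t)
    (IsPGroup.of_card (n := 1) (by rw [Nat.card_zpowers, ht, pow_one]))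
  exact ⟨g, hg t (mem_zpowers t)⟩

omit [Finite G] in
theorem mem_of_index_two_of_odd {M : Subgroup G} (hM : M.index = 2) {x : G}
    (hx : Odd (orderOf x)) : x ∈ M := by
  obtain ⟨k, hk⟩ := hx
  have h : (x * x) ^ (k + 1) = x := by
    rw [← pow_two, ← pow_mul, show 2 * (k + 1) = orderOf x + 1 by omega, pow_succ,
      pow_orderOf_eq_one, one_mul]
  rw [← h]
  exact pow_mem (mul_self_mem_of_index_two hM x) _

/-- A normal subgroup with cyclic Sylow 2-subgroup containing the elements of odd order: the latter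
form a normal subgroup, complemented by a Sylow 2-subgroup. -/
theorem exists_complement_of_inf_cyclic (P : Sylow 2 G) (X : Subgroup G) [X.Normal]
    (hodd : ∀ x : G, Odd (orderOf x) → x ∈ X) (hc : IsCyclic ↥((P : Subgroup G) ⊓ X)) :
    ∃ N : Subgroup G, N.Normal ∧ Odd (Nat.card N) ∧ (∀ x : G, Odd (orderOf x) → x ∈ N) ∧
      ∀ x : G, ∃ n ∈ N, ∃ p ∈ (P : Subgroup G), x = n * p := by
  haveI : Fact (Nat.Prime 2) := ⟨Nat.prime_two⟩
  obtain ⟨T⟩ := (inferInstance : Nonempty (Sylow 2 X))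
  have hN : ∃ K : Subgroup X, K.Normal ∧ Odd (Nat.card K) ∧ ∀ x : X, Odd (orderOf x) → x ∈ K := by
    by_cases h2 : 2 ∣ Nat.card X
    swap
    · exact ⟨⊤, inferInstance, by rw [card_top]; exact Nat.odd_iff.mpr (Nat.two_dvd_ne_zero.mp h2),
        fun x _ => mem_top x⟩
    have hTc : IsCyclic T := by
      obtain ⟨g, hg⟩ := sylow_two_conj P (T.2.map X.subtype)
      haveI := hc
      let f : T →* ↥((P : Subgroup G) ⊓ X) :=
        { toFun := fun t => ⟨g * (t : X) * g⁻¹, hg _ ⟨t, t.2, rfl⟩,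
            Subgroup.Normal.conj_mem inferInstance _ (t : X).2 g⟩
          map_one' := by ext; simp
          map_mul' := fun a b => by ext; simp [mul_assoc] }
      refine isCyclic_of_injective f fun a b h => Subtype.ext (Subtype.ext ?_)
      exact (MulAut.conj g).injective (congrArg Subtype.val h)
    have hmin : (Nat.card X).minFac = 2 := (Nat.minFac_eq_two_iff _).mpr h2
    have hcompl := IsCyclic.isComplement' hmin hTc
    set K := (MonoidHom.transferSylow T (hTc.normalizer_le_centralizer hmin)).ker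
    have hKc : ¬ 2 ∣ Nat.card K := hcompl.index_eq_card ▸ T.not_dvd_index
    refine ⟨K, inferInstance, Nat.odd_iff.mpr (Nat.two_dvd_ne_zero.mp hKc), fun x hx => ?_⟩
    rw [MonoidHom.mem_ker]
    set y := MonoidHom.transferSylow T (hTc.normalizer_le_centralizer hmin) x
    apply orderOf_eq_one_iff.mp
    obtain ⟨k, hk⟩ := IsPGroup.iff_orderOf.mp T.2 y
    have h1 : orderOf y ∣ orderOf x := orderOf_map_dvd _ x
    rw [hk] at h1 ⊢
    rcases k with _ | k
    · rfl
    · exact absurd ((dvd_pow_self 2 k.succ_ne_zero).trans h1) hx.not_two_dvd_nat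
  obtain ⟨K, hKn, hKodd, hK⟩ := hN
  set N := K.map X.subtype with hNdef
  have hmem : ∀ x, x ∈ N ↔ x ∈ X ∧ Odd (orderOf x) := by
    intro x
    constructor
    · rintro ⟨y, hy, rfl⟩
      refine ⟨y.2, ?_⟩
      show Odd (orderOf (y : G))
      rw [Subgroup.orderOf_coe]; exact odd_orderOf_of_mem hKodd hy
    · rintro ⟨hx, ho⟩
      exact ⟨⟨x, hx⟩, hK _ (by rwa [Subgroup.orderOf_mk]), rfl⟩
  have hNn : N.Normal := ⟨fun n hn g => by
    obtain ⟨h1, h2⟩ := (hmem n).mp hn
    exact (hmem _).mpr ⟨Subgroup.Normal.conj_mem inferInstance _ h1 g, by rwa [orderOf_conj']⟩⟩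
  have hNodd : Odd (Nat.card N) := by rwa [card_map_of_injective X.subtype_injective]
  have hN' : ∀ x : G, Odd (orderOf x) → x ∈ N := fun x hx => (hmem x).mpr ⟨hodd x hx, hx⟩
  refine ⟨N, hNn, hNodd, hN', fun x => ?_⟩
  haveI := hNn
  have htop : N ⊔ (P : Subgroup G) = ⊤ := by
    apply eq_top_of_card_eq
    refine Nat.dvd_antisymm (card_subgroup_dvd_card _) ?_
    rw [← Nat.factorization_le_iff_dvd Nat.card_pos.ne' Nat.card_pos.ne', Finsupp.le_def]
    intro p
    by_cases hp : p.Prime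
    swap
    · simp [Nat.factorization_eq_zero_of_not_prime _ hp]
    rw [← hp.pow_dvd_iff_le_factorization Nat.card_pos.ne']
    haveI := Fact.mk hp
    obtain ⟨Q⟩ := (inferInstance : Nonempty (Sylow p G))
    rw [← Sylow.card_eq_multiplicity Q]
    by_cases hp2 : p = 2
    · subst hp2
      refine dvd_trans ?_ (card_dvd_of_le (le_sup_right : (P : Subgroup G) ≤ _))
      rw [Sylow.card_eq_multiplicity, Sylow.card_eq_multiplicity]
    · refine card_dvd_of_le (fun q hq => mem_sup_left (hN' q ?_))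
      obtain ⟨j, hj⟩ := IsPGroup.iff_orderOf.mp Q.2 ⟨q, hq⟩
      rw [Subgroup.orderOf_mk] at hj
      rw [hj]
      exact (hp.odd_of_ne_two hp2).pow
  obtain ⟨n, hn, p, hp, h⟩ := mem_sup_of_normal_left.mp (htop.ge (mem_top x))
  exact ⟨n, hn, p, hp, h.symm⟩

theorem isSolvable_of_inf_cyclic (P : Sylow 2 G) (X : Subgroup G) [X.Normal]
    (hodd : ∀ x : G, Odd (orderOf x) → x ∈ X) (hc : IsCyclic ↥((P : Subgroup G) ⊓ X)) :
    Group.IsSolvable G := by
  haveI : Fact (Nat.Prime 2) := ⟨Nat.prime_two⟩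
  obtain ⟨N, hN, hNodd, -, hdec⟩ := exists_complement_of_inf_cyclic P X hodd hc
  haveI := hN
  refine isSolvable_of_extension N (isSolvable_of_odd hNodd) ?_
  haveI : Group.IsNilpotent (P : Subgroup G) := P.2.isNilpotent
  exact Group.isSolvable_of_surjective (f := (QuotientGroup.mk' N).comp (P : Subgroup G).subtype)
    (by
      intro q
      obtain ⟨x, rfl⟩ := QuotientGroup.mk'_surjective N q
      obtain ⟨n, hn, p, hp, rfl⟩ := hdec x
      refine ⟨⟨p, hp⟩, ?_⟩
      rw [MonoidHom.comp_apply, map_mul, show QuotientGroup.mk' N n = 1 from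
        (QuotientGroup.eq_one_iff n).mpr hn, one_mul]
      rfl)

/-- An isolated involution is central if there is no nontrivial odd normal subgroup. -/
theorem central_of_isolated (hO : ∀ N : Subgroup G, N.Normal → Odd (Nat.card N) → N = ⊥)
    (P : Sylow 2 G) {t : G} (ht : orderOf t = 2) (htP : t ∈ (P : Subgroup G))
    (hiso : ∀ g : G, g * t * g⁻¹ ∈ (P : Subgroup G) → g * t * g⁻¹ = t) : ∀ g : G, g * t = t * g := by
  obtain ⟨N, hN, hNodd, h⟩ := Components.zStarProperty.{u} G P t ht htP hiso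
  intro g
  have h1 := h g
  rw [hO N hN hNodd, mem_bot, mul_inv_eq_one, mul_inv_eq_iff_eq_mul] at h1
  exact h1.symm

/-- A subgroup with a characteristic-type description has no odd normal subgroup. -/
theorem odd_normal_eq_bot_of_normal (hO : ∀ N : Subgroup G, N.Normal → Odd (Nat.card N) → N = ⊥)
    (M : Subgroup G) [M.Normal] :
    ∀ N : Subgroup M, N.Normal → Odd (Nat.card N) → N = ⊥ := by
  intro N hN hodd
  have h1 : N ≤ Cfsg.oddCore M := Thompson.le_pPrimeCore hN (Nat.coprime_two_right.mpr hodd)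
  have h2 : (Cfsg.oddCore M).map M.subtype = ⊥ := by
    refine hO _ inferInstance ?_
    rw [card_map_of_injective M.subtype_injective]
    exact Nat.coprime_two_right.mp (Thompson.card_pPrimeCore_coprime (p := 2) (G := M))
  rw [map_eq_bot_iff_of_injective _ M.subtype_injective] at h2
  exact le_bot_iff.mp (h2 ▸ h1)

end Cfsg.Agent.GenDih45
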