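import Cfsg.Agent.GenDih45.SL2
import Cfsg.Agent.GenDih45.DGroup
import Cfsg.Agent.GenDih45.Extras
import Cfsg.Agent.GenDih45.Alpha

/-!
# The centraliser is elementary abelian
-/

set_option autoImplicit false

namespace Cfsg.Agent.GenDih45

open Subgroup

universe u

variable {G : Type u} [Group G] [Finite G]

theorem isSolvable_of_normal_sylow (P : Sylow 2 G) (hn : (P : Subgroup G).Normal) :
    Group.IsSolvable G := by
  haveI : Fact (Nat.Prime 2) := ⟨Nat.prime_two⟩
  haveI := hn
  haveI : Group.IsNilpotent (P : Subgroup G) := P.2.isNilpotent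
  refine isSolvable_of_extension (P : Subgroup G) inferInstance ?_
  have hodd : Odd (Nat.card (G ⧸ (P : Subgroup G))) := by
    rw [← index_eq_card, Nat.odd_iff]
    exact Nat.two_dvd_ne_zero.mp P.not_dvd_index
  haveI := isSolvable_of_odd (K := (⊤ : Subgroup (G ⧸ (P : Subgroup G)))) (by rwa [card_top])
  exact Group.isSolvable_of_surjective (f := (⊤ : Subgroup (G ⧸ (P : Subgroup G))).subtype)
    (fun x => ⟨⟨x, mem_top x⟩, rfl⟩)

theorem isSolvable_of_cyclic_sylow (P : Sylow 2 G) (hc : IsCyclic P) : Group.IsSolvable G := by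
  refine isSolvable_of_inf_cyclic P ⊤ (fun _ _ => mem_top _) ?_
  rw [inf_top_eq]
  exact hc

/-- Nonsolvable groups in which involution centralisers are abelian. -/
theorem abelian_case (heven : Even (Nat.card G))
    (h : ∀ t : G, orderOf t = 2 → IsMulCommutative ↥(centralizer ({t} : Set G)))
    (hns : ¬ Group.IsSolvable G) :
    ∃ (F : Type) (_ : Field F) (_ : Fintype F) (B : Type) (_ : CommGroup B) (_ : Finite B),
      CharP F 2 ∧ Odd (Nat.card B) ∧ 4 ≤ Fintype.card F ∧
        Nonempty (G ≃* Matrix.SpecialLinearGroup (Fin 2) F × B) := by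
  rcases S2202.result heven h with hc | hn | ⟨F, iF, iF', B, iB, iB', hchar, hB, ⟨e⟩⟩
  · obtain ⟨P⟩ := (inferInstance : Nonempty (Sylow 2 G))
    exact absurd (isSolvable_of_cyclic_sylow P (hc P)) hns
  · obtain ⟨P⟩ := (inferInstance : Nonempty (Sylow 2 G))
    exact absurd (isSolvable_of_normal_sylow P (hn P)) hns
  · refine ⟨F, iF, iF', B, iB, iB', hchar, hB, ?_, ⟨e⟩⟩
    haveI := hchar
    refine four_le_of_ne_two fun h2 => hns ?_
    haveI := sl_two_isSolvable h2
    haveI := Group.isSolvable_of_comm (fun a b : B => mul_comm a b)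
    exact Group.isSolvable_of_isSolvable_injective (f := e.toMonoidHom) e.injective

theorem elem_case {H : Subgroup G} (hel : ∀ x ∈ H, x * x = 1) (h4 : 4 ∣ Nat.card H)
    (hC : ∀ j ∈ H, orderOf j = 2 → cent j = H) (hns : ¬ Group.IsSolvable G) :
    ∃ (F : Type) (_ : Field F) (_ : Fintype F), 3 < Fintype.card F ∧
      Nonempty (G ≃* Matrix.ProjectiveSpecialLinearGroup (Fin 2) F) := by
  haveI : Fact (Nat.Prime 2) := ⟨Nat.prime_two⟩
  have hH : IsPGroup 2 H := fun x => ⟨1, Subtype.ext (by simpa [pow_two] using hel x x.2)⟩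
  have hHcomm : ∀ x ∈ H, ∀ y ∈ H, x * y = y * x := by
    intro x hx y hy
    calc x * y = (x * y)⁻¹ := (inv_eq_of_mul_eq_one_right (hel _ (mul_mem hx hy))).symm
      _ = _ := by rw [mul_inv_rev, inv_eq_of_mul_eq_one_right (hel x hx),
        inv_eq_of_mul_eq_one_right (hel y hy)]
  obtain ⟨P, hHP⟩ := hH.exists_le_sylow
  have hHne : H ≠ ⊥ := fun e => by rw [e, card_bot] at h4; norm_num at h4
  obtain ⟨e₀, he₀, he₀1⟩ := (H.bot_or_exists_ne_one).resolve_left hHne
  have he₀2 : orderOf e₀ = 2 := orderOf_two_of (hel e₀ he₀) he₀1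
  obtain ⟨j, hjP, hj, hjc⟩ := exists_central_involution P.2 fun e => he₀1 (mem_bot.mp (e ▸ hHP he₀))
  have hjH : j ∈ H := hC e₀ he₀ he₀2 ▸ mem_cent.mpr (hjc e₀ (hHP he₀)).symm
  have hPH : (P : Subgroup G) = H :=
    le_antisymm (fun q hq => hC j hjH hj ▸ mem_cent.mpr (hjc q hq)) hHP
  obtain ⟨F, iF, iF', B, iB, iB', hchar, hB, hq, ⟨e⟩⟩ := abelian_case (G := G)
    (even_iff_two_dvd.mpr ((dvd_trans (by norm_num) h4).trans (card_subgroup_dvd_card H)))
    (fun t ht => by
      obtain ⟨g, hg⟩ := involution_conj_sylow P ht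
      rw [hPH] at hg
      have hc := hC _ hg (by rw [orderOf_conj', ht])
      refine ⟨⟨fun a b => Subtype.ext ?_⟩⟩
      have hm : ∀ c : centralizer ({t} : Set G), g * c * g⁻¹ ∈ H := fun c => hc ▸ mem_cent.mpr (by
        calc g * c * g⁻¹ * (g * t * g⁻¹) = g * (c * t) * g⁻¹ := by group
          _ = _ := by rw [mem_centralizer_singleton_iff.mp c.2]; group)
      have h1 := hHcomm _ (hm a) _ (hm b)
      refine (MulAut.conj g).injective ?_
      show g * ((a : G) * b) * g⁻¹ = g * ((b : G) * a) * g⁻¹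
      calc g * ((a : G) * b) * g⁻¹ = (g * a * g⁻¹) * (g * b * g⁻¹) := by group
        _ = _ := by rw [h1]; group) hns
  haveI := hchar
  -- the abelian factor is trivial
  have hB1 : ∀ b : B, b = 1 := by
    intro b
    set g := e.symm (1, b)
    have hgc : g * e₀ = e₀ * g := e.injective (by
      rw [map_mul, map_mul, MulEquiv.apply_symm_apply]
      exact Prod.ext (by simp) (mul_comm _ _))
    have hgH : g ∈ H := hC e₀ he₀ he₀2 ▸ mem_cent.mpr hgc
    have h1 := congrArg e (hel g hgH)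
    rw [map_mul, map_one, MulEquiv.apply_symm_apply] at h1
    exact eq_one_of_odd_of_sq (hB.of_dvd_nat (orderOf_dvd_natCard b)) (congrArg Prod.snd h1)
  obtain ⟨f, -, hf⟩ := card_eq_two_pow (F := F)
  obtain ⟨e'⟩ := CharDeep.OrderP.nonempty_psl_equiv_sl (F := F) hf
  refine ⟨F, iF, iF', by omega, ⟨(e.trans ?_).trans e'.symm⟩⟩
  exact
    { toFun := Prod.fst
      invFun := fun s => (s, 1)
      left_inv := fun p => Prod.ext rfl (hB1 p.2).symm
      right_inv := fun _ => rfl
      map_mul' := fun _ _ => rfl }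

end Cfsg.Agent.GenDih45
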