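import Mathlib

/-!
# A four-group acting on a group of odd order

If `a`, `b` are commuting elements of square one normalising a subgroup `K` of odd order, then every
element of `K` is `w * (u * v * u)` with `w` fixed by `a`, `u` inverted by `a` and fixed by `b`,
`v` inverted by `a` and by `b`. Without common fixed points this gives `|K| = |K_a| |K_b| |K_ab|`.
-/

set_option autoImplicit false

namespace Cfsg.Agent.GenDih45

open Subgroup

variable {G : Type*} [Group G] [Finite G]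

/-- Elements of odd order are determined by their squares. -/
theorem sq_injective_of_odd {x y : G} (hx : Odd (orderOf x)) (hy : Odd (orderOf y))
    (h : x * x = y * y) : x = y := by
  obtain ⟨m, hm⟩ := exists_pow_eq_self_of_coprime (x := x) (n := 2)
    (Nat.coprime_two_left.mpr hx)
  obtain ⟨k, hk⟩ := exists_pow_eq_self_of_coprime (x := y) (n := 2)
    (Nat.coprime_two_left.mpr hy)
  have h1 : x ^ 2 = y ^ 2 := by rw [sq, sq, h]
  have hc : Commute x y := by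
    rw [← hm, h1]
    exact ((Commute.refl y).pow_left 2).pow_left m
  have h2 : (x * y⁻¹) ^ 2 = 1 := by
    rw [hc.inv_right.mul_pow, h1, inv_pow, mul_inv_cancel]
  have h3 : orderOf (x * y⁻¹) ∣ orderOf x * orderOf y :=
    orderOf_dvd_of_pow_eq_one (by
      rw [hc.inv_right.mul_pow, pow_mul, pow_orderOf_eq_one, one_pow, one_mul,
        inv_pow, mul_comm (orderOf x), pow_mul, pow_orderOf_eq_one, one_pow, inv_one])
  have h4 : orderOf (x * y⁻¹) ∣ Nat.gcd 2 (orderOf x * orderOf y) :=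
    Nat.dvd_gcd (orderOf_dvd_of_pow_eq_one h2) h3
  rw [Nat.coprime_two_left.mpr (hx.mul hy)] at h4
  exact mul_inv_eq_one.mp (orderOf_eq_one_iff.mp (Nat.dvd_one.mp h4))

theorem odd_orderOf_of_mem {K : Subgroup G} (hK : Odd (Nat.card K)) {x : G} (hx : x ∈ K) :
    Odd (orderOf x) :=
  hK.of_dvd_nat (orderOf_dvd_natCard K hx)

theorem exists_sqrt {K : Subgroup G} (hK : Odd (Nat.card K)) {x : G} (hx : x ∈ K) :
    ∃ r ∈ K, r * r = x := by
  obtain ⟨m, hm⟩ := exists_pow_eq_self_of_coprime (x := x) (n := 2)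
    (Nat.coprime_two_left.mpr (odd_orderOf_of_mem hK hx))
  exact ⟨x ^ m, pow_mem hx m, by rw [← sq, ← pow_mul, mul_comm, pow_mul, hm]⟩

theorem eq_one_of_inv_self {K : Subgroup G} (hK : Odd (Nat.card K)) {x : G} (hx : x ∈ K)
    (h : x⁻¹ = x) : x = 1 :=
  sq_injective_of_odd (odd_orderOf_of_mem hK hx) (by simp)
    (by rw [one_mul]; exact inv_eq_iff_mul_eq_one.mp h)

/-- The elements of `K` inverted by `a`. -/
def invSet (a : G) (K : Subgroup G) : Set G := {x | x ∈ K ∧ a * x * a⁻¹ = x⁻¹}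

theorem mem_inf_centralizer {a : G} {K : Subgroup G} {x : G} :
    x ∈ K ⊓ centralizer ({a} : Set G) ↔ x ∈ K ∧ a * x * a⁻¹ = x := by
  rw [mem_inf, mem_centralizer_singleton_iff, mul_inv_eq_iff_eq_mul, eq_comm (a := x * a)]

section One

variable {a : G} (ha : a * a = 1) {K : Subgroup G} (hK : Odd (Nat.card K))
  (haK : ∀ x ∈ K, a * x * a⁻¹ ∈ K)

include ha hK haK

/-- `K` is the product of its `a`-inverted elements and its `a`-fixed points. -/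
theorem exists_inv_mul_fixed {x : G} (hx : x ∈ K) :
    ∃ i ∈ invSet a K, ∃ w ∈ K ⊓ centralizer ({a} : Set G), x = i * w := by
  have ha' : a⁻¹ = a := inv_eq_of_mul_eq_one_right ha
  obtain ⟨i, hi, hii⟩ := exists_sqrt hK (mul_mem hx (inv_mem (haK x hx)))
  have hinv : a * i * a⁻¹ = i⁻¹ := by
    refine sq_injective_of_odd (odd_orderOf_of_mem hK (haK i hi))
      (odd_orderOf_of_mem hK (inv_mem hi)) ?_
    rw [show a * i * a⁻¹ * (a * i * a⁻¹) = a * (i * i) * a⁻¹ by group, hii, ← mul_inv_rev, hii]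
    calc a * (x * (a * x * a⁻¹)⁻¹) * a⁻¹ = a * x * a * x⁻¹ * (a * a)⁻¹ := by group
      _ = a * x * a⁻¹ * x⁻¹ := by rw [ha, inv_one, mul_one, ha']
      _ = _ := by group
  refine ⟨i, ⟨hi, hinv⟩, i⁻¹ * x, mem_inf_centralizer.mpr ⟨mul_mem (inv_mem hi) hx, ?_⟩,
    (mul_inv_cancel_left i x).symm⟩
  calc a * (i⁻¹ * x) * a⁻¹ = (a * i * a⁻¹)⁻¹ * (a * x * a⁻¹) := by group
    _ = i⁻¹ * ((i * i) * (a * x * a⁻¹)) := by rw [hinv, inv_inv]; group
    _ = i⁻¹ * x := by rw [hii, inv_mul_cancel_right]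

omit haK in
theorem inv_mul_fixed_unique {i j w v : G} (hi : i ∈ invSet a K) (hj : j ∈ invSet a K)
    (hw : w ∈ K ⊓ centralizer ({a} : Set G)) (hv : v ∈ K ⊓ centralizer ({a} : Set G))
    (h : i * w = j * v) : i = j ∧ w = v := by
  have hw' := mem_inf_centralizer.mp hw
  have hv' := mem_inf_centralizer.mp hv
  have h1 : i⁻¹ * w = j⁻¹ * v := by
    have h0 := congrArg (fun g => a * g * a⁻¹) h
    rw [show a * (i * w) * a⁻¹ = (a * i * a⁻¹) * (a * w * a⁻¹) by group, hi.2, hw'.2,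
      show a * (j * v) * a⁻¹ = (a * j * a⁻¹) * (a * v * a⁻¹) by group, hj.2, hv'.2] at h0
    exact h0
  have h2 : i * i = j * j := by
    calc i * i = (i * w) * (i⁻¹ * w)⁻¹ := by group
      _ = (j * v) * (j⁻¹ * v)⁻¹ := by rw [h, h1]
      _ = j * j := by group
  have h3 := sq_injective_of_odd (odd_orderOf_of_mem hK hi.1) (odd_orderOf_of_mem hK hj.1) h2
  exact ⟨h3, mul_left_cancel (h3 ▸ h)⟩

theorem card_invSet_mul :
    Nat.card (invSet a K) * Nat.card (K ⊓ centralizer ({a} : Set G) : Subgroup G) = Nat.card K := by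
  rw [← Nat.card_prod]
  refine Nat.card_eq_of_bijective
    (fun p => (⟨(p.1 : G) * p.2, mul_mem p.1.2.1 p.2.2.1⟩ : K)) ⟨?_, ?_⟩
  · rintro ⟨i, w⟩ ⟨j, v⟩ h
    obtain ⟨h1, h2⟩ := inv_mul_fixed_unique ha hK i.2 j.2 w.2 v.2 (congrArg Subtype.val h)
    exact Prod.ext (Subtype.ext h1) (Subtype.ext h2)
  · intro x
    obtain ⟨i, hi, w, hw, hx⟩ := exists_inv_mul_fixed ha hK haK x.2
    exact ⟨(⟨i, hi⟩, ⟨w, hw⟩), Subtype.ext hx.symm⟩

end One

section Two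

variable {a b : G} (ha : a * a = 1) (hb : b * b = 1) (hab : a * b = b * a) {K : Subgroup G}
  (hK : Odd (Nat.card K)) (haK : ∀ x ∈ K, a * x * a⁻¹ ∈ K) (hbK : ∀ x ∈ K, b * x * b⁻¹ ∈ K)

include ha hb hab hK haK hbK

/-- An element inverted by `a` is `u * v * u` with `u` fixed by `b` and `v` inverted by `b`, both
inverted by `a`. -/
theorem exists_uvu {x : G} (hx : x ∈ invSet a K) :
    ∃ u ∈ invSet a K, b * u * b⁻¹ = u ∧
      ∃ v ∈ invSet a K, b * v * b⁻¹ = v⁻¹ ∧ x = u * v * u := by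
  have ha' : a⁻¹ = a := inv_eq_of_mul_eq_one_right ha
  have hb' : b⁻¹ = b := inv_eq_of_mul_eq_one_right hb
  set x' := b * x * b⁻¹ with hx'
  have hx'K : x' ∈ K := hbK x hx.1
  obtain ⟨r, hr, hrr⟩ := exists_sqrt hK (mul_mem (inv_mem hx.1) hx'K)
  set w := x * r with hwdef
  have hwK : w ∈ K := mul_mem hx.1 hr
  have hw : w * x⁻¹ * w = x' := by
    calc w * x⁻¹ * w = x * (r * r) := by rw [hwdef]; group
      _ = x' := by rw [hrr, mul_inv_cancel_left]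
  have huniq : ∀ w' ∈ K, w' * x⁻¹ * w' = x' → w' = w := fun w' hw' h => by
    have h1 := sq_injective_of_odd (odd_orderOf_of_mem hK (mul_mem (inv_mem hx.1) hw'))
      (odd_orderOf_of_mem hK (mul_mem (inv_mem hx.1) hwK))
      (by rw [show x⁻¹ * w' * (x⁻¹ * w') = x⁻¹ * (w' * x⁻¹ * w') by group, h, ← hw]; group)
    exact mul_left_cancel h1
  have hwb : b * w * b⁻¹ = w := by
    refine huniq _ (hbK w hwK) ?_
    have h1 : (b * w * b⁻¹) * x'⁻¹ * (b * w * b⁻¹) = x := by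
      calc (b * w * b⁻¹) * x'⁻¹ * (b * w * b⁻¹) = b * (w * x⁻¹ * w) * b⁻¹ := by rw [hx']; group
        _ = (b * b) * x * (b * b)⁻¹ := by rw [hw, hx']; group
        _ = x := by rw [hb, one_mul, inv_one, mul_one]
    set w' := b * w * b⁻¹
    calc w' * x⁻¹ * w' = w' * (w' * x'⁻¹ * w')⁻¹ * w' := by rw [h1]
      _ = x' := by group
  have hax' : a * x' * a⁻¹ = x'⁻¹ := by
    rw [hx']
    calc a * (b * x * b⁻¹) * a⁻¹ = (a * b) * x * (a * b)⁻¹ := by group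
      _ = b * (a * x * a⁻¹) * b⁻¹ := by rw [hab]; group
      _ = (b * x * b⁻¹)⁻¹ := by rw [hx.2]; group
  obtain ⟨u, hu, huu⟩ := exists_sqrt hK hwK
  have hub : b * u * b⁻¹ = u := by
    refine sq_injective_of_odd (odd_orderOf_of_mem hK (hbK u hu)) (odd_orderOf_of_mem hK hu) ?_
    rw [show b * u * b⁻¹ * (b * u * b⁻¹) = b * (u * u) * b⁻¹ by group, huu, hwb]
  have hodd : ∀ g : G, Odd (orderOf g) → Odd (orderOf (a * g * a⁻¹)) := fun g hg => by
    rwa [show a * g * a⁻¹ = MulAut.conj a g from rfl, MulEquiv.orderOf_eq]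
  have hwa : a * w * a⁻¹ = w⁻¹ := by
    have h1 : (a * w * a⁻¹) * x * (a * w * a⁻¹) = x'⁻¹ := by
      calc (a * w * a⁻¹) * x * (a * w * a⁻¹) = (a * w * a⁻¹) * x⁻¹⁻¹ * (a * w * a⁻¹) := by
            rw [inv_inv]
        _ = (a * w * a⁻¹) * (a * x * a⁻¹)⁻¹ * (a * w * a⁻¹) := by rw [hx.2]
        _ = a * (w * x⁻¹ * w) * a⁻¹ := by group
        _ = x'⁻¹ := by rw [hw, hax']
    set w' := a * w * a⁻¹ with hw'def
    have h2 : w'⁻¹ * x⁻¹ * w'⁻¹ = x' := by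
      calc w'⁻¹ * x⁻¹ * w'⁻¹ = (w' * x * w')⁻¹ := by group
        _ = x' := by rw [h1, inv_inv]
    have h4 := sq_injective_of_odd (x := x⁻¹ * w'⁻¹) (y := x⁻¹ * w)
      (hK.of_dvd_nat (orderOf_dvd_natCard K (mul_mem (inv_mem hx.1) (inv_mem ?_))))
      (odd_orderOf_of_mem hK (mul_mem (inv_mem hx.1) hwK))
      (by rw [show x⁻¹ * w'⁻¹ * (x⁻¹ * w'⁻¹) = x⁻¹ * (w'⁻¹ * x⁻¹ * w'⁻¹) by group, h2, ← hw]
          group)
    · exact inv_eq_iff_eq_inv.mp (mul_left_cancel h4)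
    · rw [hw'def]; exact haK w hwK
  have hua : a * u * a⁻¹ = u⁻¹ := by
    refine sq_injective_of_odd (hodd u (odd_orderOf_of_mem hK hu))
      (odd_orderOf_of_mem hK (inv_mem hu)) ?_
    rw [show a * u * a⁻¹ * (a * u * a⁻¹) = a * (u * u) * a⁻¹ by group, huu, hwa, ← huu, mul_inv_rev]
  refine ⟨u, ⟨hu, hua⟩, hub, u⁻¹ * x * u⁻¹,
    ⟨mul_mem (mul_mem (inv_mem hu) hx.1) (inv_mem hu), ?_⟩, ?_, by group⟩
  · calc a * (u⁻¹ * x * u⁻¹) * a⁻¹ = (a * u * a⁻¹)⁻¹ * (a * x * a⁻¹) * (a * u * a⁻¹)⁻¹ := by group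
      _ = _ := by rw [hua, hx.2]; group
  · calc b * (u⁻¹ * x * u⁻¹) * b⁻¹ = (b * u * b⁻¹)⁻¹ * x' * (b * u * b⁻¹)⁻¹ := by rw [hx']; group
      _ = u⁻¹ * (w * x⁻¹ * w) * u⁻¹ := by rw [hub, hw]
      _ = _ := by rw [← huu]; group

omit ha hab haK hbK in
theorem uvu_unique {u v u₁ v₁ : G} (hu : u ∈ invSet a K) (hub : b * u * b⁻¹ = u)
    (hv : v ∈ invSet a K) (hvb : b * v * b⁻¹ = v⁻¹) (hu₁ : u₁ ∈ invSet a K)
    (hub₁ : b * u₁ * b⁻¹ = u₁) (hv₁ : v₁ ∈ invSet a K) (hvb₁ : b * v₁ * b⁻¹ = v₁⁻¹)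
    (h : u * v * u = u₁ * v₁ * u₁) : u = u₁ ∧ v = v₁ := by
  have key : ∀ p q : G, b * p * b⁻¹ = p → b * q * b⁻¹ = q⁻¹ →
      (p * q * p)⁻¹ * (p * p) * ((p * q * p)⁻¹ * (p * p)) = (p * q * p)⁻¹ * (b * (p * q * p) * b⁻¹) := by
    intro p q hp hq
    rw [show b * (p * q * p) * b⁻¹ = (b * p * b⁻¹) * (b * q * b⁻¹) * (b * p * b⁻¹) by group, hp, hq]
    group
  have h1 := key u v hub hvb
  rw [h, ← key u₁ v₁ hub₁ hvb₁] at h1
  have hm : ∀ p ∈ K, ∀ q ∈ K, (u₁ * v₁ * u₁)⁻¹ * (p * q) ∈ K := fun p hp q hq =>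
    mul_mem (inv_mem (mul_mem (mul_mem hu₁.1 hv₁.1) hu₁.1)) (mul_mem hp hq)
  have h2 := mul_left_cancel (sq_injective_of_odd (odd_orderOf_of_mem hK (hm _ hu.1 _ hu.1))
    (odd_orderOf_of_mem hK (hm _ hu₁.1 _ hu₁.1)) h1)
  have h3 := sq_injective_of_odd (odd_orderOf_of_mem hK hu.1) (odd_orderOf_of_mem hK hu₁.1) h2
  subst h3
  exact ⟨rfl, mul_left_cancel (mul_right_cancel h)⟩

end Two

section Fpf

variable {a b : G} (ha : a * a = 1) (hb : b * b = 1) (hab : a * b = b * a) {K : Subgroup G}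
  (hK : Odd (Nat.card K)) (haK : ∀ x ∈ K, a * x * a⁻¹ ∈ K) (hbK : ∀ x ∈ K, b * x * b⁻¹ ∈ K)
  (hfpf : ∀ x ∈ K, a * x * a⁻¹ = x → b * x * b⁻¹ = x → x = 1)

include ha hb hab hK haK hbK hfpf

theorem inverts_fixed_fst {x : G} (hx : x ∈ K) (hax : a * x * a⁻¹ = x) :
    b * x * b⁻¹ = x⁻¹ := by
  set L := K ⊓ centralizer ({a} : Set G)
  have hbL : ∀ y ∈ L, b * y * b⁻¹ ∈ L := fun y hy => by
    obtain ⟨hy1, hy2⟩ := mem_inf_centralizer.mp hy
    refine mem_inf_centralizer.mpr ⟨hbK y hy1, ?_⟩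
    calc a * (b * y * b⁻¹) * a⁻¹ = (a * b) * y * (a * b)⁻¹ := by group
      _ = b * (a * y * a⁻¹) * b⁻¹ := by rw [hab]; group
      _ = _ := by rw [hy2]
  obtain ⟨i, hi, w, hw, hxw⟩ := exists_inv_mul_fixed hb
    (hK.of_dvd_nat (card_dvd_of_le (inf_le_left : L ≤ K))) hbL
    (mem_inf_centralizer.mpr ⟨hx, hax⟩)
  obtain ⟨hw1, hw2⟩ := mem_inf_centralizer.mp hw
  obtain ⟨hw3, hw4⟩ := mem_inf_centralizer.mp hw1
  rw [hxw, hfpf w hw3 hw4 hw2, mul_one, hi.2]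

/-- Brauer–Wielandt without common fixed points. -/
theorem card_eq_mul : Nat.card (K ⊓ centralizer ({a} : Set G) : Subgroup G) *
    Nat.card (K ⊓ centralizer ({b} : Set G) : Subgroup G) *
    Nat.card (K ⊓ centralizer ({a * b} : Set G) : Subgroup G) = Nat.card K := by
  have hfpf' : ∀ x ∈ K, b * x * b⁻¹ = x → a * x * a⁻¹ = x → x = 1 := fun x hx h1 h2 =>
    hfpf x hx h2 h1
  have hB : ∀ x ∈ K ⊓ centralizer ({b} : Set G), x ∈ invSet a K ∧ b * x * b⁻¹ = x := fun x hx =>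
    let h := mem_inf_centralizer.mp hx
    ⟨⟨h.1, inverts_fixed_fst hb ha hab.symm hK hbK haK hfpf' h.1 h.2⟩, h.2⟩
  have hC : ∀ x, x ∈ K ⊓ centralizer ({a * b} : Set G) ↔ x ∈ invSet a K ∧ b * x * b⁻¹ = x⁻¹ := by
    intro x
    rw [mem_inf_centralizer]
    constructor
    · rintro ⟨hx, h⟩
      have hi : a * x * a⁻¹ = x⁻¹ := by
        refine inverts_fixed_fst (a := a * b) (b := a) ?_ ha ?_ hK ?_ haK ?_ hx h
        · calc a * b * (a * b) = a * (b * a) * b := by group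
            _ = (a * a) * (b * b) := by rw [← hab]; group
            _ = 1 := by rw [ha, hb, one_mul]
        · rw [mul_assoc, ← hab]
        · intro y hy
          rw [show a * b * y * (a * b)⁻¹ = a * (b * y * b⁻¹) * a⁻¹ by group]
          exact haK _ (hbK y hy)
        · intro y hy h1 h2
          refine hfpf y hy h2 ?_
          have h3 : b * y * b⁻¹ = a⁻¹ * (a * b * y * (a * b)⁻¹) * a := by group
          rw [h3, h1]
          calc a⁻¹ * y * a = a⁻¹ * (a * y * a⁻¹) * a := by rw [h2]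
            _ = y := by group
      refine ⟨⟨hx, hi⟩, ?_⟩
      calc b * x * b⁻¹ = a⁻¹ * (a * b * x * (a * b)⁻¹) * a := by group
        _ = a⁻¹ * x * a := by rw [h]
        _ = a * x * a⁻¹ := by rw [inv_eq_of_mul_eq_one_right ha]
        _ = x⁻¹ := hi
    · rintro ⟨⟨hx, hi⟩, h⟩
      refine ⟨hx, ?_⟩
      calc a * b * x * (a * b)⁻¹ = (a * x * a⁻¹)⁻¹ := by
            rw [show a * b * x * (a * b)⁻¹ = a * (b * x * b⁻¹) * a⁻¹ by group, h]; group
        _ = x := by rw [hi, inv_inv]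
  rw [mul_assoc, ← Nat.card_prod, ← card_invSet_mul ha hK haK, mul_comm]
  congr 1
  refine Nat.card_eq_of_bijective
    (fun p => (⟨(p.1 : G) * p.2 * p.1, ?_⟩ : invSet a K)) ⟨?_, ?_⟩
  · obtain ⟨⟨h1, h2⟩, -⟩ := hB _ p.1.2
    obtain ⟨⟨h4, h5⟩, -⟩ := (hC _).mp p.2.2
    refine ⟨mul_mem (mul_mem h1 h4) h1, ?_⟩
    calc a * ((p.1 : G) * p.2 * p.1) * a⁻¹
        = (a * p.1 * a⁻¹) * (a * p.2 * a⁻¹) * (a * p.1 * a⁻¹) := by group
      _ = _ := by rw [h2, h5]; group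
  · rintro ⟨u, v⟩ ⟨u₁, v₁⟩ h
    obtain ⟨h1, h2⟩ := hB _ u.2
    obtain ⟨h3, h4⟩ := (hC _).mp v.2
    obtain ⟨h5, h6⟩ := hB _ u₁.2
    obtain ⟨h7, h8⟩ := (hC _).mp v₁.2
    obtain ⟨e1, e2⟩ := uvu_unique hb hK h1 h2 h3 h4 h5 h6 h7 h8 (congrArg Subtype.val h)
    exact Prod.ext (Subtype.ext e1) (Subtype.ext e2)
  · intro x
    obtain ⟨u, hu, hub, v, hv, hvb, hxe⟩ := exists_uvu ha hb hab hK haK hbK x.2
    exact ⟨(⟨u, mem_inf_centralizer.mpr ⟨hu.1, hub⟩⟩, ⟨v, (hC v).mpr ⟨hv, hvb⟩⟩),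
      Subtype.ext hxe.symm⟩

/-- `K` is generated by the three fixed-point subgroups. -/
theorem le_of_fixed_le {L : Subgroup G} (h₁ : K ⊓ centralizer ({a} : Set G) ≤ L)
    (h₂ : K ⊓ centralizer ({b} : Set G) ≤ L) (h₃ : K ⊓ centralizer ({a * b} : Set G) ≤ L) :
    K ≤ L := by
  intro x hx
  obtain ⟨i, hi, w, hw, rfl⟩ := exists_inv_mul_fixed ha hK haK hx
  refine mul_mem ?_ (h₁ hw)
  obtain ⟨u, hu, hub, v, hv, hvb, rfl⟩ := exists_uvu ha hb hab hK haK hbK hi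
  have hu' : u ∈ L := h₂ (mem_inf_centralizer.mpr ⟨hu.1, hub⟩)
  refine mul_mem (mul_mem hu' (h₃ (mem_inf_centralizer.mpr ⟨hv.1, ?_⟩))) hu'
  calc a * b * v * (a * b)⁻¹ = (a * v * a⁻¹)⁻¹ := by
        rw [show a * b * v * (a * b)⁻¹ = a * (b * v * b⁻¹) * a⁻¹ by group, hvb]; group
    _ = v := by rw [hv.2, inv_inv]

end Fpf

end Cfsg.Agent.GenDih45
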