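import Cfsg.Agent.GenDih45.CaseB
import Cfsg.Agent.S1220
import Cfsg.Agent.TwoFusionB.StronglyEmbedded
import Cfsg.Agent.Lib.Involution.StronglyEmbedded
import Cfsg.Agent.Lib.Involution.IndexTwo

/-!
# Centralisers of elements of odd order in `O(C(a))`

In a group without nontrivial odd normal subgroup, with one class of involutions and involution
centralisers of generalised dihedral shape, an element `≠ 1` of `O(C(a))` has its centraliser in
`C(a)`.
-/

set_option autoImplicit false

namespace Cfsg.Agent.GenDih45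

open Subgroup

variable {G : Type*} [Group G] [Finite G]

theorem not_pair_in_quaternion {n : ℕ} {x y : QuaternionGroup n} [NeZero n] (hx : x * x = 1) (hy : y * y = 1)
    (hx1 : x ≠ 1) (hy1 : y ≠ 1) : x = y := by
  have h : ∀ z : QuaternionGroup n, z * z = 1 → z ≠ 1 → z = QuaternionGroup.a (n : ZMod (2 * n)) := by
    rintro (i | i) hz hz1
    · rw [QuaternionGroup.a_mul_a, QuaternionGroup.one_def, QuaternionGroup.a.injEq] at hz
      congr 1
      have hn : 0 < n := Nat.pos_of_ne_zero (NeZero.ne n)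
      have h1 : ((2 * i.val : ℕ) : ZMod (2 * n)) = 0 := by
        push_cast
        rw [ZMod.natCast_zmod_val]; linear_combination hz
      obtain ⟨k, hk⟩ := (ZMod.natCast_eq_zero_iff _ _).mp h1
      have hlt := ZMod.val_lt i
      have hk2 : k = 0 ∨ k = 1 := by
        rcases k with _ | _ | k
        · exact Or.inl rfl
        · exact Or.inr rfl
        · exfalso; nlinarith
      rcases hk2 with rfl | rfl
      · exfalso
        apply hz1
        rw [QuaternionGroup.one_def, QuaternionGroup.a.injEq, ← ZMod.natCast_zmod_val i,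
          show i.val = 0 by omega, Nat.cast_zero]
      · rw [← ZMod.natCast_zmod_val i, show i.val = n by omega]
    · exfalso
      rw [QuaternionGroup.xa_mul_xa, QuaternionGroup.one_def, QuaternionGroup.a.injEq] at hz
      have hn : 0 < n := Nat.pos_of_ne_zero (NeZero.ne n)
      have h1 : ((n : ℕ) : ZMod (2 * n)) = 0 := by linear_combination hz
      have h2 := Nat.le_of_dvd hn ((ZMod.natCast_eq_zero_iff _ _).mp h1)
      omega
  rw [h x hx hx1, h y hy hy1]

namespace Uni

variable (hU : Uni G)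

include hU

theorem stronglyEmbedded {a : G} {M : Subgroup G} (hM : M ≠ ⊤) {b : G} (V : Pair a b)
    (hCM : cent a ≤ M)
    (hfus : ∀ f, Pair a f → ∃ y ∈ M, y * a * y⁻¹ = f ∧ y * f * y⁻¹ = a * f) :
    Cfsg.IsStronglyEmbedded M := by
  haveI : Fact (Nat.Prime 2) := ⟨Nat.prime_two⟩
  have haM : a ∈ M := hCM (mem_cent.mpr rfl)
  have hbM : b ∈ M := hCM (mem_cent.mpr V.comm.symm)
  obtain ⟨y, hyM, hy₁, hy₂⟩ := hfus b V
  set S := closure ({a, b} : Set G) with hS
  have hSM : S ≤ M := (closure_le M).mpr (by rintro x (rfl | rfl) <;> assumption)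
  obtain ⟨P, hP⟩ := ((isPGroup_pair V).of_equiv (subgroupOfEquivOfLe hSM).symm).exists_le_sylow
  have haP : a ∈ (P : Subgroup M).map M.subtype :=
    ⟨⟨a, haM⟩, hP (show a ∈ S from subset_closure (by simp)), rfl⟩
  have hbP : b ∈ (P : Subgroup M).map M.subtype :=
    ⟨⟨b, hbM⟩, hP (show b ∈ S from subset_closure (by simp)), rfl⟩
  obtain ⟨j, hjP, hj, hjc⟩ := exists_central_involution (P.isPGroup'.map M.subtype)
    (fun h => ne_one_of_two V.he (mem_bot.mp (h ▸ haP)))
  obtain ⟨w, hwM, hwj⟩ : ∃ w ∈ M, w * j * w⁻¹ = a := by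
    rcases hU.four_cent V (hjc a haP).symm (hjc b hbP).symm with h | h | h | h
    · exact absurd h (ne_one_of_two hj)
    · exact ⟨1, one_mem _, by simp [h]⟩
    · exact ⟨y⁻¹, inv_mem hyM, by rw [h, ← hy₁]; group⟩
    · exact ⟨(y * y)⁻¹, inv_mem (mul_mem hyM hyM), by rw [h, ← hy₂, ← hy₁]; group⟩
  have key : ∀ t ∈ M, orderOf t = 2 → ∃ m ∈ M, m * a * m⁻¹ = t := by
    intro t htM ht
    have hp : IsPGroup 2 (zpowers (⟨t, htM⟩ : M)) := IsPGroup.of_card (n := 1)
      (by rw [Nat.card_zpowers, Subgroup.orderOf_mk, ht, pow_one])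
    obtain ⟨P', hP'⟩ := hp.exists_le_sylow
    obtain ⟨c, hc⟩ := MulAction.exists_smul_eq M P' P
    have htP : (c : G) * t * (c : G)⁻¹ ∈ (P : Subgroup M).map M.subtype := by
      refine ⟨c * ⟨t, htM⟩ * c⁻¹, ?_, rfl⟩
      rw [← hc, Sylow.coe_subgroup_smul]
      exact ⟨⟨t, htM⟩, hP' (mem_zpowers _), rfl⟩
    set t' := w * ((c : G) * t * (c : G)⁻¹) * w⁻¹ with ht'
    have ht'a : t' * a = a * t' := by
      rw [ht', ← hwj]
      calc w * ((c : G) * t * (c : G)⁻¹) * w⁻¹ * (w * j * w⁻¹)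
          = w * ((c : G) * t * (c : G)⁻¹ * j) * w⁻¹ := by group
        _ = _ := by rw [hjc _ htP]; group
    have ht'2 : orderOf t' = 2 := by rw [ht', orderOf_conj', orderOf_conj', ht]
    by_cases h : t' = a
    · exact ⟨(w * c)⁻¹, inv_mem (mul_mem hwM c.2), by rw [← h, ht']; group⟩
    · obtain ⟨y', hy'M, h1, -⟩ := hfus t' ⟨V.he, ht'2, ht'a.symm, Ne.symm h⟩
      exact ⟨(w * c)⁻¹ * y', mul_mem (inv_mem (mul_mem hwM c.2)) hy'M, by
        rw [show (w * (c : G))⁻¹ * y' * a * ((w * (c : G))⁻¹ * y')⁻¹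
          = (w * (c : G))⁻¹ * (y' * a * y'⁻¹) * (w * (c : G)) by group, h1, ht']; group⟩
  rw [Involution.stronglyEmbedded_iff_centralizers hM
    (Involution.even_card_of_involution haM V.he)]
  refine ⟨fun t ht ho g hg => ?_, fun t ht s hs hto hso _ => ?_⟩
  · obtain ⟨m, hm, rfl⟩ := key t ht ho
    rw [mem_centralizer_singleton_iff] at hg
    have h : m⁻¹ * g * m ∈ cent a := by
      rw [mem_cent]
      calc m⁻¹ * g * m * a = m⁻¹ * (g * (m * a * m⁻¹)) * m := by group
        _ = _ := by rw [hg]; group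
    have := mul_mem (mul_mem hm (hCM h)) (inv_mem hm)
    simpa [mul_assoc] using this
  · obtain ⟨m, hm, rfl⟩ := key t ht hto
    obtain ⟨n, hn, rfl⟩ := key s hs hso
    exact ⟨n * m⁻¹, mul_mem hn (inv_mem hm), by group⟩

/-- A strongly embedded subgroup containing `C(a)` is incompatible with a nontrivial `O(C(a))`. -/
theorem false_of_stronglyEmbedded (hO : ∀ N : Subgroup G, N.Normal → Odd (Nat.card N) → N = ⊥)
    {a b : G} {M : Subgroup G} (hse : Cfsg.IsStronglyEmbedded M) (V : Pair a b) (hCM : cent a ≤ M)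
    {x : G} (hx : x ∈ O a) (hx1 : x ≠ 1) : False := by
  haveI : Fact (Nat.Prime 2) := ⟨Nat.prime_two⟩
  obtain ⟨hMtop, -, -⟩ := Involution.stronglyEmbedded_iff.mp hse
  have htwo : ∀ g₁ g₂ : G, g₁ ∉ M → g₂ ∉ M → ∃ h ∈ M, g₂⁻¹ * (h * g₁) ∈ M := by
    refine (S1220.result M hse).resolve_right ?_
    rintro ⟨hS, -⟩
    obtain ⟨P, hP⟩ := (isPGroup_pair V).exists_le_sylow
    have haP : a ∈ (P : Subgroup G) := hP (subset_closure (by simp))
    have hbP : b ∈ (P : Subgroup G) := hP (subset_closure (by simp))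
    have ha2 : orderOf (⟨a, haP⟩ : (P : Subgroup G)) = 2 := by rw [Subgroup.orderOf_mk, V.he]
    have hb2 : orderOf (⟨b, hbP⟩ : (P : Subgroup G)) = 2 := by rw [Subgroup.orderOf_mk, V.hf]
    rcases hS P with h | ⟨m, -, ⟨e⟩⟩
    · haveI : IsCyclic (P : Subgroup G) := h
      exact V.ne (congrArg Subtype.val (Involution.involution_unique_of_isCyclic ha2 hb2))
    · haveI : NeZero (2 ^ m) := ⟨pow_ne_zero _ two_ne_zero⟩
      have := not_pair_in_quaternion (x := e ⟨a, haP⟩) (y := e ⟨b, hbP⟩)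
        (by rw [← map_mul, mul_self_of_two ha2, map_one])
        (by rw [← map_mul, mul_self_of_two hb2, map_one])
        (by simpa using ne_one_of_two ha2) (by simpa using ne_one_of_two hb2)
      exact V.ne (congrArg Subtype.val (e.injective this))
  set o : G ⧸ M := ((1 : G) : G ⧸ M) with ho
  have hfo : ∀ {g : G}, g • o = o ↔ g ∈ M := TwoFusionB.smul_one_eq_iff
  obtain ⟨u₀, hu₀, hu₀M⟩ : ∃ u : G, orderOf u = 2 ∧ u ∉ M := by
    by_contra hcon
    push Not at hcon
    obtain ⟨g, hg⟩ := not_forall.mp fun h => hMtop (eq_top_iff.mpr fun g _ => h g)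
    refine hg ((Involution.stronglyEmbedded_iff.mp hse).2.2 g a (hCM (mem_cent.mpr rfl)) V.he
      (hcon _ ?_))
    rw [orderOf_conj', V.he]
  have hq₀ : u₀ • o ≠ o := fun h => hu₀M (hfo.mp h)
  -- elements commuting with an involution and fixing a further point are trivial
  have hkey₀ : ∀ t ∈ M, orderOf t = 2 → ∀ d, Odd (orderOf d) → d * t = t * d →
      ∀ q : G ⧸ M, q ≠ o → d • q = q → d = 1 := by
    intro t htM ht d hdo hdt q hq hdq
    have hdO : d ∈ O t := (hU.mem_O ht).mpr ⟨hdt, hdo⟩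
    have hCt : cent t ≤ M := fun g hg =>
      ((Involution.stronglyEmbedded_iff_centralizers hMtop
        (Involution.even_card_of_involution htM ht)).mp hse).1 t htM ht hg
    -- `C(t)` is transitive on the other points
    have horb : ∀ r : G ⧸ M, r ≠ o → ∃ c, c * t = t * c ∧ c • (u₀ • o) = r := by
      intro r hr
      obtain ⟨g, rfl⟩ := QuotientGroup.mk_surjective r
      have hg : g ∉ M := fun h => hr (by rw [ho, QuotientGroup.eq]; simpa using h)
      obtain ⟨m, hm, hmg⟩ := htwo u₀ g hu₀M hg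
      have hne : (u₀ : G) • o ≠ o := hq₀
      -- factor `m` as a centralising element times one fixing both points
      obtain ⟨δ, hδu, hδo, hδ⟩ := TwoFusionB.exists_conj_fix hse hne ht (hfo.mpr htM)
        (show orderOf (m⁻¹ * t * m⁻¹⁻¹) = 2 by rw [orderOf_conj', ht])
        (hfo.mpr (mul_mem (mul_mem (inv_mem hm) htM) (by simpa using hm)))
      refine ⟨m * δ, ?_, ?_⟩
      · have h1 : δ * t * δ⁻¹ = m⁻¹ * t * m⁻¹⁻¹ := hδ
        calc m * δ * t = m * (δ * t * δ⁻¹) * δ := by group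
          _ = _ := by rw [h1]; group
      · rw [mul_smul, hδu, ho, MulAction.Quotient.smul_coe, MulAction.Quotient.smul_coe]
        show ((m * (u₀ * 1) : G) : G ⧸ M) = (g : G ⧸ M)
        rw [eq_comm, QuotientGroup.eq, mul_one]
        exact hmg
    have hstep : ∀ r : G ⧸ M, r ≠ o → (d • r = r ↔ d • (u₀ • o) = u₀ • o) := by
      intro r hr
      obtain ⟨c, hc, rfl⟩ := horb r hr
      have h : c⁻¹ * d * c = d ∨ c⁻¹ * d * c = d⁻¹ := by
        have hc' : c⁻¹ * t = t * c⁻¹ := by
          rw [inv_mul_eq_iff_eq_mul, ← mul_assoc, hc, mul_inv_cancel_right]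
        simpa using hU.conj_pm ht hdO hc'
      have hiff : d • (c • (u₀ • o)) = c • (u₀ • o) ↔ (c⁻¹ * d * c) • (u₀ • o) = u₀ • o := by
        rw [mul_smul, mul_smul, inv_smul_eq_iff]
      rw [hiff]
      rcases h with h | h <;> rw [h]
      rw [inv_smul_eq_iff, eq_comm]
    have hall : ∀ r : G ⧸ M, d • r = r := by
      intro r
      by_cases hr : r = o
      · rw [hr]; exact hfo.mpr (hCt (mem_cent.mpr hdt))
      · exact (hstep r hr).mpr ((hstep q hq).mp hdq)
    have hcore : d ∈ M.normalCore := fun g => by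
      have h := hall ((g⁻¹ : G) : G ⧸ M)
      rw [MulAction.Quotient.smul_coe, eq_comm, QuotientGroup.eq, inv_inv] at h
      show g * d * g⁻¹ ∈ M
      simpa [mul_assoc] using h
    have hodd : Odd (Nat.card M.normalCore) := by
      rw [← Nat.not_even_iff_odd]
      intro he
      obtain ⟨t', ht'N, ht'⟩ := Involution.exists_involution_of_even he
      obtain ⟨g, hg⟩ := isConj_iff.mp (hU.conj t' u₀ ht' hu₀)
      exact hu₀M (M.normalCore_le (hg ▸ (normalCore_normal M).conj_mem t' ht'N g))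
    have hbot := hO _ (normalCore_normal M) hodd
    rw [hbot, mem_bot] at hcore
    exact hcore
  have hkey : ∀ t : G, orderOf t = 2 → ∀ p : G ⧸ M, t • p = p → ∀ d, Odd (orderOf d) →
      d * t = t * d → ∀ q : G ⧸ M, q ≠ p → d • q = q → d = 1 := by
    intro t ht p htp d hdo hdt q hqp hdq
    obtain ⟨g, rfl⟩ := QuotientGroup.mk_surjective p
    have h1 : g⁻¹ * t * g ∈ M := by
      rw [MulAction.Quotient.smul_coe, eq_comm, QuotientGroup.eq] at htp
      simpa [mul_assoc] using htp
    have h := hkey₀ (g⁻¹ * t * g) h1 (by simpa using (orderOf_conj' g⁻¹ t).trans ht) (g⁻¹ * d * g)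
      (by
        have h := orderOf_conj' g⁻¹ d
        rw [inv_inv] at h
        rwa [h]) (by
        calc g⁻¹ * d * g * (g⁻¹ * t * g) = g⁻¹ * (d * t) * g := by group
          _ = _ := by rw [hdt]; group)
      (g⁻¹ • q) (fun h => hqp (by
        rw [inv_smul_eq_iff] at h
        rw [h, ho, MulAction.Quotient.smul_coe]
        exact congrArg QuotientGroup.mk (mul_one g)))
      (by rw [← mul_smul, mul_assoc, mul_inv_cancel, mul_one, mul_smul, hdq])
    have : d = g * (g⁻¹ * d * g) * g⁻¹ := by group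
    rw [this, h]; group
  -- the two-point stabiliser
  set D : Subgroup G := MulAction.stabilizer G o ⊓ MulAction.stabilizer G (u₀ • o) with hD
  have hDmem : ∀ {d}, d ∈ D ↔ d • o = o ∧ d • (u₀ • o) = u₀ • o := Iff.rfl
  have hDodd : Odd (Nat.card D) := by
    rw [← Nat.not_even_iff_odd]
    intro he
    obtain ⟨t, htD, ht⟩ := Involution.exists_involution_of_even he
    exact hq₀ (TwoFusionB.fix_unique hse ht (hDmem.mp htD).2 (hDmem.mp htD).1)
  have huu := mul_self_of_two hu₀
  have huD : ∀ d ∈ D, u₀ * d * u₀⁻¹ ∈ D := by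
    intro d hd
    obtain ⟨h1, h2⟩ := hDmem.mp hd
    rw [inv_of_two hu₀]
    refine hDmem.mpr ⟨?_, ?_⟩
    · rw [mul_smul, mul_smul, h2, ← mul_smul, huu, one_smul]
    · rw [mul_smul, mul_smul, ← mul_smul u₀ u₀ o, huu, one_smul, h1]
  have hinv : ∀ d ∈ D, u₀ * d * u₀⁻¹ = d⁻¹ := by
    intro d hd
    obtain ⟨i, hi, w, hw, rfl⟩ := exists_inv_mul_fixed huu hDodd huD hd
    obtain ⟨hwD, hwu⟩ := mem_inf_centralizer.mp hw
    obtain ⟨p, hp⟩ := TwoFusionB.exists_fix hse hu₀
    have hpo : o ≠ p := fun h => hq₀ (h ▸ hp)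
    rw [hkey u₀ hu₀ p hp w (odd_orderOf_of_mem hDodd hwD)
      (mul_inv_eq_iff_eq_mul.mp hwu).symm o hpo (hDmem.mp hwD).1, mul_one, hi.2]
  have hDcomm : ∀ d ∈ D, ∀ e ∈ D, d * e = e * d := by
    intro d hd e he
    have h := hinv _ (mul_mem hd he)
    rw [show u₀ * (d * e) * u₀⁻¹ = (u₀ * d * u₀⁻¹) * (u₀ * e * u₀⁻¹) by group, hinv d hd,
      hinv e he, ← mul_inv_rev] at h
    exact (inv_injective h).symm
  have haM : a ∈ M := hCM (mem_cent.mpr rfl)
  have hfree : ∀ d ∈ D, d * a * d⁻¹ = a → d = 1 := fun d hd h =>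
    hkey a V.he o (hfo.mpr haM) d (odd_orderOf_of_mem hDodd hd) (mul_inv_eq_iff_eq_mul.mp h)
      (u₀ • o) hq₀ (hDmem.mp hd).2
  -- each four-group through `a` is cycled by an element of `D`
  have hcyc : ∀ f, Pair a f → ∃ d ∈ D, d * a * d⁻¹ = f ∧ d * f * d⁻¹ = a * f ∧
      d * (a * f) * d⁻¹ = a := by
    intro f W
    have hfM : f ∈ M := hCM (mem_cent.mpr W.comm.symm)
    obtain ⟨d, h1, h2, h3⟩ := TwoFusionB.exists_conj_fix hse hq₀ W.he (hfo.mpr haM) W.hf
      (hfo.mpr hfM)
    obtain ⟨e, e1, e2, e3⟩ := TwoFusionB.exists_conj_fix hse hq₀ W.he (hfo.mpr haM) W.two_mul'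
      (hfo.mpr (mul_mem haM hfM))
    have hdD : d ∈ D := hDmem.mpr ⟨h2, h1⟩
    have heD : e ∈ D := hDmem.mpr ⟨e2, e1⟩
    have hde := hDcomm d hdD e heD
    set g := e * d * a * (e * d)⁻¹ with hg
    have hg1 : g = e * f * e⁻¹ := by rw [hg, ← h3]; group
    have hg2 : g = d * (a * f) * d⁻¹ := by rw [hg, ← hde, ← e3]; group
    have hgb : g * f = f * g := by
      rw [hg2]
      calc d * (a * f) * d⁻¹ * f = d * (a * f) * d⁻¹ * (d * a * d⁻¹) := by rw [h3]
        _ = d * (a * f * a) * d⁻¹ := by group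
        _ = d * (a * (a * f)) * d⁻¹ := by rw [mul_assoc a f a, ← W.comm]
        _ = (d * a * d⁻¹) * (d * (a * f) * d⁻¹) := by group
        _ = _ := by rw [h3]
    have hgc : g * (a * f) = a * f * g := by
      rw [hg1]
      calc e * f * e⁻¹ * (a * f) = e * f * e⁻¹ * (e * a * e⁻¹) := by rw [e3]
        _ = e * (f * a) * e⁻¹ := by group
        _ = e * (a * f) * e⁻¹ := by rw [← W.comm]
        _ = (e * a * e⁻¹) * (e * f * e⁻¹) := by group
        _ = _ := by rw [e3]
    have hed : e * d = 1 := by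
      rcases hU.four_cent W.rot hgb hgc with h | h | h | h
      · exact absurd (conj_eq_one_iff.mp (hg ▸ h)) (ne_one_of_two V.he)
      · exfalso
        have : e = 1 := hfree e heD (by
          have h' : e * f * e⁻¹ = d * a * d⁻¹ := by rw [← hg1, h, h3]
          apply (MulAut.conj d).injective
          show d * (e * a * e⁻¹) * d⁻¹ = d * a * d⁻¹
          rw [← h', ← h3]
          calc d * (e * a * e⁻¹) * d⁻¹ = (d * e) * a * (d * e)⁻¹ := by group
            _ = e * (d * a * d⁻¹) * e⁻¹ := by rw [hde]; group)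
        apply ne_one_of_two W.hf
        rw [this, one_mul, inv_one, mul_one, left_eq_mul] at e3
        exact e3
      · exfalso
        have : d = 1 := hfree d hdD (by
          have h' : d * (a * f) * d⁻¹ = e * a * e⁻¹ := by rw [← hg2, h, e3]
          apply (MulAut.conj e).injective
          show e * (d * a * d⁻¹) * e⁻¹ = e * a * e⁻¹
          rw [← h', ← e3]
          calc e * (d * a * d⁻¹) * e⁻¹ = (e * d) * a * (e * d)⁻¹ := by group
            _ = d * (e * a * e⁻¹) * d⁻¹ := by rw [← hde]; group)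
        apply W.ne
        rw [this, one_mul, inv_one, mul_one] at h3
        exact h3
      · refine hfree _ (mul_mem heD hdD) ?_
        rw [← hg, h, show f * (a * f) = a by
          rw [W.comm, ← mul_assoc, mul_self_of_two W.hf, one_mul]]
    have hd3 : d * (a * f) * d⁻¹ = a := by
      rw [← hg2, hg, hed]; group
    refine ⟨d, hdD, h3, ?_, hd3⟩
    have h4 : (d * a * d⁻¹) * (d * f * d⁻¹) = a := by
      rw [show d * a * d⁻¹ * (d * f * d⁻¹) = d * (a * f) * d⁻¹ by group, hd3]
    rw [h3] at h4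
    calc d * f * d⁻¹ = f⁻¹ * (f * (d * f * d⁻¹)) := by group
      _ = f * a := by rw [h4, inv_of_two W.hf]
      _ = a * f := W.comm.symm
  -- two four-groups through `a` coincide
  have hone : ∀ f, Pair a f → f * b = b * f := by
    intro b' W
    obtain ⟨d, hd, d1, d2, d3⟩ := hcyc b V
    obtain ⟨f, hf, f1, f2, f3⟩ := hcyc b' W
    have hdf : d * f = f * d := hDcomm d hd f hf
    set P := f * b * f⁻¹ with hP
    have hPd : P = d * b' * d⁻¹ := by
      rw [hP, ← d1, ← f1]
      calc f * (d * a * d⁻¹) * f⁻¹ = (f * d) * a * (f * d)⁻¹ := by group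
        _ = _ := by rw [← hdf]; group
    have E1 : b * P = (f * f) * b * (f * f)⁻¹ := by
      rw [hPd]
      calc b * (d * b' * d⁻¹) = d * (a * b') * d⁻¹ := by rw [← d1]; group
        _ = d * (f * (f * a * f⁻¹) * f⁻¹) * d⁻¹ := by rw [f1, f2]
        _ = (d * (f * f)) * a * (d * (f * f))⁻¹ := by group
        _ = ((f * f) * d) * a * ((f * f) * d)⁻¹ := by
          rw [show d * (f * f) = f * f * d by rw [← mul_assoc, hdf, mul_assoc, hdf, mul_assoc]]
        _ = (f * f) * (d * a * d⁻¹) * (f * f)⁻¹ := by group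
        _ = _ := by rw [d1]
    have E2 : b' * P = f * (a * b) * f⁻¹ := by rw [hP, ← f1]; group
    have E3 : (a * b') * ((f * f) * b * (f * f)⁻¹) = (f * f) * (a * b) * (f * f)⁻¹ := by
      have h5 : a * b' = (f * f) * a * (f * f)⁻¹ := by
        rw [show f * f * a * (f * f)⁻¹ = f * (f * a * f⁻¹) * f⁻¹ by group, f1, f2]
      rw [h5]; group
    have E4 : (a * b) * (f * (a * b) * f⁻¹) = (f * f) * (a * b) * (f * f)⁻¹ := by
      have h5 : a * b = (d * d) * a * (d * d)⁻¹ := by
        rw [show d * d * a * (d * d)⁻¹ = d * (d * a * d⁻¹) * d⁻¹ by group, d1, d2]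
      have hdd : f * (d * d) = d * d * f := by rw [← mul_assoc, ← hdf, mul_assoc, ← hdf, mul_assoc]
      have hdd2 : f * f * (d * d) = d * d * (f * f) := by
        rw [mul_assoc f f (d * d), hdd, ← mul_assoc, hdd, mul_assoc]
      calc a * b * (f * (a * b) * f⁻¹)
          = (d * d) * a * (d * d)⁻¹ * ((f * (d * d)) * a * (f * (d * d))⁻¹) := by rw [h5]; group
        _ = (d * d) * (a * (f * a * f⁻¹)) * (d * d)⁻¹ := by rw [hdd]; group
        _ = (d * d) * (f * (f * a * f⁻¹) * f⁻¹) * (d * d)⁻¹ := by rw [f1, f2]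
        _ = (d * d * (f * f)) * a * (d * d * (f * f))⁻¹ := by group
        _ = (f * f) * ((d * d) * a * (d * d)⁻¹) * (f * f)⁻¹ := by rw [← hdd2]; group
        _ = _ := by rw [← h5]
    have h6 : a * b' * (b * P) = a * b * (b' * P) := by rw [E1, E3, E2, E4]
    have h7 : a * (b' * b) * P = a * (b * b') * P := by
      calc a * (b' * b) * P = a * b' * (b * P) := by group
        _ = a * b * (b' * P) := h6
        _ = _ := by group
    exact mul_left_cancel (mul_right_cancel h7)
  have hxa := ((hU.mem_O V.he).mp hx)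
  have W : Pair a (x * b * x⁻¹) := by
    have h := V.conj x
    rwa [show x * a * x⁻¹ = a by rw [hxa.1, mul_inv_cancel_right]] at h
  have hbb := hone _ W
  have hxb := hU.inverts V hx
  rcases hU.four_cent V W.comm.symm hbb with h | h | h | h
  · exact ne_one_of_two V.hf (conj_eq_one_iff.mp h)
  · exact W.ne h.symm
  · exact hx1 (hU.four_cent_odd V hxa.1 (mul_inv_eq_iff_eq_mul.mp h) hxa.2)
  · have h7 : x * x = a := by
      refine mul_right_cancel (b := b) ?_
      rw [← h]
      calc x * x * b = x * (x⁻¹)⁻¹ * b := by rw [inv_inv]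
        _ = x * (b * x * b⁻¹)⁻¹ * b := by rw [hxb]
        _ = _ := by group
    have h8 : Odd (orderOf (x * x)) := by
      rw [← sq, Nat.Coprime.orderOf_pow (Nat.coprime_two_right.mpr hxa.2)]; exact hxa.2
    rw [h7, V.he] at h8
    exact absurd h8 (by decide)

/-- **The main theorem**: the centraliser of a nontrivial element of `O(C(a))` lies in `C(a)`. -/
theorem cent_le (hO : ∀ N : Subgroup G, N.Normal → Odd (Nat.card N) → N = ⊥)
    {a : G} (ha : orderOf a = 2) {x : G} (hx : x ∈ O a) (hx1 : x ≠ 1) : cent x ≤ cent a := by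
  by_contra hnle
  obtain ⟨b, V⟩ := hU.pair_of_shape ha
  have hxo := (hU.mem_O ha).mp hx
  set X := oddPart (cent x) with hX
  have hXodd : Odd (Nat.card X) := hU.odd_cent hxo.2 hx1
  have hXi : Inv a b X := inv_of_cent V fun g hg => hU.cent_normalizes ha hx hg
  -- some odd part reaches another axis
  obtain ⟨d, hd, hda, hdne⟩ : ∃ d, Ax a b d ∧ d ≠ a ∧ X ⊓ cent d ≠ ⊥ := by
    by_contra hcon
    push Not at hcon
    apply hnle
    have hXa : X ≤ cent a := by
      have F := hU.fourAct V hXodd hXi.le₁ hXi.le₂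
      exact le_of_fixed_le F.ha F.hb F.hab F.odd F.haK F.hbK F.fpf inf_le_right
        ((hcon b (Or.inr (Or.inl rfl)) V.ne.symm).le.trans bot_le)
        ((hcon _ (Or.inr (Or.inr rfl)) fun h => ne_one_of_two V.hf (mul_eq_left.mp h)).le.trans
          bot_le)
    intro g hg
    rw [mem_cent] at hg ⊢
    set a' := g * a * g⁻¹ with ha'
    have hax : Commute a x := hxo.1.symm
    have ha'x : Commute a' x := by
      have hgc : Commute g x := hg
      exact (hgc.mul_left hax).mul_left hgc.inv_left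
    have ha'2 : orderOf a' = 2 := by rw [ha', orderOf_conj', ha]
    have hfix : ∀ k, orderOf k = 2 → k * a = a * k → Commute k x → k = a := by
      intro k hk hka hkx
      by_contra hne
      exact hx1 (hU.four_cent_odd ⟨ha, hk, hka.symm, Ne.symm hne⟩ hxo.1 hkx.eq.symm hxo.2)
    suffices hsuff : a' * a = a * a' by
      exact mul_inv_eq_iff_eq_mul.mp (hfix a' ha'2 hsuff ha'x)
    set r := a * a' with hr
    have hrx : Commute r x := hax.mul_left ha'x
    rcases Nat.even_or_odd (orderOf r) with hev | hodd'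
    · obtain ⟨m, hm⟩ := hev
      have hm0 : 0 < m := by have := orderOf_pos r; omega
      have hk : orderOf (r ^ m) = 2 := by
        rw [orderOf_pow_of_dvd hm0.ne' ⟨2, by omega⟩, hm, ← two_mul, Nat.mul_div_cancel _ hm0]
      have hinvr : ∀ n : ℕ, a * r ^ n * a⁻¹ = (r ^ n)⁻¹ := fun n => by
        rw [← conj_pow, show a * r * a⁻¹ = r⁻¹ by
          rw [hr, mul_inv_rev, inv_of_two ha, inv_of_two ha'2, ← mul_assoc a a a',
            mul_self_of_two ha, one_mul], inv_pow]
      have hka : r ^ m * a = a * r ^ m := by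
        have h := hinvr m
        rw [inv_of_two hk, mul_inv_eq_iff_eq_mul] at h
        exact h.symm
      have h1 := hfix _ hk hka (hrx.pow_left m)
      have h2 : r * a = a * r := by
        rw [← h1, ← pow_succ', ← pow_succ]
      rw [hr] at h2
      calc a' * a = a⁻¹ * (a * a' * a) := by group
        _ = a⁻¹ * (a * (a * a')) := by rw [h2]
        _ = a * a' := by group
    · have h1 := mem_cent.mp (hXa (mem_oddPart_of (mem_cent.mpr hrx.eq) hodd'))
      rw [hr] at h1
      calc a' * a = a⁻¹ * (a * a' * a) := by group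
        _ = a⁻¹ * (a * (a * a')) := by rw [h1]
        _ = a * a' := by group
  obtain ⟨r, hr, hrd⟩ := Nat.exists_prime_and_dvd (fun h => hdne (eq_bot_of_card_eq _ h))
  haveI := Fact.mk hr
  have hr2 : r ≠ 2 := by
    rintro rfl
    exact Nat.not_even_iff_odd.mpr (hXodd.of_dvd_nat (card_dvd_of_le inf_le_left))
      (even_iff_two_dvd.mpr hrd)
  obtain ⟨R, hR⟩ := hU.exists_invSylow V hXodd hXi r
  obtain ⟨⟨z, hzX, hzd⟩, hz⟩ := exists_prime_orderOf_dvd_card' r hrd
  replace hz : orderOf z = r := by rw [← Subgroup.orderOf_coe] at hz; exact hz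
  have hz1 : z ≠ 1 := fun h => by rw [h, orderOf_one] at hz; exact hr.ne_one hz.symm
  replace hzd : z * d = d * z := mem_cent.mp hzd
  have hd2 := hd.two V
  have hzP : z ∈ Pp r d := hU.mem_Pp hd2 hr2 hzd ⟨1, by rw [pow_one, hz]⟩
  have hzR : zpowers z ≤ R := by
    refine hR.max _ (zpowers_le.mpr hzX) (IsPGroup.of_card (n := 1)
      (by rw [Nat.card_zpowers, hz, pow_one])) ?_
    have key : ∀ e, Ax a b e → ∀ w ∈ zpowers z, e * w * e⁻¹ ∈ zpowers z := by
      intro e he w hw
      obtain ⟨n, rfl⟩ := mem_zpowers_iff.mp hw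
      by_cases hed : e = d
      · subst hed
        have hc : Commute e (z ^ n) := (show Commute e z from hzd.symm).zpow_right n
        rw [hc.eq, mul_inv_cancel_right]
        exact zpow_mem (mem_zpowers z) n
      · rw [← conj_zpow, hU.inverts (hd.pair V he (Ne.symm hed)) (Pp_le r d hzP)]
        exact zpow_mem (inv_mem (mem_zpowers z)) n
    exact ⟨key a (Or.inl rfl), key b (Or.inr (Or.inl rfl))⟩
  have hPa : Pp r a ≤ R := hR.max _ (fun w hw => mem_oddPart_of
      (mem_cent.mpr (hU.O_comm ha (Pp_le r a hw) hx)) ((hU.mem_O ha).mp (Pp_le r a hw)).2)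
    (hU.isPGroup_Pp ha) (hU.pi_Pp V (Or.inl rfl)).inv
  have hPne : Pp r a ≠ ⊥ := fun h => by
    have h' := hU.card_Pp_eq (p := r) hd2 ha
    rw [h, card_bot] at h'
    exact hz1 (mem_bot.mp (eq_bot_of_card_eq _ h' ▸ hzP))
  have hj : Joined a b r := by
    refine ⟨R, ⟨hR.pgroup, hR.inv⟩, a, d, Or.inl rfl, hd, Ne.symm hda, fun h => hPne ?_,
      fun h => hz1 (mem_bot.mp (h ▸ ⟨hzR (mem_zpowers z), mem_cent.mpr hzd⟩))⟩
    exact eq_bot_iff.mpr (h ▸ le_inf hPa fun w hw => mem_cent.mpr (hU.Pp_cent ha hw))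
  have hfus : HasFusingSub a := by
    by_cases hA : ∃ f s, Pair a f ∧ Nat.Prime s ∧ s ≠ 2 ∧ Joined a f s ∧
        ∃ Y, PI a f s Y ∧ ¬ ∀ u ∈ Y, ∀ v ∈ Y, u * v = v * u
    · obtain ⟨f, s, W, hs, hs2, hjs, Y, hY, hnc⟩ := hA
      haveI := Fact.mk hs
      exact hU.hasFusingSub_of_nonabelian hO W hs2 hjs hY hnc
    · refine hU.hasFusingSub_of_abelian hO V hr2 hj ?_
      intro f s W hs hs2 hjs Y hY
      by_contra hnc
      exact hA ⟨f, s, W, hs, hs2, hjs, Y, hY, hnc⟩
  obtain ⟨M, hM, hCM, hf⟩ := hfus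
  exact hU.false_of_stronglyEmbedded hO (hU.stronglyEmbedded hM V hCM hf) V hCM hx hx1

end Uni

end Cfsg.Agent.GenDih45
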