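import Cfsg.Agent.GenDih45.Uniform
import Cfsg.Agent.BGUniq.FittingOf
import Cfsg.Agent.H40.Dihedral

/-!
# Tools for the local analysis
-/

set_option autoImplicit false

namespace Cfsg.Agent.GenDih45

open Subgroup

variable {G : Type*} [Group G] [Finite G]

omit [Finite G] in
theorem conj_mem_core {p : ℕ} {H : Subgroup G} {g : G} (hg : g ∈ normalizer (H : Set G)) {x : G}
    (hx : x ∈ BGUniq.core p H) : g * x * g⁻¹ ∈ BGUniq.core p H :=
  H40.conj_mem_map_of_characteristic _ hg hx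

/-- Two Sylow subgroups of `X` inside `H ≤ X` are conjugate in `H`. -/
theorem exists_conj_of_card {p : ℕ} [Fact p.Prime] {X H P₁ P₂ : Subgroup G} (hHX : H ≤ X)
    (h₁ : P₁ ≤ H) (h₂ : P₂ ≤ H) (hc₁ : Nat.card P₁ = p ^ (Nat.card X).factorization p)
    (hc₂ : Nat.card P₂ = p ^ (Nat.card X).factorization p) :
    ∃ h ∈ H, P₁.map (MulAut.conj h).toMonoidHom = P₂ := by
  have hp := (Fact.out : p.Prime)
  have hfac : (Nat.card H).factorization p = (Nat.card X).factorization p := by
    refine le_antisymm ?_ ?_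
    · exact (Nat.factorization_le_iff_dvd Nat.card_pos.ne' Nat.card_pos.ne').mpr
        (card_dvd_of_le hHX) p
    · exact (hp.pow_dvd_iff_le_factorization Nat.card_pos.ne').mp (hc₁ ▸ card_dvd_of_le h₁)
  have hc : ∀ P : Subgroup G, P ≤ H → Nat.card P = p ^ (Nat.card X).factorization p →
      Nat.card (P.subgroupOf H) = p ^ (Nat.card H).factorization p := fun P hP h => by
    rw [hfac, Nat.card_congr (subgroupOfEquivOfLe hP).toEquiv, h]
  set S₁ := Sylow.ofCard _ (hc P₁ h₁ hc₁)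
  set S₂ := Sylow.ofCard _ (hc P₂ h₂ hc₂)
  obtain ⟨c, hcS⟩ := MulAction.exists_smul_eq H S₁ S₂
  refine ⟨c, c.2, ?_⟩
  have h3 : (S₁ : Subgroup H).map (MulAut.conj c).toMonoidHom = (S₂ : Subgroup H) := by
    rw [← hcS]; rfl
  have h4 := congrArg (Subgroup.map H.subtype) h3
  rw [Subgroup.map_map, show H.subtype.comp (MulAut.conj c).toMonoidHom =
      (MulAut.conj (c : G)).toMonoidHom.comp H.subtype by ext x; simp, ← Subgroup.map_map] at h4
  simp only [S₁, S₂, Sylow.coe_ofCard] at h4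
  rwa [map_subgroupOf_eq_of_le h₁, map_subgroupOf_eq_of_le h₂] at h4

omit [Finite G] in
theorem commutator_self_le (H : Subgroup G) : (⁅H, H⁆ : Subgroup G) ≤ H :=
  commutator_le.mpr fun _ hp _ hq => mul_mem (mul_mem (mul_mem hp hq) (inv_mem hp)) (inv_mem hq)

omit [Finite G] in
theorem mem_normalizer_of_map_eq {K : Subgroup G} {g : G}
    (h : K.map (MulAut.conj g).toMonoidHom = K) : g ∈ normalizer (K : Set G) := by
  refine mem_normalizer_iff.mpr fun x => ⟨fun hx => h ▸ ⟨x, hx, rfl⟩, fun hx => ?_⟩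
  rw [← h] at hx
  obtain ⟨y, hy, hyx⟩ := hx
  exact (MulAut.conj g).injective hyx ▸ hy

omit [Finite G] in
theorem map_conj_eq_of_mem {K : Subgroup G} {g : G} (h : g ∈ normalizer (K : Set G)) :
    K.map (MulAut.conj g).toMonoidHom = K := by
  ext x
  constructor
  · rintro ⟨y, hy, rfl⟩
    exact (mem_normalizer_iff.mp h y).mp hy
  · intro hx
    exact ⟨g⁻¹ * x * g, (mem_normalizer_iff.mp h _).mpr (by simpa [mul_assoc] using hx),
      by simp [mul_assoc]⟩

/-- An element centralising every `O_r(H)` centralises `F(H)`. -/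
theorem centralizes_fitting {H : Subgroup G} {x : G}
    (h : ∀ r : ℕ, r.Prime → ∀ u ∈ BGUniq.core r H, u * x = x * u) :
    ∀ u ∈ Cfsg.fittingOf H, x * u = u * x := by
  intro u hu
  set C := (cent x).subgroupOf (Cfsg.fittingOf H) with hC
  have htop : C = ⊤ := by
    refine Transfer.eq_top_of_prime_pow_orderOf_mem fun r hr g hg => ?_
    haveI := Fact.mk hr
    obtain ⟨j, hj⟩ := hg
    refine mem_subgroupOf.mpr (mem_cent.mpr (h r hr _ (BGUniq.mem_core_of_mem_fittingOf g.2
      (j := j) ?_)))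
    rw [Subgroup.orderOf_coe, hj]
  have h1 : (⟨u, hu⟩ : Cfsg.fittingOf H) ∈ C := htop ▸ mem_top _
  exact (mem_cent.mp h1).symm

end Cfsg.Agent.GenDih45
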