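import Cfsg.Agent.GenDih45.Extras
import Cfsg.Agent.GenDih45.Main
import Cfsg.Agent.GenDih45.Tools

/-!
# A strongly embedded subgroup with a four-group has no odd central subgroup

If the strongly embedded subgroup `M` of a group without odd normal subgroup contains a four-group
then `Z(M)` has no nontrivial subgroup of odd order.
-/

set_option autoImplicit false

namespace Cfsg.Agent.GenDih45

open Subgroup

universe u

variable {G : Type u} [Group G] [Finite G]

/-- The fixed-point subgroups of the three involutions of a four-group generate. -/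
theorem le_of_fixed_le_general {a b : G} (ha : a * a = 1) (hb : b * b = 1) (hab : a * b = b * a)
    {K L : Subgroup G} (hK : Odd (Nat.card K)) (haK : ∀ x ∈ K, a * x * a⁻¹ ∈ K)
    (hbK : ∀ x ∈ K, b * x * b⁻¹ ∈ K) (h₁ : K ⊓ cent a ≤ L) (h₂ : K ⊓ cent b ≤ L)
    (h₃ : K ⊓ cent (a * b) ≤ L) : K ≤ L := by
  intro x hx
  obtain ⟨i, hi, w, hw, rfl⟩ := exists_inv_mul_fixed ha hK haK hx
  refine mul_mem ?_ (h₁ hw)
  obtain ⟨u, hu, hub, v, hv, hvb, rfl⟩ := exists_uvu ha hb hab hK haK hbK hi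
  have hu' : u ∈ L := h₂ (mem_inf_centralizer.mpr ⟨hu.1, hub⟩)
  refine mul_mem (mul_mem hu' (h₃ (mem_inf_centralizer.mpr ⟨hv.1, ?_⟩))) hu'
  calc a * b * v * (a * b)⁻¹ = (a * v * a⁻¹)⁻¹ := by
        rw [show a * b * v * (a * b)⁻¹ = a * (b * v * b⁻¹) * a⁻¹ by group, hvb]; group
    _ = v := by rw [hv.2, inv_inv]

theorem mem_normalizer_of_conj_mem {K : Subgroup G} {g : G}
    (h : ∀ x ∈ K, g * x * g⁻¹ ∈ K) : g ∈ normalizer (K : Set G) := by
  refine mem_normalizer_of_map_eq (eq_of_le_of_card_ge (by rintro _ ⟨x, hx, rfl⟩; exact h x hx) ?_)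
  rw [card_map_of_injective (MulAut.conj g).injective]

theorem false_of_central_odd (hO : ∀ N : Subgroup G, N.Normal → Odd (Nat.card N) → N = ⊥)
    {M : Subgroup G} (hse : Cfsg.IsStronglyEmbedded M) {a b : G} (V : Pair a b)
    (haM : a ∈ M) (hbM : b ∈ M) {k₀ : G} (hk₀M : k₀ ∈ M) (hk₀c : ∀ m ∈ M, k₀ * m = m * k₀)
    (hk₀odd : Odd (orderOf k₀)) (hk₀1 : k₀ ≠ 1) : False := by
  haveI : Fact (Nat.Prime 2) := ⟨Nat.prime_two⟩
  obtain ⟨hMtop, -, hctrl⟩ := Involution.stronglyEmbedded_iff.mp hse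
  set o : G ⧸ M := ((1 : G) : G ⧸ M) with ho
  have hfo : ∀ {g : G}, g • o = o ↔ g ∈ M := TwoFusionB.smul_one_eq_iff
  have htwo : ∀ g₁ g₂ : G, g₁ ∉ M → g₂ ∉ M → ∃ h ∈ M, g₂⁻¹ * (h * g₁) ∈ M := by
    refine (S1220.result M hse).resolve_right ?_
    rintro ⟨hS, -⟩
    obtain ⟨P, hP⟩ := (isPGroup_pair V).exists_le_sylow
    have haP : a ∈ (P : Subgroup G) := hP (subset_closure (by simp))
    have hbP : b ∈ (P : Subgroup G) := hP (subset_closure (by simp))
    have ha2 : orderOf (⟨a, haP⟩ : (P : Subgroup G)) = 2 := by rw [Subgroup.orderOf_mk, V.he]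
    have hb2 : orderOf (⟨b, hbP⟩ : (P : Subgroup G)) = 2 := by rw [Subgroup.orderOf_mk, V.hf]
    rcases hS P with h | ⟨m, -, ⟨e⟩⟩
    · haveI : IsCyclic (P : Subgroup G) := h
      exact V.ne (congrArg Subtype.val (Involution.involution_unique_of_isCyclic ha2 hb2))
    · haveI : NeZero (2 ^ m) := ⟨pow_ne_zero _ two_ne_zero⟩
      have := not_pair_in_quaternion (x := e ⟨a, haP⟩) (y := e ⟨b, hbP⟩)
        (by rw [← map_mul, mul_self_of_two ha2, map_one])
        (by rw [← map_mul, mul_self_of_two hb2, map_one])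
        (by simpa using ne_one_of_two ha2) (by simpa using ne_one_of_two hb2)
      exact V.ne (congrArg Subtype.val (e.injective this))
  -- `M` is transitive on the other points
  have htrans : ∀ q r : G ⧸ M, q ≠ o → r ≠ o → ∃ m ∈ M, m • q = r := by
    intro q r hq hr
    induction q using QuotientGroup.induction_on with
    | _ x =>
    induction r using QuotientGroup.induction_on with
    | _ y =>
    have hne : ∀ z : G, (z : G ⧸ M) ≠ o → z ∉ M := fun z hz h => hz (by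
      rw [ho, QuotientGroup.eq]; simpa using h)
    obtain ⟨m, hm, hmxy⟩ := htwo x y (hne x hq) (hne y hr)
    refine ⟨m, hm, ?_⟩
    rw [MulAction.Quotient.smul_coe]
    exact (QuotientGroup.eq.mpr hmxy).symm
  have htrans2 : ∀ p p' q q' : G ⧸ M, p ≠ p' → q ≠ q' → ∃ g : G, g • p = q ∧ g • p' = q' := by
    have h0 : ∀ p p' r : G ⧸ M, p ≠ p' → r ≠ o → ∃ g : G, g • p = o ∧ g • p' = r := by
      intro p p' r hne hr
      obtain ⟨x, rfl⟩ := QuotientGroup.mk_surjective p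
      have h1 : x⁻¹ • (x : G ⧸ M) = o := by
        rw [MulAction.Quotient.smul_coe, ho, smul_eq_mul, inv_mul_cancel]
      have h2 : x⁻¹ • p' ≠ o := fun h => hne ((smul_left_cancel _ (h.trans h1.symm)).symm)
      obtain ⟨m, hm, hmr⟩ := htrans _ r h2 hr
      exact ⟨m * x⁻¹, by rw [mul_smul, h1]; exact hfo.mpr hm, by rw [mul_smul, hmr]⟩
    intro p p' q q' hp hq
    obtain ⟨x, hx⟩ := not_forall.mp fun h => hMtop (eq_top_iff.mpr fun g _ => h g)
    have hxo : x • o ≠ o := fun h => hx (hfo.mp h)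
    obtain ⟨g₁, e1, e2⟩ := h0 p p' _ hp hxo
    obtain ⟨g₂, f1, f2⟩ := h0 q q' _ hq hxo
    exact ⟨g₂⁻¹ * g₁, by rw [mul_smul, e1, ← f1, inv_smul_smul],
      by rw [mul_smul, e2, ← f2, inv_smul_smul]⟩
  obtain ⟨u₀, hu₀, hu₀M⟩ : ∃ u : G, orderOf u = 2 ∧ u ∉ M := by
    by_contra hcon
    push Not at hcon
    obtain ⟨g, hg⟩ := not_forall.mp fun h => hMtop (eq_top_iff.mpr fun g _ => h g)
    exact hg (hctrl g a haM V.he (hcon _ (by rw [orderOf_conj', V.he])))
  have hq₀ : u₀ • o ≠ o := fun h => hu₀M (hfo.mp h)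
  set q₀ := u₀ • o with hq₀def
  have hcore : M.normalCore = ⊥ := by
    refine hO _ (normalCore_normal M) ?_
    rw [← Nat.not_even_iff_odd]
    intro he
    obtain ⟨t, htN, ht⟩ := Involution.exists_involution_of_even he
    obtain ⟨g, hg⟩ := not_forall.mp fun h => hMtop (eq_top_iff.mpr fun g _ => h g)
    exact hg (hctrl g t (M.normalCore_le htN) ht
      (M.normalCore_le ((normalCore_normal M).conj_mem t htN g)))
  -- `k₀` fixes no other point
  have hfree : ∀ q : G ⧸ M, q ≠ o → k₀ • q ≠ q := by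
    intro q hq hkq
    apply hk₀1
    have hall : ∀ r : G ⧸ M, k₀ • r = r := by
      intro r
      by_cases hr : r = o
      · rw [hr]; exact hfo.mpr hk₀M
      obtain ⟨m, hm, rfl⟩ := htrans q r hq hr
      rw [← mul_smul, hk₀c m hm, mul_smul, hkq]
    have : k₀ ∈ M.normalCore := fun g => by
      have h := hall ((g⁻¹ : G) : G ⧸ M)
      rw [MulAction.Quotient.smul_coe, eq_comm, QuotientGroup.eq, inv_inv] at h
      show g * k₀ * g⁻¹ ∈ M
      simpa [mul_assoc] using h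
    rwa [hcore, mem_bot] at this
  -- the two-point stabiliser and its fixed points
  set D : Subgroup G := MulAction.stabilizer G o ⊓ MulAction.stabilizer G q₀ with hD
  have hDmem : ∀ {d}, d ∈ D ↔ d • o = o ∧ d • q₀ = q₀ := Iff.rfl
  have hDodd : Odd (Nat.card D) := by
    rw [← Nat.not_even_iff_odd]
    intro he
    obtain ⟨t, htD, ht⟩ := Involution.exists_involution_of_even he
    exact hq₀ (TwoFusionB.fix_unique hse ht (hDmem.mp htD).2 (hDmem.mp htD).1)
  let F : Set (G ⧸ M) := {p | ∀ d ∈ D, d • p = p}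
  have hFo : o ∈ F := fun d hd => (hDmem.mp hd).1
  have hFq : q₀ ∈ F := fun d hd => (hDmem.mp hd).2
  have hFk : k₀ • q₀ ∈ F := fun d hd => by
    rw [← mul_smul, ← hk₀c d (hfo.mp (hDmem.mp hd).1), mul_smul, (hDmem.mp hd).2]
  have hk1 : k₀ • q₀ ≠ q₀ := hfree q₀ hq₀
  have hk2 : k₀ • q₀ ≠ o := fun h => hq₀ (by
    rw [← inv_smul_smul k₀ q₀, h, inv_smul_eq_iff]
    exact (hfo.mpr hk₀M).symm)
  -- the normaliser of `D` is doubly transitive on `F`
  have hN1 : ∀ p ∈ F, ∀ p' ∈ F, p ≠ p' → ∃ g ∈ normalizer (D : Set G), g • o = p ∧ g • q₀ = p' := by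
    intro p hp p' hp' hne
    obtain ⟨g, g1, g2⟩ := htrans2 o q₀ p p' hq₀.symm hne
    refine ⟨g, ?_, g1, g2⟩
    refine inv_inv g ▸ inv_mem (mem_normalizer_of_conj_mem (fun d hd => ?_))
    refine hDmem.mpr ⟨?_, ?_⟩
    · rw [inv_inv, mul_smul, mul_smul, g1, hp d hd, ← g1, inv_smul_smul]
    · rw [inv_inv, mul_smul, mul_smul, g2, hp' d hd, ← g2, inv_smul_smul]
  have hpres : ∀ g ∈ normalizer (D : Set G), ∀ p ∈ F, g • p ∈ F := by
    intro g hg p hp d hd
    have h := hp _ ((mem_normalizer_iff'.mp hg (g⁻¹ * d)).mpr (by simpa using hd))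
    rwa [mul_smul, mul_smul, inv_smul_eq_iff] at h
  have hN2 : ∀ p ∈ F, ∀ p' ∈ F, ∀ q ∈ F, ∀ q' ∈ F, p ≠ p' → q ≠ q' →
      ∃ g ∈ normalizer (D : Set G), g • p = q ∧ g • p' = q' := by
    intro p hp p' hp' q hq q' hq' hne hne'
    obtain ⟨g₁, m1, e1, e2⟩ := hN1 p hp p' hp' hne
    obtain ⟨g₂, m2, f1, f2⟩ := hN1 q hq q' hq' hne'
    exact ⟨g₂ * g₁⁻¹, mul_mem m2 (inv_mem m1), by rw [mul_smul, ← e1, inv_smul_smul, f1],
      by rw [mul_smul, ← e2, inv_smul_smul, f2]⟩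
  -- no involution of the normaliser fixes a point of `F`
  have hfpf : ∀ v ∈ normalizer (D : Set G), orderOf v = 2 → ∀ c ∈ F, v • c ≠ c := by
    intro v hv hv2 c hc hvc
    obtain ⟨c', hc', hcc'⟩ : ∃ c' ∈ F, c ≠ c' := by
      by_cases h : c = o
      · exact ⟨q₀, hFq, fun h' => hq₀ (h'.symm.trans h)⟩
      · exact ⟨o, hFo, h⟩
    obtain ⟨g, hgN, g1, g2⟩ := hN1 c hc c' hc' hcc'
    set w := g⁻¹ * v * g with hw
    have hwN : w ∈ normalizer (D : Set G) := mul_mem (mul_mem (inv_mem hgN) hv) hgN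
    have hw2 : orderOf w = 2 := by
      rw [hw]; simpa using (orderOf_conj' g⁻¹ v).trans hv2
    have hwo : w • o = o := by
      rw [hw, mul_smul, mul_smul, g1, hvc, ← g1, inv_smul_smul]
    obtain ⟨d, d1, d2, d3⟩ := TwoFusionB.exists_conj_fix hse hq₀ hw2 hwo V.he (hfo.mpr haM)
    obtain ⟨e, e1, e2, e3⟩ := TwoFusionB.exists_conj_fix hse hq₀ hw2 hwo V.hf (hfo.mpr hbM)
    have hdD : d ∈ D := hDmem.mpr ⟨d2, d1⟩
    have heD : e ∈ D := hDmem.mpr ⟨e2, e1⟩
    have hab : a * b ∈ D := by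
      rw [← d3, ← e3, show d * w * d⁻¹ * (e * w * e⁻¹) = d * (w * (d⁻¹ * e) * w) * e⁻¹ by group]
      refine mul_mem (mul_mem hdD ?_) (inv_mem heD)
      have h := (mem_normalizer_iff.mp hwN (d⁻¹ * e)).mp (mul_mem (inv_mem hdD) heD)
      rwa [inv_of_two hw2] at h
    have hab2 : orderOf (a * b) = 2 := V.two_mul'
    have := odd_orderOf_of_mem hDodd hab
    rw [hab2] at this
    exact absurd this (by decide)
  have hu₀N : u₀ ∈ normalizer (D : Set G) := by
    have huu := mul_self_of_two hu₀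
    refine mem_normalizer_of_conj_mem fun d hd => ?_
    obtain ⟨h1, h2⟩ := hDmem.mp hd
    rw [inv_of_two hu₀]
    rw [hq₀def] at h2
    refine hDmem.mpr ⟨?_, ?_⟩
    · rw [mul_smul, mul_smul, h2, ← mul_smul, huu, one_smul]
    · rw [hq₀def, mul_smul, mul_smul, ← mul_smul u₀ u₀ o, huu, one_smul, h1]
  -- no four-group normalises `D`
  have hfour : ∀ v₁ ∈ normalizer (D : Set G), ∀ v₂ ∈ normalizer (D : Set G), orderOf v₁ = 2 →
      orderOf v₂ = 2 → v₁ * v₂ = v₂ * v₁ → v₁ = v₂ := by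
    intro v₁ h₁ v₂ h₂ o₁ o₂ hc
    by_contra hne
    have W : Pair v₁ v₂ := ⟨o₁, o₂, hc, hne⟩
    obtain ⟨p, hp⟩ := TwoFusionB.exists_fix hse o₁
    have hp2 : v₂ • p = p := TwoFusionB.fix_unique hse o₁
      (by rw [← mul_smul, hc, mul_smul, hp]) hp
    have hp3 : (v₁ * v₂) • p = p := by rw [mul_smul, hp2, hp]
    have hfix : ∀ v, orderOf v = 2 → v • p = p → D ⊓ cent v ≤ MulAction.stabilizer G p := by
      intro v hv hvp d hd
      refine TwoFusionB.fix_unique hse hv ?_ hvp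
      rw [← mul_smul, ← mem_cent.mp hd.2, mul_smul, hvp]
    have hle : D ≤ MulAction.stabilizer G p := le_of_fixed_le_general (mul_self_of_two o₁)
      (mul_self_of_two o₂) hc hDodd (fun d hd => (mem_normalizer_iff.mp h₁ d).mp hd)
      (fun d hd => (mem_normalizer_iff.mp h₂ d).mp hd) (hfix _ o₁ hp) (hfix _ o₂ hp2)
      (hfix _ W.two_mul' hp3)
    exact hfpf v₁ h₁ o₁ p (fun d hd => hle hd) hp
  -- hence `u₀` is isolated in the normaliser
  set NN := normalizer (D : Set G) with hNN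
  let u : NN := ⟨u₀, hu₀N⟩
  have hu : orderOf u = 2 := by rw [Subgroup.orderOf_mk, hu₀]
  obtain ⟨P, hP⟩ := (IsPGroup.of_card (p := 2) (n := 1) (G := zpowers u)
    (by rw [Nat.card_zpowers, hu, pow_one])).exists_le_sylow
  obtain ⟨j, hjP, hj, hjc⟩ := exists_central_involution P.2
    (fun h => ne_one_of_two hu (mem_bot.mp (h ▸ hP (mem_zpowers u))))
  have hu' : ∀ x : NN, x ∈ (P : Subgroup NN) → orderOf x = 2 → x = j := by
    intro x hx hx2
    exact Subtype.ext (hfour x x.2 j j.2 (by rw [Subgroup.orderOf_coe, hx2])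
      (by rw [Subgroup.orderOf_coe, hj]) (congrArg Subtype.val (hjc x hx)))
  obtain ⟨N, hNn, hNodd, hN⟩ := Components.zStarProperty.{u} NN P u hu (hP (mem_zpowers u))
    fun g hg => (hu' _ hg (by rw [orderOf_conj', hu])).trans (hu' u (hP (mem_zpowers u)) hu).symm
  haveI := hNn
  -- `N` fixes `F` pointwise
  have hmove : ∀ n ∈ N, ∀ p ∈ F, (n : G) • p = p := by
    intro n hn p hp
    by_contra hnp
    have hnpF := hpres n n.2 p hp
    obtain ⟨g, hgN, g1, g2⟩ := hN2 p hp _ hnpF p hp (u₀ • p) (hpres u₀ hu₀N p hp) (Ne.symm hnp)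
      (Ne.symm (hfpf u₀ hu₀N hu₀ p hp))
    set n' : NN := ⟨g, hgN⟩ * n * ⟨g, hgN⟩⁻¹ with hn'
    have hn'N : n' ∈ N := hNn.conj_mem n hn _
    have hn'p : (n' : G) • p = u₀ • p := by
      rw [hn', Subgroup.coe_mul, Subgroup.coe_mul, Subgroup.coe_inv]
      show (g * (n : G) * g⁻¹) • p = _
      rw [mul_smul, mul_smul, show g⁻¹ • p = p by rw [inv_smul_eq_iff, g1], g2]
    set x : NN := n'⁻¹ * u with hx
    have hxp : (x : G) • p = p := by
      rw [hx, Subgroup.coe_mul, Subgroup.coe_inv, mul_smul, inv_smul_eq_iff]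
      exact hn'p.symm
    have hxev : Even (orderOf x) := by
      rw [← Nat.not_odd_iff_even]
      intro hodd
      have h1 : QuotientGroup.mk' N x = QuotientGroup.mk' N u := by
        rw [hx, map_mul, map_inv, show QuotientGroup.mk' N n' = 1 from
          (QuotientGroup.eq_one_iff n').mpr hn'N, inv_one, one_mul]
      have h2 : orderOf (QuotientGroup.mk' N u) ∣ 2 := hu ▸ orderOf_map_dvd _ u
      have h3 : orderOf (QuotientGroup.mk' N u) ∣ orderOf x := h1 ▸ orderOf_map_dvd _ x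
      have h4 : orderOf (QuotientGroup.mk' N u) = 1 :=
        Nat.dvd_one.mp ((Nat.coprime_two_left.mpr hodd) ▸ Nat.dvd_gcd h2 h3)
      have h5 : u ∈ N := (QuotientGroup.eq_one_iff u).mp (orderOf_eq_one_iff.mp h4)
      have h6 := odd_orderOf_of_mem hNodd h5
      rw [hu] at h6
      exact absurd h6 (by decide)
    have hw := Involution.orderOf_pow_half hxev (orderOf_pos x).ne'
    rw [← Subgroup.orderOf_coe] at hw
    exact hfpf _ (x ^ (orderOf x / 2)).2 hw p hp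
      (MulAction.mem_stabilizer_iff.mp (by
        rw [Subgroup.coe_pow]; exact pow_mem (MulAction.mem_stabilizer_iff.mpr hxp) _))
  -- so the image of `u₀` is central
  have hcomm : ∀ g ∈ normalizer (D : Set G), ∀ p ∈ F, u₀ • g • p = g • u₀ • p := by
    intro g hg p hp
    have h := hmove _ (hN ⟨g, hg⟩) (g • u₀ • p) (hpres g hg _ (hpres u₀ hu₀N p hp))
    rw [show ((u * ⟨g, hg⟩ * u⁻¹ * ⟨g, hg⟩⁻¹ : NN) : G) = u₀ * g * u₀⁻¹ * g⁻¹ from rfl] at h
    rw [mul_smul, inv_smul_smul, mul_smul, mul_smul, inv_smul_smul] at h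
    exact h
  obtain ⟨g, hgN, g1, g2⟩ := hN2 o hFo q₀ hFq o hFo (k₀ • q₀) hFk hq₀.symm hk2.symm
  have h := hcomm g hgN o hFo
  rw [g1, ← hq₀def, g2] at h
  exact hk1 h.symm

end Cfsg.Agent.GenDih45
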