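import Cfsg.Agent.GenDih45.Basic
import Cfsg.Agent.GenDih45.Derived
import Cfsg.Agent.Lib.Coprime.Action

/-!
# Odd subgroups normalised by four-groups
-/

set_option autoImplicit false

namespace Cfsg.Agent.GenDih45

open Subgroup

variable {G : Type*} [Group G] [Finite G]

/-- `Y` is normalised by the four-group generated by `e` and `f`. -/
structure Inv (e f : G) (Y : Subgroup G) : Prop where
  le₁ : ∀ x ∈ Y, e * x * e⁻¹ ∈ Y
  le₂ : ∀ x ∈ Y, f * x * f⁻¹ ∈ Y

namespace Inv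

variable {e f : G}

omit [Finite G] in
theorem inf {Y Z : Subgroup G} (hY : Inv e f Y) (hZ : Inv e f Z) : Inv e f (Y ⊓ Z) :=
  ⟨fun x hx => ⟨hY.le₁ x hx.1, hZ.le₁ x hx.2⟩, fun x hx => ⟨hY.le₂ x hx.1, hZ.le₂ x hx.2⟩⟩

omit [Finite G] in
theorem symm {Y : Subgroup G} (hY : Inv e f Y) : Inv f e Y := ⟨hY.le₂, hY.le₁⟩

omit [Finite G] in
theorem left {Y : Subgroup G} (hY : Inv e f Y) : Inv e (e * f) Y :=
  ⟨hY.le₁, fun x hx => by
    rw [show e * f * x * (e * f)⁻¹ = e * (f * x * f⁻¹) * e⁻¹ by group]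
    exact hY.le₁ _ (hY.le₂ x hx)⟩

omit [Finite G] in
theorem rot {Y : Subgroup G} (V : Pair e f) (hY : Inv e f Y) : Inv f (e * f) Y := by
  have := hY.symm.left
  rwa [← V.comm] at this

omit [Finite G] in
theorem mem_normalizer_of {Y : Subgroup G} {d : G} (hd : d * d = 1)
    (h : ∀ x ∈ Y, d * x * d⁻¹ ∈ Y) : d ∈ normalizer (Y : Set G) :=
  Subgroup.mem_normalizer_iff.mpr fun x => ⟨h x, fun hx => by
    have h1 := h _ hx
    rw [show d * (d * x * d⁻¹) * d⁻¹ = (d * d) * x * (d * d)⁻¹ by group, hd] at h1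
    simpa using h1⟩

omit [Finite G] in
theorem closure_le_normalizer {Y : Subgroup G} (V : Pair e f) (hY : Inv e f Y) :
    closure ({e, f} : Set G) ≤ normalizer (Y : Set G) := (closure_le _).mpr (by
  rintro x (rfl | rfl)
  · exact mem_normalizer_of (mul_self_of_two V.he) hY.le₁
  · exact mem_normalizer_of (mul_self_of_two V.hf) hY.le₂)

omit [Finite G] in
theorem of_normalizer {Y : Subgroup G} (he : e ∈ normalizer (Y : Set G))
    (hf : f ∈ normalizer (Y : Set G)) : Inv e f Y :=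
  ⟨fun x hx => (Subgroup.mem_normalizer_iff.mp he x).mp hx,
    fun x hx => (Subgroup.mem_normalizer_iff.mp hf x).mp hx⟩

omit [Finite G] in
theorem normalizer_inv {Y : Subgroup G} (V : Pair e f) (hY : Inv e f Y) :
    Inv e f (normalizer (Y : Set G)) :=
  ⟨fun _ hx => mul_mem (mul_mem (hY.closure_le_normalizer V (subset_closure (by simp))) hx)
      (inv_mem (hY.closure_le_normalizer V (subset_closure (by simp)))),
    fun _ hx => mul_mem (mul_mem (hY.closure_le_normalizer V (subset_closure (by simp))) hx)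
      (inv_mem (hY.closure_le_normalizer V (subset_closure (by simp))))⟩

omit [Finite G] in
theorem sup {Y Z : Subgroup G} (hY : Inv e f Y) (hZ : Inv e f Z) : Inv e f (Y ⊔ Z) := by
  have key : ∀ d : G, (∀ x ∈ Y, d * x * d⁻¹ ∈ Y) → (∀ x ∈ Z, d * x * d⁻¹ ∈ Z) →
      ∀ x ∈ Y ⊔ Z, d * x * d⁻¹ ∈ Y ⊔ Z := fun d h1 h2 =>
    (sup_le (fun x hx => mem_sup_left (h1 x hx)) (fun x hx => mem_sup_right (h2 x hx)) :
      Y ⊔ Z ≤ (Y ⊔ Z).comap (MulAut.conj d).toMonoidHom)
  exact ⟨key e hY.le₁ hZ.le₁, key f hY.le₂ hZ.le₂⟩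

omit [Finite G] in
theorem cent_inf {Y : Subgroup G} (hY : Inv e f Y) (V : Pair e f) :
    Inv e f (Y ⊓ cent e) := by
  refine hY.inf ⟨fun x hx => ?_, fun x hx => ?_⟩
  · rw [mem_cent] at hx ⊢
    rw [show e * x * e⁻¹ = x by rw [← hx, mul_inv_cancel_right], hx]
  · rw [mem_cent] at hx ⊢
    calc f * x * f⁻¹ * e = f * x * (f⁻¹ * e * f) * f⁻¹ := by group
      _ = f * (x * e) * f⁻¹ := by
        rw [show f⁻¹ * e * f = f⁻¹ * (e * f) by group, V.comm]; group
      _ = (f * e) * x * f⁻¹ := by rw [hx]; group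
      _ = _ := by rw [← V.comm]; group

omit [Finite G] in
theorem map_conj {Y : Subgroup G} (hY : Inv e f Y) (g : G) :
    Inv (g * e * g⁻¹) (g * f * g⁻¹) (Y.map (MulAut.conj g).toMonoidHom) := by
  have key : ∀ d : G, (∀ x ∈ Y, d * x * d⁻¹ ∈ Y) →
      ∀ x ∈ Y.map (MulAut.conj g).toMonoidHom,
        (g * d * g⁻¹) * x * (g * d * g⁻¹)⁻¹ ∈ Y.map (MulAut.conj g).toMonoidHom := by
    rintro d h _ ⟨x, hx, rfl⟩
    exact ⟨d * x * d⁻¹, h x hx, by simp [mul_assoc]⟩
  exact ⟨key e hY.le₁, key f hY.le₂⟩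

end Inv

/-- `R` is the largest four-invariant `p`-subgroup of `K`, a Sylow subgroup of it. -/
structure IsInvSylow (e f : G) (p : ℕ) (K R : Subgroup G) : Prop where
  le : R ≤ K
  pgroup : IsPGroup p R
  inv : Inv e f R
  card : Nat.card R = p ^ (Nat.card K).factorization p
  max : ∀ Y ≤ K, IsPGroup p Y → Inv e f Y → Y ≤ R

namespace Uni

variable (hU : Uni G)

include hU

/-- The invariant Sylow subgroup. -/
theorem exists_invSylow {e f : G} (V : Pair e f) {K : Subgroup G} (hK : Odd (Nat.card K))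
    (hKi : Inv e f K) (p : ℕ) [Fact p.Prime] : ∃ R, IsInvSylow e f p K R := by
  set A := closure ({e, f} : Set G) with hA
  obtain ⟨n, hn⟩ := IsPGroup.iff_card.mp (isPGroup_pair V)
  have hcop : (Nat.card A).Coprime (Nat.card K) := by
    rw [hA, hn]
    exact Nat.Coprime.pow_left n (Nat.coprime_two_left.mpr hK)
  have hsolv : Group.IsSolvable A ∨ Group.IsSolvable K :=
    Or.inr (isSolvable_of_odd hK)
  have hAK : A ≤ normalizer (K : Set G) := hKi.closure_le_normalizer V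
  obtain ⟨P, hP⟩ := Coprime.exists_invariant_sylow A K hAK hcop hsolv p
  have hi : Inv e f ((P : Subgroup K).map K.subtype) :=
    Inv.of_normalizer (hP (subset_closure (by simp))) (hP (subset_closure (by simp)))
  refine ⟨_, map_subtype_le _, P.isPGroup'.map _, hi, ?_, fun Y hY hYp hYi => ?_⟩
  · rw [← P.card_eq_multiplicity]
    exact (Nat.card_congr ((P : Subgroup K).equivMapOfInjective _ K.subtype_injective).toEquiv).symm
  · obtain ⟨Q, hYQ, hQ⟩ := Coprime.exists_invariant_sylow_ge A K hAK hcop hsolv p Y hY hYp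
      (hYi.closure_le_normalizer V)
    obtain ⟨c, hc, hcQ⟩ := Coprime.exists_invariant_sylow_conj A K hAK hcop hsolv p P Q hP hQ
    have hc1 : c = 1 := Subtype.ext (hU.four_cent_odd V
      (mem_centralizer_iff.mp hc e (subset_closure (by simp))).symm
      (mem_centralizer_iff.mp hc f (subset_closure (by simp))).symm
      (odd_orderOf_of_mem hK c.2))
    rw [hc1, one_smul] at hcQ
    rw [hcQ]
    exact hYQ

/-- If no element of odd order moves a 2-subgroup of `L`, the odd part of `L` has odd order. -/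
theorem odd_oddPart_of {L : Subgroup G}
    (h : ∀ Q ≤ L, IsPGroup 2 Q → Q ≠ ⊥ → ∀ g ∈ L, g ∈ normalizer (Q : Set G) → Odd (orderOf g) →
      g ∈ centralizer (Q : Set G)) : Odd (Nat.card (oddPart L)) := by
  haveI : Fact (Nat.Prime 2) := ⟨Nat.prime_two⟩
  obtain ⟨P⟩ := (inferInstance : Nonempty (Sylow 2 L))
  obtain ⟨P', N, hN, hNP⟩ := Transfer.hasNormalPComplement_of_normalizer_centralizer P
    fun Q hQ hQ1 g hg hgo => by
      have hQp : IsPGroup 2 (Q.map L.subtype) := (P.isPGroup'.to_le hQ).map _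
      have h1 := h _ (map_subtype_le Q) hQp
        (by rwa [Ne, map_eq_bot_iff_of_injective _ L.subtype_injective]) g g.2
        (le_normalizer_map L.subtype ⟨g, hg, rfl⟩)
        (by rw [Subgroup.orderOf_coe]; exact Nat.coprime_two_right.mp hgo)
      refine mem_centralizer_iff.mpr fun q hq => Subtype.ext ?_
      exact mem_centralizer_iff.mp h1 q ⟨q, hq, rfl⟩
  haveI := hN
  have hNodd : Odd (Nat.card N) := by
    rw [← Nat.not_even_iff_odd, even_iff_two_dvd]
    intro hd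
    obtain ⟨k, hk⟩ := IsPGroup.iff_card.mp P'.2
    exact P'.not_dvd_index (by rwa [hNP.index_eq_card])
  have hle : oddPart L ≤ N.map L.subtype := (closure_le _).mpr fun x hx => by
    refine ⟨⟨x, hx.1⟩, ?_, rfl⟩
    rw [SetLike.mem_coe, ← QuotientGroup.eq_one_iff]
    apply orderOf_eq_one_iff.mp
    have h1 : orderOf (QuotientGroup.mk' N ⟨x, hx.1⟩) ∣ Nat.gcd (orderOf x) (Nat.card (L ⧸ N)) :=
      Nat.dvd_gcd (by simpa using orderOf_map_dvd (QuotientGroup.mk' N) (⟨x, hx.1⟩ : L))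
        (orderOf_dvd_natCard _)
    obtain ⟨k, hk⟩ := IsPGroup.iff_card.mp P'.2
    rw [← N.index_eq_card, hNP.symm.index_eq_card, hk,
      Nat.Coprime.pow_right k (Nat.coprime_two_right.mpr hx.2)] at h1
    exact Nat.dvd_one.mp h1
  refine Odd.of_dvd_nat ?_ (card_dvd_of_le hle)
  rwa [card_map_of_injective L.subtype_injective]

/-- The odd elements of the centraliser of a nontrivial element of odd order form a subgroup. -/
theorem odd_cent {x : G} (hx : Odd (orderOf x)) (hx1 : x ≠ 1) :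
    Odd (Nat.card (oddPart (cent x))) := by
  refine hU.odd_oddPart_of fun Q hQ hQp hQ1 g hg hgn hgo => ?_
  obtain ⟨j, hjQ, hj, hjc⟩ := exists_central_involution hQp hQ1
  obtain ⟨A, hA⟩ := hU.shape hj
  have hxj : x * j = j * x := (mem_cent.mp (hQ hjQ)).symm
  have hxA : x ∈ A := hU.odd_mem hA hxj hx
  have hQA : ∀ q ∈ Q, q ∈ A := fun q hq => by
    by_contra hqA
    have h1 := (hA.out q (hjc q hq) hqA).2 x hxA
    rw [mem_cent.mp (hQ hq), mul_inv_cancel_right] at h1
    exact hx1 (eq_one_of_odd_of_sq hx (eq_inv_iff_mul_eq_one.mp h1))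
  refine hU.centralizes_of_fix hQp hgn hgo hj hjc ?_
  have h1 : g * j * g⁻¹ ∈ Q := (mem_normalizer_iff.mp hgn j).mp hjQ
  have h2 : orderOf (g * j * g⁻¹) = 2 := by rw [orderOf_conj', hj]
  rcases hA.uniq _ (hQA _ h1) (mul_self_of_two h2) with h3 | h3
  · exact absurd h3 (ne_one_of_two h2)
  · exact mul_inv_eq_iff_eq_mul.mp h3

/-- A subgroup has odd elements forming a subgroup or contains a fused four-group. -/
theorem fused_or_odd (L : Subgroup G) : Odd (Nat.card (oddPart L)) ∨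
    ∃ e f y : G, e ∈ L ∧ f ∈ L ∧ y ∈ L ∧ Pair e f ∧ y * e * y⁻¹ = f ∧ y * f * y⁻¹ = e * f := by
  by_cases h : ∀ Q ≤ L, IsPGroup 2 Q → Q ≠ ⊥ → ∀ g ∈ L, g ∈ normalizer (Q : Set G) →
      Odd (orderOf g) → g ∈ centralizer (Q : Set G)
  · exact Or.inl (hU.odd_oddPart_of h)
  push Not at h
  obtain ⟨Q, hQL, hQp, hQ1, g, hgL, hgn, hgo, hgc⟩ := h
  obtain ⟨j, hjQ, hj, hjc⟩ := exists_central_involution hQp hQ1
  right
  set j' := g * j * g⁻¹ with hj'def
  have hj'Q : j' ∈ Q := (mem_normalizer_iff.mp hgn j).mp hjQ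
  have hj' : orderOf j' = 2 := by rw [hj'def, orderOf_conj', hj]
  have hne : j ≠ j' := fun h => hgc (hU.centralizes_of_fix hQp hgn hgo hj hjc
    (mul_inv_eq_iff_eq_mul.mp h.symm))
  have V : Pair j j' := ⟨hj, hj', (hjc j' hj'Q).symm, hne⟩
  have hj'c : ∀ q ∈ Q, q * j' = j' * q := by
    intro q hq
    have h1 : g⁻¹ * q * g ∈ Q := (mem_normalizer_iff'.mp hgn _).mpr (by simpa [mul_assoc] using hq)
    calc q * j' = g * ((g⁻¹ * q * g) * j) * g⁻¹ := by rw [hj'def]; group
      _ = _ := by rw [hjc _ h1, hj'def]; group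
  have h2 : g * j' * g⁻¹ ∈ Q := (mem_normalizer_iff.mp hgn j').mp hj'Q
  refine ⟨j, j', g, hQL hjQ, hQL hj'Q, hgL, V, rfl, ?_⟩
  rcases hU.four_cent V (hjc _ h2) (hj'c _ h2) with h | h | h | h
  · exact absurd (conj_eq_one_iff.mp h) (ne_one_of_two hj')
  · exfalso
    apply hne
    have hg2 : Commute (g ^ 2) j := by
      refine mul_inv_eq_iff_eq_mul.mp ?_
      rw [show g ^ 2 * j * (g ^ 2)⁻¹ = g * (g * j * g⁻¹) * g⁻¹ by rw [sq]; group, ← hj'def, h]
    obtain ⟨m, hm⟩ := exists_pow_eq_self_of_coprime (x := g) (n := 2)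
      (Nat.coprime_two_left.mpr hgo)
    have hg1 : Commute g j := hm ▸ hg2.pow_left m
    rw [hj'def, hg1.eq, mul_inv_cancel_right]
  · exact absurd ((MulAut.conj g).injective h : j' = j) hne.symm
  · exact h

/-- In a subgroup with a fused four-group all involutions have fixed-point groups of equal order
on a normal subgroup of odd order. -/
theorem card_fix_eq {L K : Subgroup G} (hK : Odd (Nat.card K)) (hLK : L ≤ normalizer (K : Set G))
    {e₀ f₀ y : G} (he₀ : e₀ ∈ L) (hf₀ : f₀ ∈ L) (hy : y ∈ L) (V₀ : Pair e₀ f₀)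
    (hy₁ : y * e₀ * y⁻¹ = f₀) (hy₂ : y * f₀ * y⁻¹ = e₀ * f₀)
    {e f : G} (he : e ∈ L) (hf : f ∈ L) (V : Pair e f) :
    Nat.card (K ⊓ cent e : Subgroup G) = Nat.card (K ⊓ cent e₀ : Subgroup G) ∧
      Nat.card K = Nat.card (K ⊓ cent e₀ : Subgroup G) ^ 3 := by
  haveI : Fact (Nat.Prime 2) := ⟨Nat.prime_two⟩
  have hnK : ∀ g ∈ L, ∀ x ∈ K, g * x * g⁻¹ ∈ K := fun g hg x hx =>
    (mem_normalizer_iff.mp (hLK hg) x).mp hx
  set k : G → ℕ := fun d => Nat.card (K ⊓ cent d : Subgroup G) with hk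
  have hconj : ∀ g ∈ L, ∀ d, k (g * d * g⁻¹) = k d := by
    intro g hg d
    have hmap : (K ⊓ cent d).map (MulAut.conj g).toMonoidHom = K ⊓ cent (g * d * g⁻¹) := by
      ext x
      rw [mem_map]
      constructor
      · rintro ⟨z, ⟨hz, hzc⟩, rfl⟩
        refine ⟨hnK g hg z hz, mem_cent.mpr ?_⟩
        show g * z * g⁻¹ * (g * d * g⁻¹) = g * d * g⁻¹ * (g * z * g⁻¹)
        calc g * z * g⁻¹ * (g * d * g⁻¹) = g * (z * d) * g⁻¹ := by group
          _ = _ := by rw [mem_cent.mp hzc]; group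
      · rintro ⟨hx, hxc⟩
        refine ⟨g⁻¹ * x * g, ⟨by simpa using hnK g⁻¹ (inv_mem hg) x hx, mem_cent.mpr ?_⟩,
          by simp [mul_assoc]⟩
        calc g⁻¹ * x * g * d = g⁻¹ * (x * (g * d * g⁻¹)) * g := by group
          _ = _ := by rw [mem_cent.mp hxc]; group
    show Nat.card (K ⊓ cent (g * d * g⁻¹) : Subgroup G) = _
    rw [← hmap, card_map_of_injective (MulAut.conj g).injective]
  have hprod : ∀ a b, a ∈ L → b ∈ L → Pair a b → k a * k b * k (a * b) = Nat.card K :=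
    fun a b ha hb W =>
      have F := hU.fourAct W hK (hnK a ha) (hnK b hb)
      card_eq_mul F.ha F.hb F.hab F.odd F.haK F.hbK F.fpf
  have h₀ : k f₀ = k e₀ := by rw [← hy₁, hconj y hy]
  have h₀' : k (e₀ * f₀) = k e₀ := by rw [← hy₂, hconj y hy, h₀]
  have htot : Nat.card K = k e₀ ^ 3 := by
    rw [← hprod e₀ f₀ he₀ hf₀ V₀, h₀, h₀']; ring
  refine ⟨?_, htot⟩
  set S := closure ({e, f} : Set G) with hSdef
  have hSL : S ≤ L := (closure_le L).mpr (by rintro x (rfl | rfl) <;> assumption)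
  obtain ⟨P, hP⟩ := ((isPGroup_pair V).of_equiv (subgroupOfEquivOfLe hSL).symm).exists_le_sylow
  set R := (P : Subgroup L).map L.subtype with hR
  have hRp : IsPGroup 2 R := P.isPGroup'.map _
  have heR : e ∈ R := ⟨⟨e, he⟩, hP (show e ∈ S from subset_closure (by simp)), rfl⟩
  have hfR : f ∈ R := ⟨⟨f, hf⟩, hP (show f ∈ S from subset_closure (by simp)), rfl⟩
  have hRne : R ≠ ⊥ := fun h => ne_one_of_two V.he (Subgroup.mem_bot.mp (h ▸ heR))
  obtain ⟨j, hjR, hj, hjc⟩ := exists_central_involution hRp hRne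
  have hS₀L : closure ({e₀, f₀} : Set G) ≤ L :=
    (closure_le L).mpr (by rintro x (rfl | rfl) <;> assumption)
  obtain ⟨P₀, hP₀⟩ :=
    ((isPGroup_pair V₀).of_equiv (subgroupOfEquivOfLe hS₀L).symm).exists_le_sylow
  obtain ⟨c, hc⟩ := MulAction.exists_smul_eq L P₀ P
  have hcm : ∀ d (hd : d ∈ L), d ∈ closure ({e₀, f₀} : Set G) → (c : G) * d * (c : G)⁻¹ ∈ R := by
    intro d hd hd'
    refine ⟨c * ⟨d, hd⟩ * c⁻¹, ?_, rfl⟩
    rw [← hc, Sylow.coe_subgroup_smul]
    exact ⟨⟨d, hd⟩, hP₀ hd', rfl⟩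
  set e₁ := (c : G) * e₀ * (c : G)⁻¹ with he₁
  set f₁ := (c : G) * f₀ * (c : G)⁻¹ with hf₁
  have V₁ : Pair e₁ f₁ := V₀.conj _
  have hk₁ : k e₁ = k e₀ ∧ k f₁ = k e₀ ∧ k (e₁ * f₁) = k e₀ := by
    refine ⟨hconj _ c.2 _, (hconj _ c.2 _).trans h₀, ?_⟩
    rw [show e₁ * f₁ = (c : G) * (e₀ * f₀) * (c : G)⁻¹ by rw [he₁, hf₁]; group, hconj _ c.2, h₀']
  have he₁R : e₁ ∈ R := hcm e₀ he₀ (subset_closure (by simp))
  have hf₁R : f₁ ∈ R := hcm f₀ hf₀ (subset_closure (by simp))
  have hjk : k j = k e₀ := by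
    rcases hU.four_cent V₁ (hjc e₁ he₁R).symm (hjc f₁ hf₁R).symm with h | h | h | h
    · exact absurd h (ne_one_of_two hj)
    all_goals rw [h]; first | exact hk₁.1 | exact hk₁.2.1 | exact hk₁.2.2
  have hSc : ∀ d ∈ S, d * e = e * d ∧ d * f = f * d := by
    intro d hd
    have h : S ≤ centralizer ({e, f} : Set G) := (closure_le _).mpr (by
      intro x hx
      rw [SetLike.mem_coe, mem_centralizer_iff]
      intro z hz
      rcases hx with rfl | rfl <;> rcases hz with rfl | rfl <;>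
        first | rfl | exact V.comm | exact V.comm.symm)
    exact ⟨(mem_centralizer_iff.mp (h hd) e (by simp)).symm,
      (mem_centralizer_iff.mp (h hd) f (by simp)).symm⟩
  have hScomm : ∀ p ∈ S, ∀ q ∈ S, q * p = p * q := by
    intro p hp
    have h : S ≤ centralizer ({p} : Set G) := (closure_le _).mpr (by
      rintro x (rfl | rfl)
      · exact mem_cent.mpr (hSc p hp).1.symm
      · exact mem_cent.mpr (hSc p hp).2.symm)
    exact fun q hq => mem_cent.mp (h hq)
  show k e = k e₀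
  by_cases hsmall : ∀ r ∈ R, r * e = e * r ∧ r * f = f * r
  · have hmem : ∀ r ∈ R, r = 1 ∨ r = e ∨ r = f ∨ r = e * f := fun r hr =>
      hU.four_cent V (hsmall r hr).1 (hsmall r hr).2
    have h5 : e * e₁ = e₁ * e := (hsmall _ he₁R).1.symm
    have h6 : e * f₁ = f₁ * e := (hsmall _ hf₁R).1.symm
    rcases hU.four_cent V₁ h5 h6 with h | h | h | h
    · exact absurd h (ne_one_of_two V.he)
    all_goals rw [h]; first | exact hk₁.1 | exact hk₁.2.1 | exact hk₁.2.2
  push Not at hsmall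
  obtain ⟨r₀, hr₀, hr₀'⟩ := hsmall
  -- an element of the normaliser of the four-group outside it
  have hSR : S ≤ R := (closure_le R).mpr (by rintro x (rfl | rfl) <;> assumption)
  have hlt : S.subgroupOf R ≠ ⊤ := by
    intro h
    have hr : r₀ ∈ S := subgroupOf_eq_top.mp h hr₀
    exact hr₀' (hSc r₀ hr).1 (hSc r₀ hr).2
  haveI := hRp.isNilpotent
  obtain ⟨r, hrn, hrS⟩ := SetLike.exists_of_lt
    (Group.normalizerCondition_of_isNilpotent _ (lt_top_iff_ne_top.mpr hlt))
  have hrL : (r : G) ∈ L := map_subtype_le _ r.2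
  have hconjS : ∀ d ∈ S, (r : G) * d * (r : G)⁻¹ ∈ S := fun d hd =>
    (mem_normalizer_iff.mp hrn ⟨d, hSR hd⟩).mp hd
  have hSmem : ∀ d ∈ S, d = 1 ∨ d = e ∨ d = f ∨ d = e * f := fun d hd =>
    hU.four_cent V (hSc d hd).1 (hSc d hd).2
  have hjV : j = e ∨ j = f ∨ j = e * f :=
    (hU.four_cent V (hjc e heR).symm (hjc f hfR).symm).resolve_left (ne_one_of_two hj)
  -- arrange the four-group as `j`, `u`, `j * u`
  obtain ⟨u, W, huS, hu⟩ : ∃ u, Pair j u ∧ u ∈ S ∧
      (k e = k j ∨ k e = k u ∨ k e = k (j * u)) := by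
    rcases hjV with rfl | rfl | rfl
    · exact ⟨f, V, subset_closure (by simp), Or.inl rfl⟩
    · exact ⟨e, V.symm, subset_closure (by simp), Or.inr (Or.inl rfl)⟩
    · exact ⟨e, V.left.symm, subset_closure (by simp), Or.inr (Or.inl rfl)⟩
  have huL : u ∈ L := hSL huS
  have hjL : j ∈ L := map_subtype_le _ hjR
  have hju : j * u ∈ S := by
    rcases hjV with rfl | rfl | rfl
    · exact mul_mem (subset_closure (by simp)) huS
    · exact mul_mem (subset_closure (by simp)) huS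
    · exact mul_mem (mul_mem (subset_closure (by simp)) (subset_closure (by simp))) huS
  have hru : (r : G) * u * (r : G)⁻¹ = j * u := by
    have h1 := hconjS u huS
    have h2 : ∀ d ∈ S, d = 1 ∨ d = j ∨ d = u ∨ d = j * u := by
      intro d hd
      refine hU.four_cent W ?_ ?_
      · exact hjc d (hSR hd)
      · exact hScomm u huS d hd
    rcases h2 _ h1 with h | h | h | h
    · exact absurd (conj_eq_one_iff.mp h) (ne_one_of_two W.hf)
    · exfalso
      apply W.ne
      apply (MulAut.conj (r : G)).injective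
      show (r : G) * j * (r : G)⁻¹ = (r : G) * u * (r : G)⁻¹
      rw [h, hjc r r.2, mul_inv_cancel_right]
    · exfalso
      apply hrS
      show (r : G) ∈ S
      rcases hU.four_cent W (hjc r r.2) (mul_inv_eq_iff_eq_mul.mp h) with h' | h' | h' | h'
      · rw [h']; exact one_mem _
      · rw [h']; rcases hjV with rfl | rfl | rfl
        · exact subset_closure (by simp)
        · exact subset_closure (by simp)
        · exact mul_mem (subset_closure (by simp)) (subset_closure (by simp))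
      · rw [h']; exact huS
      · rw [h']; exact hju
    · exact h
  have huju : k (j * u) = k u := by rw [← hru, hconj _ hrL]
  have hsq := hprod j u hjL huL W
  rw [hjk, huju, htot] at hsq
  have hku : k u = k e₀ := by
    have hpos : 0 < k e₀ := Nat.card_pos
    have h7 : k u * k u = k e₀ * k e₀ := Nat.eq_of_mul_eq_mul_left hpos (by rw [← mul_assoc]; linarith [hsq])
    exact Nat.mul_self_inj.mp h7
  rcases hu with h | h | h
  · rw [h, hjk]
  · rw [h, hku]
  · rw [h, huju, hku]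

end Uni

end Cfsg.Agent.GenDih45
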