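import Cfsg.Agent.GenDih45.Extras
import Cfsg.Agent.GenDih45.PGL

/-!
# Maximal class 2-subgroups with a marked involution
-/

set_option autoImplicit false

namespace Cfsg.Agent.GenDih45

open Subgroup

universe u

variable {G : Type u} [Group G]

/-- `P = ⟨r⟩ ∪ z⟨r⟩` with `C_P(z)` the four-group `{1, z, j, z * j}`, `j` the involution of `⟨r⟩`. -/
structure MC (P : Subgroup G) (z r j : G) : Prop where
  hz : orderOf z = 2
  zP : z ∈ P
  rP : r ∈ P
  hj : orderOf j = 2
  jP : j ∈ P
  jc : ∀ x ∈ P, x * j = j * x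
  cz : ∀ x ∈ P, x * z = z * x → x = 1 ∨ x = z ∨ x = j ∨ x = z * j
  zr : z ∉ zpowers r
  znorm : ∀ x ∈ zpowers r, z * x * z ∈ zpowers r
  cases : ∀ x ∈ P, x ∈ zpowers r ∨ z * x ∈ zpowers r
  parity : ∀ x ∈ zpowers r, x ∈ zpowers (r * r) ∨ r⁻¹ * x ∈ zpowers (r * r)
  jR : j ∈ zpowers (r * r)
  uniq : ∀ x ∈ zpowers r, x * x = 1 → x = 1 ∨ x = j
  conjz : ∀ c ∈ zpowers (r * r), ∃ x ∈ zpowers r, x * z * x⁻¹ = z * c
  conjw : ∀ c ∈ zpowers (r * r), ∃ x ∈ zpowers r, x * (z * r) * x⁻¹ = z * r * c

theorem mem_rr_le {r x : G} (hx : x ∈ zpowers (r * r)) : x ∈ zpowers r :=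
  zpowers_le.mpr (mul_mem (mem_zpowers r) (mem_zpowers r)) hx

theorem zpowers_comm {r x y : G} (hx : x ∈ zpowers r) (hy : y ∈ zpowers r) : x * y = y * x := by
  obtain ⟨i, rfl⟩ := mem_zpowers_iff.mp hx
  obtain ⟨k, rfl⟩ := mem_zpowers_iff.mp hy
  exact (Commute.zpow_zpow_self r i k).eq

theorem exists_MC [Finite G] {P : Subgroup G} (hP : IsPGroup 2 P) {z r : G} (hz : orderOf z = 2)
    (hzP : z ∈ P) (hrP : r ∈ P) (hzr : z ∉ zpowers r) (hzn : z * r * z ∈ zpowers r)
    (hcases : ∀ x ∈ P, x ∈ zpowers r ∨ z * x ∈ zpowers r)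
    (hfour : Nat.card (P ⊓ cent z : Subgroup G) = 4) (hr : r * r ≠ 1) : ∃ j, MC P z r j := by
  haveI : Fact (Nat.Prime 2) := ⟨Nat.prime_two⟩
  have hzz := mul_self_of_two hz
  set K := zpowers r with hK
  have hKP : K ≤ P := zpowers_le.mpr hrP
  have hn : ∀ x ∈ K, z * x * z ∈ K := by
    intro x hx
    obtain ⟨i, rfl⟩ := mem_zpowers_iff.mp hx
    have h := zpow_mem hzn i
    rw [show z * r * z = MulAut.conj z r by
      rw [MulAut.conj_apply, inv_eq_of_mul_eq_one_right hzz], ← map_zpow, MulAut.conj_apply,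
      inv_eq_of_mul_eq_one_right hzz] at h
    exact h
  obtain ⟨k, hk⟩ := IsPGroup.iff_orderOf.mp hP ⟨r, hrP⟩
  rw [Subgroup.orderOf_mk] at hk
  have hk2 : 2 ≤ k := by
    by_contra h
    apply hr
    rw [← pow_two]
    refine orderOf_dvd_iff_pow_eq_one.mp (hk ▸ ?_)
    exact (pow_dvd_pow 2 (show k ≤ 1 by omega)).trans (by norm_num)
  set m := 2 ^ (k - 2) with hm
  have hk4 : orderOf r = 4 * m := by
    rw [hk, hm, show (4 : ℕ) = 2 ^ 2 from rfl, ← pow_add, Nat.add_sub_cancel' hk2]
  have hm0 : 0 < m := pow_pos two_pos _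
  set j := r ^ (2 * m) with hjdef
  have hj : orderOf j = 2 := by
    rw [hjdef, orderOf_pow_of_dvd (by omega) ⟨2, by rw [hk4]; ring⟩, hk4,
      show 4 * m = 2 * m * 2 by ring, Nat.mul_div_cancel_left _ (by omega)]
  have hjR : j ∈ zpowers (r * r) := by
    rw [hjdef, pow_mul, ← pow_two r]
    exact pow_mem (mem_zpowers _) _
  have hjK : j ∈ K := pow_mem (mem_zpowers r) _
  have huniq : ∀ x ∈ K, x * x = 1 → x = 1 ∨ x = j := by
    intro x hx hxx
    by_cases h1 : x = 1
    · exact Or.inl h1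
    have hxK2 : orderOf (⟨x, hx⟩ : K) = 2 := by
      rw [Subgroup.orderOf_mk]; exact orderOf_two_of hxx h1
    have hjK2 : orderOf (⟨j, hjK⟩ : K) = 2 := by rw [Subgroup.orderOf_mk, hj]
    exact Or.inr (congrArg Subtype.val (Involution.involution_unique_of_isCyclic hxK2 hjK2))
  have hjz : z * j * z = j := by
    have h2 : (z * j * z) * (z * j * z) = 1 := by
      calc (z * j * z) * (z * j * z) = z * j * (z * z) * j * z := by group
        _ = z * (j * j) * z := by rw [hzz]; group
        _ = 1 := by rw [mul_self_of_two hj, mul_one, hzz]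
    refine (huniq _ (hn j hjK) h2).resolve_left fun h => ?_
    apply ne_one_of_two hj
    calc j = (z * z) * j * (z * z) := by rw [hzz, one_mul, mul_one]
      _ = z * (z * j * z) * z := by group
      _ = 1 := by rw [h, mul_one, hzz]
  have hjzc : j * z = z * j := by
    calc j * z = z * j * z * z := by rw [hjz]
      _ = z * j := by rw [mul_assoc, hzz, mul_one]
  have hjc : ∀ x ∈ P, x * j = j * x := by
    intro x hx
    rcases hcases x hx with h | h
    · exact zpowers_comm h hjK
    · have := zpowers_comm h hjK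
      calc x * j = z * (z * x * j) := by rw [mul_assoc z x, ← mul_assoc, hzz, one_mul]
        _ = z * (j * (z * x)) := by rw [this]
        _ = (z * j * z) * x := by group
        _ = _ := by rw [hjz]
  have hcz : ∀ x ∈ P, x * z = z * x → x = 1 ∨ x = z ∨ x = j ∨ x = z * j := by
    intro x hx hxz
    classical
    by_contra hcon
    push Not at hcon
    obtain ⟨h1, h2, h3, h4⟩ := hcon
    have hmem : ∀ y ∈ ({1, z, j, z * j, x} : Finset G), y ∈ P ⊓ cent z := by
      intro y hy
      simp only [Finset.mem_insert, Finset.mem_singleton] at hy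
      rcases hy with rfl | rfl | rfl | rfl | rfl
      · exact one_mem _
      · exact ⟨hzP, mem_cent.mpr rfl⟩
      · exact ⟨hKP hjK, mem_cent.mpr hjzc⟩
      · exact ⟨mul_mem hzP (hKP hjK), mem_cent.mpr (by rw [mul_assoc, hjzc])⟩
      · exact ⟨hx, mem_cent.mpr hxz⟩
    have hzj : z ≠ j := fun h => hzr (h ▸ hjK)
    have hcard : ({1, z, j, z * j, x} : Finset G).card = 5 := by
      rw [Finset.card_insert_of_notMem, Finset.card_insert_of_notMem, Finset.card_insert_of_notMem,
        Finset.card_insert_of_notMem, Finset.card_singleton]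
      · simp [h4.symm]
      · simp only [Finset.mem_insert, Finset.mem_singleton, not_or]
        exact ⟨fun h => ne_one_of_two hz (left_eq_mul.mp (h.trans hjzc.symm) ▸ rfl), h3.symm⟩
      · simp only [Finset.mem_insert, Finset.mem_singleton, not_or]
        exact ⟨hzj, fun h => ne_one_of_two hj (left_eq_mul.mp h), h2.symm⟩
      · simp only [Finset.mem_insert, Finset.mem_singleton, not_or]
        refine ⟨(ne_one_of_two hz).symm, (ne_one_of_two hj).symm, fun h => hzj ?_, h1.symm⟩
        rw [← inv_of_two hz]; exact inv_eq_of_mul_eq_one_right h.symm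
    have h5 : ({1, z, j, z * j, x} : Finset G).card ≤ Nat.card (P ⊓ cent z : Subgroup G) := by
      rw [← Nat.card_eq_finsetCard]
      refine Nat.card_le_card_of_injective
        (fun y : ↥({1, z, j, z * j, x} : Finset G) =>
          (⟨y.1, hmem y.1 y.2⟩ : ↥(P ⊓ cent z : Subgroup G))) fun a b h => Subtype.ext ?_
      exact congrArg (fun w : ↥(P ⊓ cent z : Subgroup G) => (w : G)) h
    omega
  -- the commutator map on `⟨r⟩`
  let ψ : K →* K :=
    { toFun := fun x => ⟨z * x * z * (x : G)⁻¹, mul_mem (hn x x.2) (inv_mem x.2)⟩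
      map_one' := by ext; simp [hzz]
      map_mul' := fun a b => Subtype.ext (by
        show z * ((a : G) * b) * z * ((a : G) * b)⁻¹ =
          z * (a : G) * z * (a : G)⁻¹ * (z * (b : G) * z * (b : G)⁻¹)
        have e : z * ((a : G) * b) * z = (z * (a : G) * z) * (z * (b : G) * z) := by
          calc z * ((a : G) * b) * z = z * (a : G) * 1 * b * z := by group
            _ = _ := by rw [← hzz]; group
        have c1 : (a : G)⁻¹ * (z * (b : G) * z) = z * (b : G) * z * (a : G)⁻¹ :=
          zpowers_comm (inv_mem a.2) (hn b b.2)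
        have c2 : ((b : G))⁻¹ * (a : G)⁻¹ = (a : G)⁻¹ * (b : G)⁻¹ :=
          zpowers_comm (inv_mem b.2) (inv_mem a.2)
        rw [e, mul_inv_rev, c2]
        calc z * (a : G) * z * (z * (b : G) * z) * ((a : G)⁻¹ * (b : G)⁻¹)
            = z * (a : G) * z * (z * (b : G) * z * (a : G)⁻¹) * (b : G)⁻¹ := by group
          _ = _ := by rw [← c1]; group) }
  have hker : Nat.card ψ.ker = 2 := by
    have h : ψ.ker = zpowers (⟨j, hjK⟩ : K) := by
      refine le_antisymm (fun x hx => ?_) (zpowers_le.mpr (Subtype.ext ?_))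
      · have hx' : z * (x : G) * z = x := mul_inv_eq_one.mp (congrArg Subtype.val (MonoidHom.mem_ker.mp hx))
        have hxz : (x : G) * z = z * x := by
          calc (x : G) * z = z * x * z * z := by rw [hx']
            _ = z * x := by rw [mul_assoc, hzz, mul_one]
        rcases hcz x (hKP x.2) hxz with e | e | e | e
        · rw [show x = 1 from Subtype.ext e]; exact one_mem _
        · exact absurd (e ▸ x.2) hzr
        · rw [show x = ⟨j, hjK⟩ from Subtype.ext e]; exact mem_zpowers _
        · have h := mul_mem x.2 (inv_mem hjK)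
          rw [e, mul_inv_cancel_right] at h
          exact absurd h hzr
      · show z * j * z * j⁻¹ = 1
        rw [hjz, mul_inv_cancel]
    rw [h, Nat.card_zpowers, Subgroup.orderOf_mk, hj]
  have hidx : ψ.range.index = 2 := by
    have h1 := ψ.range.card_mul_index
    rw [← ψ.ker.card_mul_index, index_ker, hker, mul_comm 2] at h1
    exact Nat.eq_of_mul_eq_mul_left Nat.card_pos h1
  have hrr : ∀ c ∈ zpowers (r * r), ∃ x ∈ K, z * x * z * x⁻¹ = c := by
    intro c hc
    obtain ⟨i, rfl⟩ := mem_zpowers_iff.mp hc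
    obtain ⟨x, hx⟩ := zpow_mem (mul_self_mem_of_index_two hidx (⟨r, mem_zpowers r⟩ : K)) i
    exact ⟨x, x.2, by simpa [ψ] using congrArg Subtype.val hx⟩
  refine ⟨j, hz, hzP, hrP, hj, hKP hjK, hjc, hcz, hzr, hn, hcases, ?_, hjR, huniq, ?_, ?_⟩
  · intro x hx
    obtain ⟨i, rfl⟩ := mem_zpowers_iff.mp hx
    rcases Int.even_or_odd i with ⟨l, rfl⟩ | ⟨l, rfl⟩
    · exact Or.inl (mem_zpowers_iff.mpr ⟨l, by
        rw [← pow_two, ← zpow_natCast, ← zpow_mul]; congr 1; ring⟩)
    · refine Or.inr (mem_zpowers_iff.mpr ⟨l, ?_⟩)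
      rw [← pow_two, ← zpow_natCast, ← zpow_mul, ← zpow_neg_one, ← zpow_add]
      congr 1; ring
  · intro c hc
    obtain ⟨x, hx, h⟩ := hrr c hc
    refine ⟨x, hx, ?_⟩
    rw [← h]
    calc x * z * x⁻¹ = (z * z) * x * z * x⁻¹ := by rw [hzz, one_mul]
      _ = _ := by group
  · intro c hc
    obtain ⟨x, hx, h⟩ := hrr c hc
    refine ⟨x, hx, ?_⟩
    rw [← h]
    have e : r * (z * x * z * x⁻¹) = (z * x * z) * (r * x⁻¹) := by
      rw [← mul_assoc, zpowers_comm (mem_zpowers r) (hn x hx), mul_assoc]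
    calc x * (z * r) * x⁻¹ = (z * z) * x * z * r * x⁻¹ := by rw [hzz]; group
      _ = z * ((z * x * z) * (r * x⁻¹)) := by group
      _ = _ := by rw [← e]; group

namespace MC

variable {P : Subgroup G} {z r j : G} (h : MC P z r j)

include h

theorem jK : j ∈ zpowers r := mem_rr_le h.jR

theorem r_notMem : r ∉ zpowers (r * r) := by
  intro hr
  obtain ⟨i, hi⟩ := mem_zpowers_iff.mp hr
  have hodd : r ^ (2 * i - 1) = 1 := by
    rw [zpow_sub, zpow_one, zpow_mul, show r ^ (2 : ℤ) = r * r by
      rw [show (2 : ℤ) = (2 : ℕ) from rfl, zpow_natCast, pow_two], hi, mul_inv_cancel]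
  obtain ⟨l, hl⟩ := mem_zpowers_iff.mp h.jK
  have h1 : j ^ (2 * i - 1) = 1 := by rw [← hl, ← zpow_mul, mul_comm, zpow_mul, hodd, one_zpow]
  apply ne_one_of_two h.hj
  calc j = j ^ (2 * i - 1) * ((j * j) ^ (i - 1))⁻¹ := by
        rw [← pow_two, ← zpow_natCast, ← zpow_mul, ← zpow_neg, ← zpow_add,
          show 2 * i - 1 + -(((2 : ℕ) : ℤ) * (i - 1)) = 1 by push_cast; ring, zpow_one]
    _ = 1 := by rw [h1, mul_self_of_two h.hj, one_zpow, inv_one, one_mul]

theorem out_mul {x y : G} (hx : x ∈ P) (hxK : x ∉ zpowers r) (hy : y ∈ P) (hyK : y ∉ zpowers r) :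
    x * y ∈ zpowers r := by
  have h1 := (h.cases x hx).resolve_left hxK
  have h2 := (h.cases y hy).resolve_left hyK
  have hzz := mul_self_of_two h.hz
  have : x * y = z * (z * x) * z * (z * y) := by
    calc x * y = (z * z) * x * (z * z) * y := by rw [hzz, one_mul, mul_one]
      _ = _ := by group
  rw [this]
  exact mul_mem (h.znorm _ h1) h2

/-- The involutions of `P`: `j`, the conjugates of `z`, and translates of `z * r`. -/
theorem involution_cases {x : G} (hx : x ∈ P) (hx2 : orderOf x = 2) :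
    x = j ∨ IsConj z x ∨ IsConj (z * r) x := by
  have hzz := mul_self_of_two h.hz
  rcases h.cases x hx with h1 | h1
  · exact Or.inl ((h.uniq x h1 (mul_self_of_two hx2)).resolve_left (ne_one_of_two hx2))
  rcases h.parity _ h1 with h2 | h2
  · obtain ⟨y, -, hy⟩ := h.conjz _ h2
    exact Or.inr (Or.inl (isConj_iff.mpr ⟨y, by rw [hy, ← mul_assoc, hzz, one_mul]⟩))
  · obtain ⟨y, -, hy⟩ := h.conjw _ h2
    refine Or.inr (Or.inr (isConj_iff.mpr ⟨y, ?_⟩))
    rw [hy]
    calc z * r * (r⁻¹ * (z * x)) = (z * z) * x := by group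
      _ = x := by rw [hzz, one_mul]

theorem pairwise {a b c : G} (haP : a ∈ P) (hbP : b ∈ P) (hcP : c ∈ P) (ha : orderOf a = 2)
    (hb : orderOf b = 2) (hc : orderOf c = 2) (hab : a * b = b * a) (hac : a * c = c * a)
    (hbc : b * c = c * b) (hne : a ≠ b) : c = a ∨ c = b ∨ c = a * b := by
  have hin : ∀ x ∈ zpowers r, orderOf x = 2 → x = j := fun x hx h2 =>
    (h.uniq x hx (mul_self_of_two h2)).resolve_left (ne_one_of_two h2)
  have hout : ∀ x y, x ∈ P → x ∉ zpowers r → y ∈ P → y ∉ zpowers r → orderOf x = 2 →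
      orderOf y = 2 → x * y = y * x → y = x ∨ y = x * j := by
    intro x y hx hxK hy hyK hx2 hy2 hxy
    have h1 : (x * y) * (x * y) = 1 := by
      calc x * y * (x * y) = x * (y * x) * y := by group
        _ = (x * x) * (y * y) := by rw [← hxy]; group
        _ = 1 := by rw [mul_self_of_two hx2, mul_self_of_two hy2, one_mul]
    have h3 : y = x * (x * y) := by rw [← mul_assoc, mul_self_of_two hx2, one_mul]
    rcases h.uniq _ (h.out_mul hx hxK hy hyK) h1 with h' | h' <;> rw [h'] at h3
    · exact Or.inl (by rw [h3, mul_one])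
    · exact Or.inr h3
  by_cases haA : a ∈ zpowers r
  · have ea := hin a haA ha
    have hbA : b ∉ zpowers r := fun h' => hne (ea.trans (hin b h' hb).symm)
    by_cases hcA : c ∈ zpowers r
    · exact Or.inl ((hin c hcA hc).trans ea.symm)
    · rcases hout b c hbP hbA hcP hcA hb hc hbc with h' | h'
      · exact Or.inr (Or.inl h')
      · exact Or.inr (Or.inr (by rw [h', ea, h.jc b hbP]))
  · by_cases hbA : b ∈ zpowers r
    · have eb := hin b hbA hb
      by_cases hcA : c ∈ zpowers r
      · exact Or.inr (Or.inl ((hin c hcA hc).trans eb.symm))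
      · rcases hout a c haP haA hcP hcA ha hc hac with h' | h'
        · exact Or.inl h'
        · exact Or.inr (Or.inr (by rw [h', eb]))
    · have eb := (hout a b haP haA hbP hbA ha hb hab).resolve_left (Ne.symm hne)
      by_cases hcA : c ∈ zpowers r
      · refine Or.inr (Or.inr ?_)
        rw [hin c hcA hc, eb, ← mul_assoc, mul_self_of_two ha, one_mul]
      · rcases hout a c haP haA hcP hcA ha hc hac with h' | h'
        · exact Or.inl h'
        · exact Or.inr (Or.inl (h'.trans eb.symm))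

end MC

theorem MC.noEight [Finite G] {P : Sylow 2 G} {z r j : G} (h : MC (P : Subgroup G) z r j) :
    NoEight G := by
  intro a b c ha hb hc hab hac hbc hne
  have hS : IsPGroup 2 (closure ({a, b, c} : Set G)) := by
    haveI hcm : IsMulCommutative (closure ({a, b, c} : Set G)) :=
      Subgroup.isMulCommutative_closure (by
        rintro x (rfl | rfl | rfl) y (rfl | rfl | rfl) <;>
          first | rfl | assumption | exact hab.symm | exact hac.symm | exact hbc.symm)
    intro x
    refine ⟨1, Subtype.ext ?_⟩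
    simp only [pow_one, pow_two, Subgroup.coe_mul, Subgroup.coe_one]
    refine Subgroup.closure_induction (p := fun x _ => x * x = 1) ?_ (one_mul 1) ?_ ?_ x.2
    · rintro x (rfl | rfl | rfl) <;> exact mul_self_of_two (by assumption)
    · intro x y hx hy h1 h2
      have hxy : x * y = y * x := congrArg Subtype.val (mul_comm'
        (⟨x, hx⟩ : closure ({a, b, c} : Set G)) ⟨y, hy⟩)
      calc x * y * (x * y) = x * (y * x) * y := by group
        _ = (x * x) * (y * y) := by rw [← hxy]; group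
        _ = 1 := by rw [h1, h2, one_mul]
    · intro x _ h1
      rw [← mul_inv_rev, h1, inv_one]
  obtain ⟨g, hg⟩ := sylow_two_conj P hS
  have hmul : ∀ x y : G, g * x * g⁻¹ * (g * y * g⁻¹) = g * (x * y) * g⁻¹ := fun x y => by group
  have hinj := (MulAut.conj g).injective
  rcases h.pairwise (a := g * a * g⁻¹) (b := g * b * g⁻¹) (c := g * c * g⁻¹)
    (hg a (subset_closure (by simp))) (hg b (subset_closure (by simp)))
    (hg c (subset_closure (by simp))) (by rw [orderOf_conj', ha]) (by rw [orderOf_conj', hb])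
    (by rw [orderOf_conj', hc]) (by rw [hmul, hmul, hab]) (by rw [hmul, hmul, hac])
    (by rw [hmul, hmul, hbc]) (fun h' => hne (hinj h')) with h' | h' | h'
  · exact Or.inl (hinj h')
  · exact Or.inr (Or.inl (hinj h'))
  · exact Or.inr (Or.inr (hinj (h'.trans (hmul a b))))

end Cfsg.Agent.GenDih45
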