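import Cfsg.Agent.GenDih45.MaxClass
import Cfsg.Agent.GenDih45.Alpha
import Cfsg.Agent.GenDih45.KLemma
import Cfsg.Agent.GenDih45.Axes

/-!
# The Sylow subgroup is of maximal class and not in the centraliser of `z`
-/

set_option autoImplicit false
set_option maxHeartbeats 1000000

namespace Cfsg.Agent.GenDih45

open Subgroup

universe u

variable {G : Type u} [Group G]

namespace MC

variable {P : Subgroup G} {z r j : G} (h : MC P z r j)

include h

theorem znorm_rr {x : G} (hx : x ∈ zpowers (r * r)) : z * x * z ∈ zpowers (r * r) := by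
  have hzz := mul_self_of_two h.hz
  obtain ⟨i, rfl⟩ := mem_zpowers_iff.mp hx
  obtain ⟨k, hk⟩ := mem_zpowers_iff.mp (h.znorm r (mem_zpowers r))
  have e : ∀ y : G, z * y * z = MulAut.conj z y := fun y => by
    rw [MulAut.conj_apply, inv_of_two h.hz]
  rw [e, map_zpow]
  refine zpow_mem (mem_zpowers_iff.mpr ⟨k, ?_⟩) i
  rw [← e, (Commute.refl r).mul_zpow, hk]
  calc z * r * z * (z * r * z) = z * r * (z * z) * r * z := by group
    _ = _ := by rw [hzz]; group

theorem j_ne_z : j ≠ z := fun e => h.zr (e ▸ h.jK)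

theorem z_mul_r_ne : z * r ≠ j := fun e => by
  have h1 := mul_mem h.jK (inv_mem (mem_zpowers r))
  rw [← e, mul_inv_cancel_right] at h1
  exact h.zr h1

theorem restrict {L : Subgroup G} (hPL : P ≤ L) : MC (P.subgroupOf L) (⟨z, hPL h.zP⟩ : L)
    ⟨r, hPL h.rP⟩ ⟨j, hPL h.jP⟩ := by
  have hz : ∀ (x : L) (a : G) (ha : a ∈ L), x ∈ zpowers (⟨a, ha⟩ : L) ↔ (x : G) ∈ zpowers a := by
    intro x a ha
    rw [mem_zpowers_iff, mem_zpowers_iff]
    exact exists_congr fun i => ⟨fun e => by rw [← e]; simp, fun e => Subtype.ext (by simpa using e)⟩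
  have hlift : ∀ (a : G) (ha : a ∈ L) (x : G), x ∈ zpowers a → x ∈ L :=
    fun a ha x hx => zpowers_le.mpr ha hx
  constructor
  · rw [Subgroup.orderOf_mk]; exact h.hz
  · exact h.zP
  · exact h.rP
  · rw [Subgroup.orderOf_mk]; exact h.hj
  · exact h.jP
  · exact fun x hx => Subtype.ext (h.jc x hx)
  · intro x hx e
    rcases h.cz x hx (congrArg Subtype.val e) with e' | e' | e' | e'
    exacts [Or.inl (Subtype.ext e'), Or.inr (Or.inl (Subtype.ext e')),
      Or.inr (Or.inr (Or.inl (Subtype.ext e'))), Or.inr (Or.inr (Or.inr (Subtype.ext e')))]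
  · exact fun e => h.zr ((hz _ _ _).mp e)
  · exact fun x hx => (hz _ _ _).mpr (h.znorm _ ((hz _ _ _).mp hx))
  · intro x hx
    rcases h.cases x hx with e | e
    exacts [Or.inl ((hz _ _ _).mpr e), Or.inr ((hz _ _ _).mpr e)]
  · intro x hx
    rcases h.parity _ ((hz _ _ _).mp hx) with e | e
    exacts [Or.inl ((hz x (r * r) _).mpr e), Or.inr ((hz _ (r * r) _).mpr e)]
  · exact (hz _ (r * r) _).mpr h.jR
  · intro x hx e
    rcases h.uniq _ ((hz _ _ _).mp hx) (congrArg Subtype.val e) with e' | e'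
    exacts [Or.inl (Subtype.ext e'), Or.inr (Subtype.ext e')]
  · intro c hc
    obtain ⟨x, hx, e⟩ := h.conjz _ ((hz c (r * r) _).mp hc)
    exact ⟨⟨x, hlift r (hPL h.rP) x hx⟩, (hz _ _ _).mpr hx, Subtype.ext e⟩
  · intro c hc
    obtain ⟨x, hx, e⟩ := h.conjw _ ((hz c (r * r) _).mp hc)
    exact ⟨⟨x, hlift r (hPL h.rP) x hx⟩, (hz _ _ _).mpr hx, Subtype.ext e⟩

end MC

variable [Finite G]

theorem MC.exists_cyclic_part {P : Sylow 2 G} {z r j : G} (h : MC (P : Subgroup G) z r j)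
    (hw : z * r * (z * r) = 1) (hzj : ¬ IsConj z j) (hwj : ¬ IsConj (z * r) j) :
    ∃ X : Subgroup G, X.Normal ∧ (∀ x : G, Odd (orderOf x) → x ∈ X) ∧
      IsCyclic ↥((P : Subgroup G) ⊓ X) := by
  set w := z * r with hwdef
  have hzz := mul_self_of_two h.hz
  have hKP : zpowers r ≤ (P : Subgroup G) := zpowers_le.mpr h.rP
  have hwK : w ∉ zpowers r := fun e => h.zr (by
    have h1 := mul_mem e (inv_mem (mem_zpowers r))
    rwa [hwdef, mul_inv_cancel_right] at h1)
  have hKi : (zpowers r).relIndex (P : Subgroup G) = 2 := by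
    refine relIindex_eq_two_iff'.mpr ⟨z, h.zP, fun x hx => ?_⟩
    by_cases hxK : x ∈ zpowers r
    · refine Or.inr ⟨hxK, fun e => h.zr ?_⟩
      simpa using mul_mem e (inv_mem hxK)
    · exact Or.inl ⟨(h.cases x hx).resolve_left hxK, hxK⟩
  have hno : ∀ v : G, v * v = 1 → v ≠ 1 → ¬ IsConj v j → ∀ g : G, g * v * g⁻¹ ∉ zpowers r := by
    intro v hv hv1 hvj g hg
    have hcj : orderOf (g * v * g⁻¹) = 2 := by rw [orderOf_conj']; exact orderOf_two_of hv hv1
    exact hvj (isConj_iff.mpr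
      ⟨g, (h.uniq _ hg (mul_self_of_two hcj)).resolve_left (ne_one_of_two hcj)⟩)
  obtain ⟨X₁, hX₁, hi₁, hz₁⟩ := Involution.thompson_transfer P (zpowers r) hKP hKi hzz
    (hno z hzz (ne_one_of_two h.hz) hzj)
  obtain ⟨X₂, hX₂, hi₂, hw₂⟩ := Involution.thompson_transfer P (zpowers r) hKP hKi hw
    (hno w hw (fun e => hwK (e ▸ one_mem _)) hwj)
  refine ⟨X₁ ⊓ X₂, @Subgroup.normal_inf_normal _ _ X₁ X₂ hX₁ hX₂,
    fun x hx => ⟨mem_of_index_two_of_odd hi₁ hx, mem_of_index_two_of_odd hi₂ hx⟩, ?_⟩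
  have hle : (P : Subgroup G) ⊓ (X₁ ⊓ X₂) ≤ zpowers r := by
    rintro x ⟨hxP, hx1, hx2⟩
    rcases h.cases x hxP with e | e
    · exact e
    exfalso
    have hx1 : x ∈ X₁ := hx1
    have hx2 : x ∈ X₂ := hx2
    have hsq₁ : zpowers (r * r) ≤ X₁ := zpowers_le.mpr (mul_self_mem_of_index_two hi₁ r)
    have hsq₂ : zpowers (r * r) ≤ X₂ := zpowers_le.mpr (mul_self_mem_of_index_two hi₂ r)
    rcases h.parity _ e with e' | e'
    · exact hz₁ (by simpa using mul_mem (hsq₁ e') (inv_mem hx1))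
    · refine hw₂ ?_
      have h1 := mul_mem hx2 (inv_mem (hsq₂ e'))
      have : x * (r⁻¹ * (z * x))⁻¹ = z * r := by
        rw [mul_inv_rev, inv_inv, mul_inv_rev, inv_of_two h.hz]; group
      rwa [this] at h1
  exact isCyclic_of_injective (inclusion hle) (inclusion_injective hle)

theorem pgl_exists_commuting {F : Type*} [Field F] [Fintype F] (hodd : Odd (Fintype.card F))
    (hq : 3 < Fintype.card F) {t : Matrix.ProjGenLinGroup (Fin 2) F} (ht : orderOf t = 2) :
    ∃ x, x * t = t * x ∧ x * x ≠ 1 := by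
  classical
  have h2 : (2 : F) ≠ 0 := by
    intro h
    obtain ⟨p, hp⟩ := CharP.exists F
    haveI : Fact p.Prime := ⟨CharP.char_is_prime F p⟩
    obtain ⟨n, -, hn⟩ := FiniteField.card F p
    have h' : ((2 : ℕ) : F) = 0 := by exact_mod_cast h
    rw [CharP.cast_eq_zero_iff F p] at h'
    rw [(Nat.prime_dvd_prime_iff_eq Fact.out Nat.prime_two).mp h'] at hn
    rw [hn] at hodd
    exact Nat.not_even_iff_odd.mpr hodd (Nat.even_pow.mpr ⟨even_two, n.pos.ne'⟩)
  obtain ⟨M, rfl⟩ := QuotientGroup.mk_surjective t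
  have hMM := mul_self_of_two ht
  have hM1 := ne_one_of_two ht
  replace hMM : M * M ∈ Subgroup.center (GL (Fin 2) F) :=
    (QuotientGroup.eq_one_iff _).mp hMM
  rw [Matrix.GeneralLinearGroup.center_eq_range_scalar] at hMM
  replace hM1 : M ∉ Subgroup.center (GL (Fin 2) F) := fun e => hM1 ((QuotientGroup.eq_one_iff _).mpr e)
  rw [Matrix.GeneralLinearGroup.center_eq_range_scalar] at hM1
  obtain ⟨μ, hμ⟩ := hMM
  have hμ' : (M : Matrix (Fin 2) (Fin 2) F) * M = Matrix.scalar (Fin 2) (μ : F) := by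
    rw [← Matrix.GeneralLinearGroup.coe_mul, ← hμ]; rfl
  obtain ⟨a, ha0, ha⟩ : ∃ a : F, a ≠ 0 ∧ a * a ≠ μ := by
    by_contra hcon
    push Not at hcon
    obtain ⟨a, ha⟩ : ∃ a : F, a ∉ ({0, 1, -1} : Finset F) := by
      by_contra h
      push Not at h
      have := Finset.card_le_card (s := (Finset.univ : Finset F)) fun a _ => h a
      rw [Finset.card_univ] at this
      have h3 : ({0, 1, -1} : Finset F).card ≤ 3 := Finset.card_le_three
      omega
    simp only [Finset.mem_insert, Finset.mem_singleton, not_or] at ha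
    have e : a * a = 1 := by rw [hcon a ha.1, ← hcon 1 one_ne_zero, one_mul]
    rcases mul_self_eq_one_iff.mp e with e' | e'
    exacts [ha.2.1 e', ha.2.2 e']
  set B : Matrix (Fin 2) (Fin 2) F := Matrix.scalar (Fin 2) a + M
  set C : Matrix (Fin 2) (Fin 2) F := Matrix.scalar (Fin 2) a - M
  have hcs : ∀ N : Matrix (Fin 2) (Fin 2) F, Commute (Matrix.scalar (Fin 2) a) N := fun N =>
    Matrix.scalar_commute a (fun r' => Commute.all _ _) N
  have hBC : B * C = Matrix.scalar (Fin 2) (a * a - μ) := by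
    rw [map_sub, map_mul, ← hμ']
    show (Matrix.scalar (Fin 2) a + M) * (Matrix.scalar (Fin 2) a - M) = _
    rw [add_mul, mul_sub, mul_sub, (hcs M).eq]
    abel
  have hB : IsUnit B := by
    rw [Matrix.isUnit_iff_isUnit_det, isUnit_iff_ne_zero]
    intro h0
    have := congrArg Matrix.det hBC
    rw [Matrix.det_mul, h0, zero_mul] at this
    simp [Matrix.det_diagonal, Fin.prod_univ_two, sub_eq_zero, ha] at this
    all_goals exact ha (sub_eq_zero.mp (pow_eq_zero_iff two_ne_zero |>.mp this.symm))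
  obtain ⟨u, hu⟩ := hB
  refine ⟨QuotientGroup.mk u, ?_, fun h => ?_⟩
  · show QuotientGroup.mk (s := Subgroup.center (GL (Fin 2) F)) (u * M) = QuotientGroup.mk (M * u)
    congr 1
    refine Units.ext ?_
    rw [Units.val_mul, Units.val_mul, hu]
    exact ((hcs _).add_left (Commute.refl _)).eq
  · replace h : u * u ∈ Subgroup.center (GL (Fin 2) F) := (QuotientGroup.eq_one_iff _).mp h
    rw [Matrix.GeneralLinearGroup.center_eq_range_scalar] at h
    obtain ⟨ν, hν⟩ := h
    have hν' : B * B = Matrix.scalar (Fin 2) (ν : F) := by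
      rw [← hu, ← Matrix.GeneralLinearGroup.coe_mul, ← hν]; rfl
    have h3 : (2 * a) • (M : Matrix (Fin 2) (Fin 2) F) =
        Matrix.scalar (Fin 2) ((ν : F) - a * a - μ) := by
      rw [map_sub, map_sub, ← hν', map_mul, ← hμ']
      show _ = (Matrix.scalar (Fin 2) a + M) * (Matrix.scalar (Fin 2) a + M) - _ - _
      rw [add_mul, mul_add, mul_add, ← (hcs M).eq, two_mul, add_smul,
        show a • (M : Matrix (Fin 2) (Fin 2) F) = Matrix.scalar (Fin 2) a * M by
          ext i k; simp [Matrix.scalar_apply]]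
      abel
    have h4 : (M : Matrix (Fin 2) (Fin 2) F) =
        Matrix.scalar (Fin 2) ((2 * a)⁻¹ * ((ν : F) - a * a - μ)) := by
      have := congrArg ((2 * a)⁻¹ • ·) h3
      simp only [inv_smul_smul₀ (mul_ne_zero h2 ha0)] at this
      rw [this]
      ext i k
      simp [Matrix.scalar_apply, Matrix.diagonal_apply]
    have hne : (2 * a)⁻¹ * ((ν : F) - a * a - μ) ≠ 0 := by
      intro h0
      rw [h0, map_zero] at h4
      have := congrArg Matrix.det h4
      rw [Matrix.det_zero] at this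
      exact (Matrix.GeneralLinearGroup.det_ne_zero M) this
    exact hM1 ⟨Units.mk0 _ hne, Units.ext (by rw [h4]; rfl)⟩

/-- The elements `g` inverting `k` outside `M` and centralising it inside. -/
def signedCent (M : Subgroup G) [M.Normal] (hi : M.index = 2) (k : G) : Subgroup G where
  carrier := {g | (g ∈ M ∧ g * k * g⁻¹ = k) ∨ (g ∉ M ∧ g * k * g⁻¹ = k⁻¹)}
  one_mem' := Or.inl ⟨one_mem M, by simp⟩
  inv_mem' := by
    rintro g (⟨h1, h2⟩ | ⟨h1, h2⟩)
    · refine Or.inl ⟨inv_mem h1, ?_⟩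
      conv_lhs => rw [← h2]
      group
    · refine Or.inr ⟨fun h => h1 (by simpa using inv_mem h), ?_⟩
      have : g * k⁻¹ * g⁻¹ = k := by rw [← conj_inv, h2, inv_inv]
      conv_lhs => rw [← this]
      group
  mul_mem' := by
    intro g g' hg hg'
    have e : g * g' * k * (g * g')⁻¹ = g * (g' * k * g'⁻¹) * g⁻¹ := by group
    have hm := mul_mem_iff_of_index_two (a := g) (b := g') hi
    rcases hg with ⟨h1, h2⟩ | ⟨h1, h2⟩ <;> rcases hg' with ⟨h3, h4⟩ | ⟨h3, h4⟩
    · exact Or.inl ⟨mul_mem h1 h3, by rw [e, h4, h2]⟩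
    · exact Or.inr ⟨fun h => by simp [hm, h1, h3] at h, by rw [e, h4, ← conj_inv, h2]⟩
    · exact Or.inr ⟨fun h => by simp [hm, h1, h3] at h, by rw [e, h4, h2]⟩
    · exact Or.inl ⟨hm.mpr (by simp [h1, h3]), by rw [e, h4, ← conj_inv, h2, inv_inv]⟩

variable {z r j : G} {A : Subgroup G} {P : Sylow 2 G}

theorem Shape.cent_four (hA : Shape z A) (h : MC (P : Subgroup G) z r j) {x : G}
    (hxz : x * z = z * x) (hxj : x * j = j * x) : x = 1 ∨ x = z ∨ x = j ∨ x = z * j := by
  have hjz : j * z = z * j := (h.jc z h.zP).symm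
  have hjA : j ∉ A := fun e => h.j_ne_z
    ((hA.uniq j e (mul_self_of_two h.hj)).resolve_left (ne_one_of_two h.hj))
  obtain ⟨hjj, hinv⟩ := hA.out j hjz hjA
  have key : ∀ a ∈ A, j * a = a * j → a = 1 ∨ a = z := fun a ha e => hA.uniq a ha (by
    have h1 := hinv a ha
    rw [e, mul_inv_cancel_right] at h1
    exact eq_inv_iff_mul_eq_one.mp h1)
  by_cases hxA : x ∈ A
  · rcases key x hxA hxj.symm with e | e
    exacts [Or.inl e, Or.inr (Or.inl e)]
  · have h1 := key (x * j) (hA.mul x j hxz hxA hjz hjA) (by rw [← mul_assoc, ← hxj])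
    have hx : x = x * j * j := by rw [mul_assoc, hjj, mul_one]
    rcases h1 with e | e <;> rw [e] at hx
    · exact Or.inr (Or.inr (Or.inl (by rw [hx, one_mul])))
    · exact Or.inr (Or.inr (Or.inr hx))

theorem beta_two (hO : ∀ N : Subgroup G, N.Normal → Odd (Nat.card N) → N = ⊥)
    (hns : ¬ Group.IsSolvable G) (hA : Shape z A) (h : MC (P : Subgroup G) z r j)
    (hzj : ¬ IsConj z j) (hw : z * r * (z * r) = 1) (hwj : IsConj (z * r) j) :
    ∃ (F : Type) (_ : Field F) (_ : Fintype F), 3 < Fintype.card F ∧ Odd (Fintype.card F) ∧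
      Nonempty (G ≃* Matrix.ProjGenLinGroup (Fin 2) F) := by
  haveI : Fact (Nat.Prime 2) := ⟨Nat.prime_two⟩
  have hfour := fun {x : G} => hA.cent_four h (x := x)
  set w := z * r with hwdef
  have hzz := mul_self_of_two h.hz
  have hjz : j * z = z * j := (h.jc z h.zP).symm
  have hwP : w ∈ (P : Subgroup G) := mul_mem h.zP h.rP
  have hzrz : z * r * z = r⁻¹ := eq_inv_iff_mul_eq_one.mpr (by rw [mul_assoc, hw])
  have hconj2 : ∀ c ∈ zpowers r, z * c * z = c⁻¹ := by
    intro c hc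
    obtain ⟨i, rfl⟩ := mem_zpowers_iff.mp hc
    have e : ∀ y : G, z * y * z = MulAut.conj z y := fun y => by
      rw [MulAut.conj_apply, inv_of_two h.hz]
    rw [e, map_zpow, ← e, hzrz, inv_zpow]
  have hwconj : ∀ c ∈ zpowers r, w * c * w = c⁻¹ := by
    intro c hc
    calc w * c * w = z * (r * c) * z * r := by rw [hwdef]; group
      _ = (r * c)⁻¹ * r := by rw [hconj2 _ (mul_mem (mem_zpowers r) hc)]
      _ = c⁻¹ := by group
  let Q : Subgroup G :=
    { carrier := {x | x ∈ zpowers (r * r) ∨ w * x ∈ zpowers (r * r)}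
      one_mem' := Or.inl (one_mem _)
      inv_mem' := by
        rintro x (e | e)
        · exact Or.inl (inv_mem e)
        · refine Or.inr ?_
          have h1 := hwconj _ (mem_rr_le e)
          have : x⁻¹ = x := by
            refine inv_eq_of_mul_eq_one_right ?_
            calc x * x = (w * w) * x * (w * w) * x := by rw [hw]; group
              _ = w * (w * x) * w * (w * x) := by group
              _ = 1 := by rw [h1, inv_mul_cancel]
          rwa [this]
      mul_mem' := by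
        rintro x y (e | e) (e' | e')
        · exact Or.inl (mul_mem e e')
        · refine Or.inr ?_
          have : w * (x * y) = (w * x * w) * (w * y) := by
            calc w * (x * y) = w * x * (w * w) * y := by rw [hw]; group
              _ = _ := by group
          rw [this, hwconj _ (mem_rr_le e)]
          exact mul_mem (inv_mem e) e'
        · exact Or.inr (by rw [← mul_assoc]; exact mul_mem e e')
        · refine Or.inl ?_
          have : x * y = (w * (w * x) * w) * (w * y) := by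
            calc x * y = (w * w) * x * (w * w) * y := by rw [hw]; group
              _ = _ := by group
          rw [this, hwconj _ (mem_rr_le e)]
          exact mul_mem (inv_mem e) e' }
  have hQP : Q ≤ (P : Subgroup G) := by
    rintro x (e | e)
    · exact zpowers_le.mpr h.rP (mem_rr_le e)
    · simpa using mul_mem (inv_mem hwP) (zpowers_le.mpr h.rP (mem_rr_le e))
  have hQj : ∀ x ∈ Q, orderOf x = 2 → IsConj x j := by
    rintro x (e | e) hx
    · rw [(h.uniq x (mem_rr_le e) (mul_self_of_two hx)).resolve_left (ne_one_of_two hx)]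
    · obtain ⟨y, -, hy⟩ := h.conjw _ e
      refine (IsConj.symm ?_).trans hwj
      exact isConj_iff.mpr ⟨y, by rw [hy, ← mul_assoc, hw, one_mul]⟩
  have hzQ : z ∉ Q := by
    rintro (e | e)
    · exact h.zr (mem_rr_le e)
    · rw [hwdef, hzrz] at e
      exact h.r_notMem (by simpa using inv_mem e)
  have hQi : Q.relIndex (P : Subgroup G) = 2 := by
    refine relIindex_eq_two_iff'.mpr ⟨z, h.zP, fun x hx => ?_⟩
    by_cases hxQ : x ∈ Q
    · refine Or.inr ⟨hxQ, fun e => hzQ ?_⟩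
      simpa using mul_mem e (inv_mem hxQ)
    · refine Or.inl ⟨?_, hxQ⟩
      rcases h.cases x hx with e | e
      · rcases h.parity x e with e' | e'
        · exact absurd (Or.inl e') hxQ
        · refine Or.inr ?_
          have : w * (z * x) = (z * r * z) * x := by rw [hwdef]; group
          rw [this, hzrz]
          exact e'
      · rcases h.parity _ e with e' | e'
        · exact Or.inl e'
        · refine absurd (Or.inr ?_) hxQ
          have : w * x = w * (z * r) * (r⁻¹ * (z * x)) := by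
            calc w * x = w * (z * z) * x := by rw [hzz, mul_one]
              _ = _ := by group
          rw [this, ← hwdef, hw, one_mul]
          exact e'
  obtain ⟨M, hMn, hMi, hzM⟩ := Involution.thompson_transfer P Q hQP hQi hzz
    fun g hg => hzj ((isConj_iff.mpr ⟨g, rfl⟩).trans (hQj _ hg (by rw [orderOf_conj', h.hz])))
  haveI := hMn
  have hR2M : zpowers (r * r) ≤ M := zpowers_le.mpr (mul_self_mem_of_index_two hMi r)
  have hjM : j ∈ M := hR2M h.jR
  have hwM : w ∈ M := by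
    obtain ⟨g, hg⟩ := isConj_iff.mp hwj.symm
    exact hg ▸ hMn.conj_mem j hjM g
  have hQM : ∀ x ∈ Q, x ∈ M := by
    rintro x (e | e)
    · exact hR2M e
    · simpa using mul_mem (inv_mem hwM) (hR2M e)
  have hPM : ∀ x ∈ (P : Subgroup G), x ∈ M → x ∈ Q := by
    intro x hx hxM
    by_contra hxQ
    have h2 : z * x ∈ Q := (relIindex_eq_two_iff'.mp hQi).elim fun _ _ => by
      rcases h.cases x hx with e | e
      · rcases h.parity x e with e' | e'
        · exact absurd (Or.inl e') hxQ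
        · refine Or.inr ?_
          have : w * (z * x) = (z * r * z) * x := by rw [hwdef]; group
          rw [this, hzrz]; exact e'
      · rcases h.parity _ e with e' | e'
        · exact Or.inl e'
        · refine absurd (Or.inr ?_) hxQ
          have : w * x = w * (z * r) * (r⁻¹ * (z * x)) := by
            calc w * x = w * (z * z) * x := by rw [hzz, mul_one]
              _ = _ := by group
          rw [this, ← hwdef, hw, one_mul]; exact e'
    exact hzM (by simpa using mul_mem (hQM _ h2) (inv_mem hxM))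
  -- `C(j)` is the product of its odd part and `P`
  have hPL : (P : Subgroup G) ≤ cent j := fun x hx => mem_cent.mpr (h.jc x hx)
  set P' : Sylow 2 (cent j) := P.subtype hPL with hP'
  have h' : MC (P' : Subgroup (cent j)) ⟨z, hPL h.zP⟩ ⟨r, hPL h.rP⟩ ⟨j, hPL h.jP⟩ := by
    rw [hP', Sylow.coe_subtype]; exact h.restrict hPL
  have hnoconj : ∀ (v : G) (hv : v ∈ cent j), v ≠ j →
      ¬ IsConj (⟨v, hv⟩ : cent j) ⟨j, hPL h.jP⟩ := by
    intro v hv hvj hconj
    obtain ⟨g, hg⟩ := isConj_iff.mp hconj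
    have h1 : (g : G) * v * (g : G)⁻¹ = j := congrArg Subtype.val hg
    apply hvj
    calc v = (g : G)⁻¹ * ((g : G) * v * (g : G)⁻¹) * g := by group
      _ = (g : G)⁻¹ * (j * g) := by rw [h1, mul_assoc]
      _ = j := by rw [← mem_cent.mp g.2]; group
  obtain ⟨X, hXn, hXodd, hXc⟩ := h'.exists_cyclic_part (Subtype.ext hw)
    (hnoconj z (hPL h.zP) h.j_ne_z.symm) (hnoconj w (hPL hwP) h.z_mul_r_ne)
  haveI := hXn
  obtain ⟨N, hNn, hNodd, hNall, hdec⟩ := exists_complement_of_inf_cyclic P' X hXodd hXc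
  have hOle : O j ≤ N.map (cent j).subtype := (closure_le _).mpr fun x hx =>
    ⟨⟨x, hx.1⟩, hNall _ (by rw [Subgroup.orderOf_mk]; exact hx.2), rfl⟩
  have hOodd : Odd (Nat.card (O j)) := by
    refine Odd.of_dvd_nat ?_ (card_dvd_of_le hOle)
    rwa [card_map_of_injective (cent j).subtype_injective]
  have hdec' : ∀ x, x * j = j * x → ∃ o ∈ O j, ∃ p ∈ (P : Subgroup G), x = o * p := by
    intro x hx
    obtain ⟨n, hn, p, hp, e⟩ := hdec ⟨x, mem_cent.mpr hx⟩
    refine ⟨n, mem_oddPart_of n.2 ?_, p, ?_, congrArg Subtype.val e⟩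
    · rw [Subgroup.orderOf_coe]; exact odd_orderOf_of_mem hNodd hn
    · rw [hP', Sylow.coe_subtype] at hp; exact hp
  have hOM : ∀ x ∈ O j, x ∈ M := fun x hx =>
    mem_of_index_two_of_odd hMi (odd_orderOf_of_mem hOodd hx)
  have hOj : ∀ x ∈ O j, x * j = j * x := fun x hx => mem_cent.mp (oddPart_le _ hx)
  have hconjO : ∀ g, g * j = j * g → ∀ x ∈ O j, g * x * g⁻¹ ∈ O j := by
    intro g hg x hx
    exact conj_mem_oddPart (fun y hy => mul_mem (mul_mem (mem_cent.mpr hg) hy)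
      (inv_mem (mem_cent.mpr hg))) x hx
  -- `z` inverts `O(C(j))`
  have hzinv : ∀ x ∈ O j, z * x * z = x⁻¹ := by
    intro x hx
    obtain ⟨i, hi, v, hv, rfl⟩ := exists_inv_mul_fixed hzz hOodd
      (fun y hy => hconjO z hjz.symm y hy) hx
    have hv1 : v = 1 := by
      have hvc := hfour (mem_cent.mp hv.2) (hOj v hv.1)
      have hvo := odd_orderOf_of_mem hOodd hv.1
      rcases hvc with e | e | e | e
      · exact e
      · rw [e, h.hz] at hvo; exact absurd hvo (by decide)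
      · rw [e, h.hj] at hvo; exact absurd hvo (by decide)
      · rw [e] at hvo
        refine absurd hvo ?_
        rw [orderOf_two_of (x := z * j) (by
          calc z * j * (z * j) = z * (j * z) * j := by group
            _ = (z * z) * (j * j) := by rw [hjz]; group
            _ = 1 := by rw [hzz, mul_self_of_two h.hj, one_mul])
          (fun e' => h.j_ne_z (by
            rw [← inv_of_two h.hz]; exact (inv_eq_of_mul_eq_one_right e').symm))]
        decide
    rw [hv1, mul_one]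
    have := hi.2
    rwa [inv_of_two h.hz] at this
  have hOab : ∀ x ∈ O j, ∀ y ∈ O j, x * y = y * x := by
    intro x hx y hy
    have e := hzinv _ (mul_mem hx hy)
    have e2 : z * (x * y) * z = (z * x * z) * (z * y * z) := by
      calc z * (x * y) * z = z * x * (z * z) * y * z := by rw [hzz]; group
        _ = _ := by group
    rw [e2, hzinv x hx, hzinv y hy, ← mul_inv_rev] at e
    exact (inv_injective e).symm
  -- `r * r` centralises it
  have hzfix : ∀ x ∈ O j, ∀ v, v * x = x * v → (z * v * z) * x = x * (z * v * z) := by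
    intro x hx v hv
    have e : v * x⁻¹ = x⁻¹ * v := (Commute.inv_right hv).eq
    rw [← hzinv x hx] at e
    calc z * v * z * x = z * (v * (z * x * z)) * z := by
          rw [show z * (v * (z * x * z)) * z = z * v * z * x * (z * z) by group, hzz, mul_one]
      _ = z * ((z * x * z) * v) * z := by rw [e]
      _ = (z * z) * x * (z * v * z) := by group
      _ = x * (z * v * z) := by rw [hzz, one_mul]
  obtain ⟨w', hw'⟩ : ∃ v, v = z * w * z := ⟨_, rfl⟩
  have hw'2 : w' * w' = 1 := by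
    calc w' * w' = z * w * (z * z) * w * z := by rw [hw']; group
      _ = z * (w * w) * z := by rw [hzz]; group
      _ = 1 := by rw [hw, mul_one, hzz]
  obtain ⟨c₁, hc₁⟩ : ∃ c, c = w * w' := ⟨_, rfl⟩
  have hrrK : r * r ∈ zpowers r := mul_mem (mem_zpowers r) (mem_zpowers r)
  have hc₁eq : c₁ = (r * r)⁻¹ := by
    rw [hc₁, hw']
    calc w * (z * w * z) = z * r * ((z * z) * r * z) := by rw [hwdef]; group
      _ = z * (r * r) * z := by rw [hzz]; group
      _ = _ := hconj2 _ hrrK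
  have hc₁P : c₁ * j = j * c₁ := hc₁eq ▸ h.jc _ (inv_mem (mul_mem h.rP h.rP))
  have hzc₁ : z * c₁ * z = c₁⁻¹ := hc₁eq ▸ hconj2 _ (inv_mem hrrK)
  have hc₁sq : ∀ x ∈ O j, c₁⁻¹ * x * c₁ = c₁ * x * c₁⁻¹ := by
    intro x hx
    have h1 := hzinv _ (hconjO c₁ hc₁P x hx)
    have h2 : z * (c₁ * x * c₁⁻¹) * z = c₁⁻¹ * x⁻¹ * c₁ := by
      calc z * (c₁ * x * c₁⁻¹) * z = z * c₁ * (z * z) * x * (z⁻¹ * z) * c₁⁻¹ * z := by
            rw [hzz, inv_mul_cancel]; group
        _ = (z * c₁ * z) * (z * x * z⁻¹) * (z * c₁⁻¹ * z) := by group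
        _ = (z * c₁ * z) * (z * x * z) * (z * c₁ * z)⁻¹ := by
            rw [mul_inv_rev, mul_inv_rev, inv_of_two h.hz, ← mul_assoc z c₁⁻¹ z]
        _ = _ := by rw [hzc₁, hzinv x hx, inv_inv]
    rw [h2] at h1
    calc c₁⁻¹ * x * c₁ = (c₁⁻¹ * x⁻¹ * c₁)⁻¹ := by group
      _ = _ := by rw [h1, inv_inv]
  have hw'eq : w' = w * c₁ := by rw [hc₁, ← mul_assoc, hw, one_mul]
  have hw'j : w' * j = j * w' := hw' ▸ h.jc _ (mul_mem (mul_mem h.zP hwP) h.zP)
  have hw'inv : w'⁻¹ = w' := inv_eq_of_mul_eq_one_right hw'2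
  have hwinv : w⁻¹ = w := inv_eq_of_mul_eq_one_right hw
  have hzwz : z * w' * z = w := by
    rw [hw']
    calc z * (z * w * z) * z = (z * z) * w * (z * z) := by group
      _ = w := by rw [hzz, one_mul, mul_one]
  have hc₁fix : ∀ x ∈ O j, c₁ * x * c₁⁻¹ = x := by
    intro x hx
    obtain ⟨i, hi, k, hk, rfl⟩ := exists_inv_mul_fixed hw hOodd
      (fun y hy => hconjO w (h.jc w hwP) y hy) hx
    obtain ⟨hiO, hiw⟩ := hi
    rw [hwinv] at hiw
    have hkw : k * w = w * k := mem_cent.mp hk.2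
    have hkw' : w' * k = k * w' := hw' ▸ hzfix k hk.1 w hkw.symm
    have hfk : c₁ * k * c₁⁻¹ = k := by
      rw [mul_inv_eq_iff_eq_mul, hc₁, mul_assoc, hkw', ← mul_assoc, ← hkw, mul_assoc]
    obtain ⟨i', hi'⟩ : ∃ v, v = w' * i * w' := ⟨_, rfl⟩
    have hi'O : i' ∈ O j := by
      have h0 := hconjO w' hw'j i hiO
      rw [hw'inv, ← hi'] at h0
      exact h0
    have hci : c₁ * i * c₁⁻¹ = w * i' * w := by
      rw [hi', hc₁, mul_inv_rev, hw'inv, hwinv]; group
    have hi'w : w * i' * w = i'⁻¹ := by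
      rw [← hci, ← hc₁sq i hiO]
      calc c₁⁻¹ * i * c₁ = w' * (w * i * w) * w' := by rw [hc₁, mul_inv_rev, hw'inv, hwinv]; group
        _ = w' * i⁻¹ * w' := by rw [hiw]
        _ = _ := by rw [hi', mul_inv_rev, mul_inv_rev, hw'inv, mul_assoc]
    obtain ⟨m, hm⟩ : ∃ v, v = i * i' := ⟨_, rfl⟩
    have hmO : m ∈ O j := hm ▸ mul_mem hiO hi'O
    have hmw' : w' * m = m * w' := by
      calc w' * m = (w' * i * w') * ((w' * w') * i * w') := by rw [hm, hi', hw'2]; group
        _ = i' * i * w' := by rw [hw'2, one_mul, hi']; group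
        _ = _ := by rw [hOab _ hi'O _ hiO, hm]
    have hmw : w * m = m * w := by
      have h1 := hzfix m hmO w' hmw'
      rwa [hzwz] at h1
    have hmw2 : w * m * w = m⁻¹ := by
      calc w * m * w = (w * i * w) * (w * i' * w) := by
            rw [hm, show w * i * w * (w * i' * w) = w * i * (w * w) * i' * w by group, hw]
            group
        _ = i⁻¹ * i'⁻¹ := by rw [hiw, hi'w]
        _ = _ := by rw [← mul_inv_rev, ← hOab _ hiO _ hi'O, hm]
    have hm1 : m = 1 := by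
      refine eq_one_of_odd_of_sq (odd_orderOf_of_mem hOodd hmO) ?_
      rw [hmw, mul_assoc, hw, mul_one] at hmw2
      exact eq_inv_iff_mul_eq_one.mp hmw2
    have hi'i : i' = i⁻¹ := eq_inv_of_mul_eq_one_right (hm ▸ hm1)
    have hfi : c₁ * i * c₁⁻¹ = i := by rw [hci, hi'w, hi'i, inv_inv]
    calc c₁ * (i * k) * c₁⁻¹ = (c₁ * i * c₁⁻¹) * (c₁ * k * c₁⁻¹) := by group
      _ = _ := by rw [hfi, hfk]
  have hRfix : ∀ c ∈ zpowers (r * r), ∀ x ∈ O j, c * x = x * c := by
    intro c hc x hx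
    have h1 : Commute c₁ x := mul_inv_eq_iff_eq_mul.mp (hc₁fix x hx)
    obtain ⟨i, rfl⟩ := mem_zpowers_iff.mp hc
    have h2 : r * r = c₁⁻¹ := by rw [hc₁eq, inv_inv]
    rw [h2]
    exact ((h1.inv_left).zpow_left i).eq
  -- the abelian part of the centraliser of `j` in `M`
  let A₀ : Subgroup G :=
    { carrier := {x | ∃ o ∈ O j, ∃ c ∈ zpowers (r * r), x = o * c}
      one_mem' := ⟨1, one_mem _, 1, one_mem _, (one_mul 1).symm⟩
      inv_mem' := by
        rintro x ⟨o, ho, c, hc, rfl⟩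
        refine ⟨o⁻¹, inv_mem ho, c⁻¹, inv_mem hc, ?_⟩
        rw [← mul_inv_rev, hRfix c hc o ho]
      mul_mem' := by
        rintro x y ⟨o, ho, c, hc, rfl⟩ ⟨o', ho', c', hc', rfl⟩
        refine ⟨o * o', mul_mem ho ho', c * c', mul_mem hc hc', ?_⟩
        rw [show o * c * (o' * c') = o * (c * o') * c' by group, hRfix c hc o' ho']
        group }
  have hA₀O : ∀ o ∈ O j, o ∈ A₀ := fun o ho => ⟨o, ho, 1, one_mem _, (mul_one o).symm⟩
  have hA₀R : ∀ c ∈ zpowers (r * r), c ∈ A₀ := fun c hc => ⟨1, one_mem _, c, hc, (one_mul c).symm⟩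
  have hA₀comm : ∀ x ∈ A₀, ∀ y ∈ A₀, x * y = y * x := by
    rintro x ⟨o, ho, c, hc, rfl⟩ y ⟨o', ho', c', hc', rfl⟩
    have e1 : Commute o o' := hOab o ho o' ho'
    have e2 : Commute c o' := hRfix c hc o' ho'
    have e3 : Commute o c' := (hRfix c' hc' o ho).symm
    have e4 : Commute c c' := zpowers_comm hc hc'
    exact ((e1.mul_right e3).mul_left (e2.mul_right e4)).eq
  have hA₀j : ∀ x ∈ A₀, x * j = j * x := fun x hx => hA₀comm x hx j (hA₀R j h.jR)
  have hA₀uniq : ∀ x ∈ A₀, x * x = 1 → x = 1 ∨ x = j := by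
    rintro x ⟨o, ho, c, hc, rfl⟩ hx
    have e2 : Commute o c := (hRfix c hc o ho).symm
    have hx' : o * o * (c * c) = 1 := by
      rw [← hx, show o * c * (o * c) = o * (c * o) * c by group, ← e2.eq]; group
    have hco : Odd (orderOf (c * c)) := by
      rw [show c * c = (o * o)⁻¹ from eq_inv_of_mul_eq_one_right hx', orderOf_inv]
      exact odd_orderOf_of_mem hOodd (mul_mem ho ho)
    have hcc : c * c = 1 := by
      obtain ⟨l, hl⟩ := IsPGroup.iff_orderOf.mp P.2 ⟨c * c, mul_mem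
        (zpowers_le.mpr h.rP (mem_rr_le hc)) (zpowers_le.mpr h.rP (mem_rr_le hc))⟩
      rw [Subgroup.orderOf_mk] at hl
      rw [hl] at hco
      rcases l with _ | l
      · exact orderOf_eq_one_iff.mp (by simpa using hl)
      · exact absurd hco (by simp [Nat.even_pow, ← Nat.not_even_iff_odd])
    rw [hcc, mul_one] at hx'
    have ho1 : o = 1 := eq_one_of_odd_of_sq (odd_orderOf_of_mem hOodd ho) hx'
    subst ho1
    rw [one_mul]
    exact h.uniq c (mem_rr_le hc) hcc
  have hwA₀ : w ∉ A₀ := by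
    intro hwA
    rcases hA₀uniq w hwA hw with e | e
    · exact h.zr (by
        have h1 : z = r⁻¹ := eq_inv_of_mul_eq_one_left e
        rw [h1]; exact inv_mem (mem_zpowers r))
    · exact h.z_mul_r_ne e
  have hdecM : ∀ x ∈ M, x * j = j * x → x ∈ A₀ ∨ x * w ∈ A₀ := by
    intro x hxM hxj
    obtain ⟨o, ho, p, hp, rfl⟩ := hdec' x hxj
    rcases hPM p hp (by simpa using mul_mem (inv_mem (hOM o ho)) hxM) with e | e
    · exact Or.inl ⟨o, ho, p, e, rfl⟩
    · refine Or.inr ⟨o, ho, (w * p)⁻¹, inv_mem e, ?_⟩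
      rw [mul_assoc, ← hwconj _ (mem_rr_le e)]
      congr 1
      calc p * w = (w * w) * p * w := by rw [hw, one_mul]
        _ = _ := by group
  have hconjM : ∀ x ∈ M, orderOf x = 2 → ∃ g ∈ M, g * j * g⁻¹ = x := by
    intro x hxM hx
    obtain ⟨g, hg⟩ := involution_conj_sylow P hx
    have hxj : IsConj x j := (isConj_iff.mpr ⟨g, rfl⟩).trans
      (hQj _ (hPM _ hg (hMn.conj_mem x hxM g)) (by rw [orderOf_conj', hx]))
    obtain ⟨k, hk⟩ := isConj_iff.mp hxj.symm
    by_cases hkM : k ∈ M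
    · exact ⟨k, hkM, hk⟩
    · refine ⟨k * z, (mul_mem_iff_of_index_two hMi).mpr (by simp [hkM, hzM]), ?_⟩
      rw [← hk]
      calc k * z * j * (k * z)⁻¹ = k * (z * j * z⁻¹) * k⁻¹ := by group
        _ = _ := by rw [← hjz, mul_inv_cancel_right]
  by_cases hK0 : ∀ k ∈ O j, k * w = w * k → k = 1
  · -- one class with the right centraliser: `M` is `PSL`
    have hwO : ∀ x ∈ O j, w * x * w = x⁻¹ := by
      intro x hx
      obtain ⟨i, hi, v, hv, rfl⟩ := exists_inv_mul_fixed hw hOodd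
        (fun y hy => hconjO w (h.jc w hwP) y hy) hx
      rw [hK0 v hv.1 (mem_cent.mp hv.2), mul_one]
      have h1 := hi.2
      rwa [hwinv] at h1
    have hwA : ∀ a ∈ A₀, w * a * w = a⁻¹ := by
      rintro a ⟨o, ho, c, hc, rfl⟩
      rw [mul_inv_rev, hRfix c⁻¹ (inv_mem hc) o⁻¹ (inv_mem ho), ← hwO o ho,
        ← hwconj c (mem_rr_le hc), show w * o * w * (w * c * w) = w * o * (w * w) * c * w by group,
        hw]
      group
    have hout : ∀ x ∈ M, x * j = j * x → x ∉ A₀ → ∃ a ∈ A₀, x = a * w := fun x hxM hxj hxA =>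
      ⟨x * w, (hdecM x hxM hxj).resolve_left hxA, by rw [mul_assoc, hw, mul_one]⟩
    have hU : Uni M := by
      refine ⟨fun p q hp hq => ?_, ⟨j, hjM⟩, A₀.subgroupOf M, by rw [Subgroup.orderOf_mk, h.hj], ?_⟩
      · rw [← Subgroup.orderOf_coe] at hp hq
        obtain ⟨a, haM, ha⟩ := hconjM p p.2 hp
        obtain ⟨b, hbM, hb⟩ := hconjM q q.2 hq
        refine isConj_iff.mpr ⟨⟨b, hbM⟩ * ⟨a, haM⟩⁻¹, Subtype.ext ?_⟩
        show b * a⁻¹ * (p : G) * (b * a⁻¹)⁻¹ = q
        rw [← ha, ← hb]; group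
      constructor
      · exact fun a ha => Subtype.ext (hA₀j a ha)
      · exact hA₀R j h.jR
      · exact fun a ha b hb => Subtype.ext (hA₀comm a ha b hb)
      · intro x hx hxA
        obtain ⟨a, ha, e⟩ := hout x x.2 (congrArg Subtype.val hx) hxA
        constructor
        · refine Subtype.ext ?_
          show (x : G) * x = 1
          rw [e, show a * w * (a * w) = a * (w * a * w) by group, hwA a ha, mul_inv_cancel]
        · intro b hb
          refine Subtype.ext ?_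
          show (x : G) * b * (x : G)⁻¹ = (b : G)⁻¹
          have hb' : (b : G) ∈ A₀ := hb
          rw [e, mul_inv_rev, hwinv, show a * w * (b : G) * (w * a⁻¹) = a * (w * (b : G) * w) * a⁻¹ by
            group, hwA _ hb', hA₀comm a ha _ (inv_mem hb'), mul_inv_cancel_right]
      · intro x y hx hxA hy hyA
        obtain ⟨a, ha, e⟩ := hout x x.2 (congrArg Subtype.val hx) hxA
        obtain ⟨b, hb, e'⟩ := hout y y.2 (congrArg Subtype.val hy) hyA
        show (x : G) * y ∈ A₀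
        rw [e, e', show a * w * (b * w) = a * (w * b * w) by group, hwA b hb]
        exact mul_mem ha (inv_mem hb)
      · intro a ha e
        rcases hA₀uniq a ha (congrArg Subtype.val e) with e' | e'
        exacts [Or.inl (Subtype.ext e'), Or.inr (Subtype.ext e')]
      · exact ⟨⟨w, hwM⟩, Subtype.ext (h.jc w hwP), hwA₀⟩
    refine pgl_of_uni_index_two hO hns h.noEight M hMi hU h.hz hzM fun c hc => ?_
    -- there is no central involution
    by_contra hall
    push Not at hall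
    obtain ⟨g, hg⟩ := involution_conj_sylow P hc
    rw [hall g, mul_inv_cancel_right] at hg
    rcases h.cz c hg (hall z).symm with e | e | e | e
    · exact ne_one_of_two hc e
    · exact hns (hA.isSolvable (e ▸ hall))
    · obtain ⟨k, hk⟩ := isConj_iff.mp hwj.symm
      rw [← e, hall k, mul_inv_cancel_right, e] at hk
      exact h.z_mul_r_ne hk.symm
    · obtain ⟨x, -, hx⟩ := h.conjz j h.jR
      have h1 : z = x⁻¹ * (z * j) * x := by rw [← hx]; group
      rw [← e, hall x⁻¹, mul_assoc, inv_mul_cancel, mul_one, e] at h1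
      exact ne_one_of_two h.hj (left_eq_mul.mp h1)
  -- a nontrivial fixed point leads to a strongly embedded subgroup with odd centre
  exfalso
  push Not at hK0
  obtain ⟨k₀, hk₀O, hk₀w, hk₀1⟩ := hK0
  have hk₀odd := odd_orderOf_of_mem hOodd hk₀O
  have hCfix : ∀ k ∈ O j, k * w = w * k → ∀ x ∈ M, x * j = j * x → x * k = k * x := by
    intro k hk hkw x hxM hxj
    rcases hdecM x hxM hxj with e | e
    · exact hA₀comm x e k (hA₀O k hk)
    · have e1 := hA₀comm _ e k (hA₀O k hk)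
      calc x * k = x * k * (w * w) := by rw [hw, mul_one]
        _ = x * (k * w) * w := by group
        _ = x * w * k * w := by rw [hkw]; group
        _ = k * x * (w * w) := by rw [e1]; group
        _ = _ := by rw [hw, mul_one]
  have hCj : ∀ k ∈ O j, k * w = w * k → cent j ≤ signedCent M hMi k := by
    intro k hk hkw x hx
    have hM' : ∀ y ∈ M, y * j = j * y → y ∈ signedCent M hMi k := fun y hy hyj =>
      Or.inl ⟨hy, by rw [hCfix k hk hkw y hy hyj, mul_inv_cancel_right]⟩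
    have hz' : z ∈ signedCent M hMi k := Or.inr ⟨hzM, by rw [inv_of_two h.hz, hzinv k hk]⟩
    by_cases hxM : x ∈ M
    · exact hM' x hxM (mem_cent.mp hx)
    · have h1 : z * x ∈ M := (mul_mem_iff_of_index_two hMi).mpr (by simp [hxM, hzM])
      have h2 := mul_mem hz' (hM' _ h1 (by
        rw [mul_assoc, mem_cent.mp hx, ← mul_assoc, ← hjz, mul_assoc]))
      rwa [← mul_assoc, hzz, one_mul] at h2
  have hswap : ∀ e, orderOf e = 2 → e * j = j * e → e ≠ j → ∃ τ, τ * j = j * τ ∧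
      τ * e * τ⁻¹ = e * j := by
    intro e he hej hne
    obtain ⟨l, hl⟩ := involution_conj_sylow P' (t := (⟨e, mem_cent.mpr hej⟩ : cent j))
      (by rw [Subgroup.orderOf_mk, he])
    rw [hP', Sylow.coe_subtype] at hl
    have hl' : (l : G) * e * (l : G)⁻¹ ∈ (P : Subgroup G) := hl
    set e' := (l : G) * e * (l : G)⁻¹ with he'
    have hlj : (l : G) * j * (l : G)⁻¹ = j := by rw [mem_cent.mp l.2, mul_inv_cancel_right]
    have he'2 : orderOf e' = 2 := by rw [he', orderOf_conj', he]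
    have hx : ∃ x ∈ zpowers r, x * e' * x⁻¹ = e' * j := by
      rcases h.cases e' hl' with e1 | e1
      · exact absurd ((MulAut.conj (l : G)).injective
          (((h.uniq e' e1 (mul_self_of_two he'2)).resolve_left (ne_one_of_two he'2)).trans
            hlj.symm)) hne
      · rcases h.parity _ e1 with e2 | e2
        · obtain ⟨x₁, hx₁, f₁⟩ := h.conjz _ e2
          obtain ⟨x₂, hx₂, f₂⟩ := h.conjz _ (mul_mem e2 h.jR)
          rw [← mul_assoc, hzz, one_mul] at f₁
          rw [show z * (z * e' * j) = (z * z) * e' * j by group, hzz, one_mul] at f₂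
          exact ⟨x₂ * x₁⁻¹, mul_mem hx₂ (inv_mem hx₁), by rw [← f₂, ← f₁]; group⟩
        · obtain ⟨x₁, hx₁, f₁⟩ := h.conjw _ e2
          obtain ⟨x₂, hx₂, f₂⟩ := h.conjw _ (mul_mem e2 h.jR)
          have hge : z * r * (r⁻¹ * (z * e')) = e' := by
            rw [show z * r * (r⁻¹ * (z * e')) = (z * z) * e' by group, hzz, one_mul]
          rw [hge] at f₁
          rw [← mul_assoc (z * r), hge] at f₂
          exact ⟨x₂ * x₁⁻¹, mul_mem hx₂ (inv_mem hx₁), by rw [← f₂, ← f₁]; group⟩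
    obtain ⟨x, hxK, hx⟩ := hx
    refine ⟨(l : G)⁻¹ * x * l, ?_, ?_⟩
    · exact mem_cent.mp (mul_mem (mul_mem (inv_mem l.2) (hPL (zpowers_le.mpr h.rP hxK))) l.2)
    · calc (l : G)⁻¹ * x * l * e * ((l : G)⁻¹ * x * l)⁻¹ = (l : G)⁻¹ * (x * e' * x⁻¹) * l := by
            rw [he']; group
        _ = (l : G)⁻¹ * (e' * ((l : G) * j * (l : G)⁻¹)) * l := by rw [hx, hlj]
        _ = _ := by rw [he']; group
  set W₀ : Subgroup M := (cent k₀).subgroupOf M with hW₀
  have hmemW : ∀ x : M, x ∈ W₀ ↔ (x : G) * k₀ = k₀ * x := fun x =>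
    ⟨fun hx => mem_cent.mp hx, fun hx => mem_cent.mpr hx⟩
  have hCjW : ∀ x : M, (x : G) * j = j * x → x ∈ W₀ := fun x hx =>
    (hmemW x).mpr (hCfix k₀ hk₀O hk₀w x x.2 hx)
  -- fusion in `W₀`
  have hfus : ∀ e ∈ (P : Subgroup G), e ∈ M → orderOf e = 2 →
      ∃ g : G, g ∈ M ∧ g * k₀ = k₀ * g ∧ g * j * g⁻¹ = e := by
    intro e heP heM he
    by_cases hej : e = j
    · exact ⟨1, one_mem M, by simp, by simp [hej]⟩
    have hejc : e * j = j * e := h.jc e heP
    obtain ⟨g₀, hg₀M, hg₀⟩ := hconjM e heM he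
    set k₁ := g₀⁻¹ * k₀ * g₀ with hk₁
    set j₁ := g₀⁻¹ * j * g₀ with hj₁
    have hj' : j = g₀⁻¹ * e * g₀ := by rw [← hg₀]; group
    have hj₁j : j₁ * j = j * j₁ := by
      rw [hj₁, hj']
      calc g₀⁻¹ * (g₀⁻¹ * e * g₀) * g₀ * (g₀⁻¹ * e * g₀)
          = g₀⁻¹ * ((g₀⁻¹ * e * g₀) * e) * g₀ := by group
        _ = g₀⁻¹ * (j * e) * g₀ := by rw [← hj']
        _ = g₀⁻¹ * (e * j) * g₀ := by rw [hejc]
        _ = g₀⁻¹ * (e * (g₀⁻¹ * e * g₀)) * g₀ := by rw [← hj']
        _ = _ := by group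
    have hj₁2 : orderOf j₁ = 2 := by
      rw [hj₁]; simpa using (orderOf_conj' g₀⁻¹ j).trans h.hj
    have hj₁ne : j₁ ≠ j := fun hh => hej (by
      rw [hj₁] at hh
      calc e = g₀ * j * g₀⁻¹ := hg₀.symm
        _ = g₀ * (g₀⁻¹ * j * g₀) * g₀⁻¹ := by rw [hh]
        _ = j := by group)
    have hk₀e : k₀ * e = e * k₀ := (hCfix k₀ hk₀O hk₀w e heM hejc).symm
    have hk₁j : k₁ * j = j * k₁ := by
      rw [hk₁, hj']
      calc g₀⁻¹ * k₀ * g₀ * (g₀⁻¹ * e * g₀) = g₀⁻¹ * (k₀ * e) * g₀ := by group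
        _ = _ := by rw [hk₀e]; group
    have hk₁O : k₁ ∈ O j := mem_oddPart_of (mem_cent.mpr hk₁j) (by
      have h1 := orderOf_conj' g₀⁻¹ k₀
      rw [inv_inv] at h1
      rw [hk₁, h1]; exact hk₀odd)
    have hj₁M : j₁ ∈ M := mul_mem (mul_mem (inv_mem hg₀M) hjM) hg₀M
    have hk₁w : k₁ * w = w * k₁ := by
      have hj₁A : j₁ ∉ A₀ := fun hh =>
        hj₁ne ((hA₀uniq j₁ hh (mul_self_of_two hj₁2)).resolve_left (ne_one_of_two hj₁2))
      have e1 := hA₀comm _ ((hdecM j₁ hj₁M hj₁j).resolve_left hj₁A) k₁ (hA₀O k₁ hk₁O)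
      have e2 : j₁ * k₁ = k₁ * j₁ := by
        rw [hj₁, hk₁]
        calc g₀⁻¹ * j * g₀ * (g₀⁻¹ * k₀ * g₀) = g₀⁻¹ * (j * k₀) * g₀ := by group
          _ = _ := by rw [← hOj k₀ hk₀O]; group
      have e3 : Commute w k₁ := by
        have : w = j₁⁻¹ * (j₁ * w) := by group
        rw [this]
        exact (Commute.inv_left e2).mul_left e1
      exact e3.symm.eq
    have htr : ∀ x, x * j = j * x → g₀ * x * g₀⁻¹ ∈ signedCent M hMi k₀ := by
      intro x hx
      have hxiff : g₀ * x * g₀⁻¹ ∈ M ↔ x ∈ M :=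
        ⟨fun hh => by simpa [mul_assoc] using mul_mem (mul_mem (inv_mem hg₀M) hh) hg₀M,
          fun hh => hMn.conj_mem x hh g₀⟩
      have key : g₀ * x * g₀⁻¹ * k₀ * (g₀ * x * g₀⁻¹)⁻¹ = g₀ * (x * k₁ * x⁻¹) * g₀⁻¹ := by
        rw [hk₁]; group
      rcases hCj k₁ hk₁O hk₁w (mem_cent.mpr hx) with ⟨a1, a2⟩ | ⟨a1, a2⟩
      · exact Or.inl ⟨hxiff.mpr a1, by rw [key, a2, hk₁]; group⟩
      · exact Or.inr ⟨fun hh => a1 (hxiff.mp hh), by rw [key, a2, hk₁]; group⟩
    obtain ⟨τ₁, hτ₁, hτ₁e⟩ := hswap e he hejc hej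
    obtain ⟨τ, hτ, hτe⟩ := hswap j₁ hj₁2 hj₁j hj₁ne
    set τ₂ := g₀ * τ * g₀⁻¹ with hτ₂
    have hτ₂j : τ₂ * j * τ₂⁻¹ = j * e := by
      calc τ₂ * j * τ₂⁻¹ = g₀ * (τ * j₁ * τ⁻¹) * g₀⁻¹ := by rw [hτ₂, hj₁]; group
        _ = g₀ * (g₀⁻¹ * j * g₀ * j) * g₀⁻¹ := by rw [hτe, hj₁]
        _ = j * (g₀ * j * g₀⁻¹) := by group
        _ = _ := by rw [hg₀]
    set g := τ₁ * τ₂ with hgdef
    have hgH : g ∈ signedCent M hMi k₀ :=
      mul_mem (hCj k₀ hk₀O hk₀w (mem_cent.mpr hτ₁)) (htr τ hτ)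
    have hge : g * j * g⁻¹ = e := by
      calc g * j * g⁻¹ = τ₁ * (τ₂ * j * τ₂⁻¹) * τ₁⁻¹ := by rw [hgdef]; group
        _ = (τ₁ * j * τ₁⁻¹) * (τ₁ * e * τ₁⁻¹) := by rw [hτ₂j]; group
        _ = j * (e * j) := by rw [hτ₁e, hτ₁, mul_inv_cancel_right]
        _ = j * j * e := by rw [hejc]; group
        _ = e := by rw [mul_self_of_two h.hj, one_mul]
    rcases hgH with ⟨a1, a2⟩ | ⟨a1, a2⟩
    · exact ⟨g, a1, mul_inv_eq_iff_eq_mul.mp a2, hge⟩
    · refine ⟨g * z, (mul_mem_iff_of_index_two hMi).mpr (by simp [a1, hzM]), ?_, ?_⟩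
      · refine mul_inv_eq_iff_eq_mul.mp ?_
        calc g * z * k₀ * (g * z)⁻¹ = g * (z * k₀ * z⁻¹) * g⁻¹ := by group
          _ = g * k₀⁻¹ * g⁻¹ := by rw [inv_of_two h.hz, hzinv k₀ hk₀O]
          _ = _ := by rw [← conj_inv, a2, inv_inv]
      · calc g * z * j * (g * z)⁻¹ = g * (z * j * z⁻¹) * g⁻¹ := by group
          _ = e := by rw [← hjz, mul_inv_cancel_right, hge]
  set R : Subgroup M := (P : Subgroup G).subgroupOf M with hR
  have hRW : R ≤ W₀ := fun x hx => hCjW x (h.jc _ hx)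
  have hone : ∀ x : M, x ∈ W₀ → orderOf x = 2 → ∃ a ∈ W₀, a * ⟨j, hjM⟩ * a⁻¹ = x := by
    intro x hx hx2
    have hRp : IsPGroup 2 (R.subgroupOf W₀) :=
      (P.2.comap_of_injective M.subtype M.subtype_injective).comap_of_injective W₀.subtype
        W₀.subtype_injective
    obtain ⟨S, hS⟩ := hRp.exists_le_sylow
    have hSR : (S : Subgroup W₀) = R.subgroupOf W₀ := by
      refine (eq_of_le_of_card_ge hS ?_).symm
      obtain ⟨g, hg⟩ := sylow_two_conj P ((S.2.map W₀.subtype).map M.subtype)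
      let f : ↥(S : Subgroup W₀) → R.subgroupOf W₀ := fun s =>
        ⟨⟨⟨g * ((s : W₀) : M) * g⁻¹, hMn.conj_mem _ ((s : W₀) : M).2 g⟩,
          hRW (hg _ ⟨((s : W₀) : M), ⟨(s : W₀), s.2, rfl⟩, rfl⟩)⟩,
          hg _ ⟨((s : W₀) : M), ⟨(s : W₀), s.2, rfl⟩, rfl⟩⟩
      refine Nat.card_le_card_of_injective f fun a b hab => ?_
      have h1 : g * ((a : W₀) : M) * g⁻¹ = g * ((b : W₀) : M) * g⁻¹ :=
        congrArg (fun q : R.subgroupOf W₀ => (((q : W₀) : M) : G)) hab
      exact Subtype.ext (Subtype.ext (Subtype.ext ((MulAut.conj g).injective h1)))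
    obtain ⟨l, hl⟩ := involution_conj_sylow S (t := (⟨x, hx⟩ : W₀))
      (by rw [Subgroup.orderOf_mk, hx2])
    rw [hSR] at hl
    have hl' : ((l : M) : G) * x * ((l : M) : G)⁻¹ ∈ (P : Subgroup G) := hl
    obtain ⟨g, hgM, hgk, hg⟩ := hfus _ hl'
      (mul_mem (mul_mem (l : M).2 x.2) (inv_mem (l : M).2))
      (by rw [orderOf_conj', Subgroup.orderOf_coe, hx2])
    refine ⟨(l : M)⁻¹ * ⟨g, hgM⟩, mul_mem (inv_mem l.2) ((hmemW _).mpr hgk), Subtype.ext ?_⟩
    show ((l : M) : G)⁻¹ * g * j * (((l : M) : G)⁻¹ * g)⁻¹ = x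
    calc ((l : M) : G)⁻¹ * g * j * (((l : M) : G)⁻¹ * g)⁻¹
        = ((l : M) : G)⁻¹ * (g * j * g⁻¹) * ((l : M) : G) := by group
      _ = _ := by rw [hg]; group
  have hW₀top : W₀ ≠ ⊤ := by
    intro htop
    have hcen : zpowers (⟨k₀, hOM k₀ hk₀O⟩ : M) ≤ center M := zpowers_le.mpr
      (mem_center_iff.mpr fun x => Subtype.ext ((hmemW x).mp (htop ▸ mem_top x)))
    have hn : (zpowers (⟨k₀, hOM k₀ hk₀O⟩ : M)).Normal := ⟨fun a ha g => by
      rwa [mem_center_iff.mp (hcen ha) g, mul_inv_cancel_right]⟩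
    have h1 := odd_normal_eq_bot_of_normal hO M _ hn
      (by rw [Nat.card_zpowers, Subgroup.orderOf_mk]; exact hk₀odd)
    exact hk₀1 (congrArg Subtype.val (zpowers_eq_bot.mp h1))
  have hjW : (⟨j, hjM⟩ : M) ∈ W₀ := hCjW _ rfl
  have hse : Cfsg.IsStronglyEmbedded W₀ := by
    refine Involution.stronglyEmbedded_iff.mpr ⟨hW₀top,
      Involution.even_card_of_involution hjW (by rw [Subgroup.orderOf_mk, h.hj]),
      fun g t ht ht2 hgt => ?_⟩
    obtain ⟨a, ha, ea⟩ := hone t ht ht2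
    obtain ⟨b, hb, eb⟩ := hone _ hgt (by rw [orderOf_conj', ht2])
    rw [← ea] at eb
    have hc : b⁻¹ * g * a ∈ W₀ := by
      refine hCjW _ (congrArg Subtype.val (?_ : b⁻¹ * g * a * ⟨j, hjM⟩ = ⟨j, hjM⟩ * (b⁻¹ * g * a)))
      calc b⁻¹ * g * a * ⟨j, hjM⟩ = b⁻¹ * (g * (a * ⟨j, hjM⟩ * a⁻¹) * g⁻¹) * g * a := by group
        _ = _ := by rw [← eb]; group
    have := mul_mem (mul_mem hb hc) (inv_mem ha)
    simpa [mul_assoc] using this
  refine false_of_central_odd (odd_normal_eq_bot_of_normal hO M) hse (a := ⟨j, hjM⟩) (b := ⟨w, hwM⟩)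
    ⟨by rw [Subgroup.orderOf_mk, h.hj], by
      rw [Subgroup.orderOf_mk]
      exact orderOf_two_of hw fun e => hwA₀ (e ▸ one_mem A₀), Subtype.ext (h.jc w hwP).symm,
      fun e => h.z_mul_r_ne (congrArg Subtype.val e).symm⟩
    hjW (hCjW _ (h.jc w hwP)) (k₀ := ⟨k₀, hOM k₀ hk₀O⟩) ((hmemW _).mpr rfl)
    (fun m hm => Subtype.ext ((hmemW m).mp hm).symm) (by rw [Subgroup.orderOf_mk]; exact hk₀odd)
    fun e => hk₀1 (congrArg Subtype.val e)

end Cfsg.Agent.GenDih45
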