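import Cfsg.Agent.GenDih45.Simple
import Cfsg.Agent.CharDeep.OrderP.Recog
import Cfsg.Agent.SubConj42.SL2
import Cfsg.Agent.Lib.LinearGroup.Card
import Cfsg.Agent.Lib.LinearGroup.Generation
import Cfsg.Agent.S2202

/-!
# Two-dimensional linear groups in characteristic two, and consequences of S2202
-/

set_option autoImplicit false

namespace Cfsg.Agent.GenDih45

open Subgroup

universe u

variable {F : Type*} [Field F] [Fintype F] [CharP F 2]

theorem sl_two_element_sq {g : Matrix.SpecialLinearGroup (Fin 2) F} {k : ℕ}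
    (h : g ^ 2 ^ k = 1) : g * g = 1 := by
  refine SubConj42.sl_sq_eq_one ?_
  haveI : ExpChar (Matrix (Fin 2) (Fin 2) F) 2 := inferInstance
  set A : Matrix (Fin 2) (Fin 2) F := (g : Matrix (Fin 2) (Fin 2) F) with hA
  have h1 : A ^ 2 ^ k = 1 := by
    rw [hA, ← Matrix.SpecialLinearGroup.coe_pow, h, Matrix.SpecialLinearGroup.coe_one]
  have h2 : IsNilpotent (A - 1) := ⟨2 ^ k, by
    rw [sub_pow_expChar_pow_of_commute 2 k (Commute.one_right A), one_pow, h1, sub_self]⟩
  have h3 := (Matrix.isNilpotent_trace_of_isNilpotent h2).eq_zero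
  rw [Matrix.trace_sub, Matrix.trace_one, Fintype.card_fin, Matrix.trace_fin_two] at h3
  have h4 : ((2 : ℕ) : F) = 0 := CharP.cast_eq_zero F 2
  rw [h4, sub_zero] at h3
  exact h3

theorem card_eq_two_pow : ∃ f : ℕ, 1 ≤ f ∧ Fintype.card F = 2 ^ f := by
  obtain ⟨n, -, hn⟩ := FiniteField.card F 2
  exact ⟨n, n.pos, hn⟩

theorem four_le_of_ne_two (h : Fintype.card F ≠ 2) : 4 ≤ Fintype.card F := by
  obtain ⟨f, hf, hF⟩ := card_eq_two_pow (F := F)
  rw [hF] at h ⊢
  rcases f with _ | _ | f
  · omega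
  · simp at h
  · calc 4 = 2 ^ 2 := rfl
      _ ≤ _ := Nat.pow_le_pow_right two_pos (by omega)

theorem sl_two_isSolvable (h : Fintype.card F = 2) :
    Group.IsSolvable (Matrix.SpecialLinearGroup (Fin 2) F) := by
  -- the group has order six and permutes its three involutions faithfully
  have hcard : Nat.card (Matrix.SpecialLinearGroup (Fin 2) F) = 6 := by
    rw [LinearGroup.card_SL_two, Nat.card_eq_fintype_card, h]; rfl
  haveI : Fact (Nat.Prime 3) := ⟨Nat.prime_three⟩
  obtain ⟨x, hx⟩ := exists_prime_orderOf_dvd_card' (G := Matrix.SpecialLinearGroup (Fin 2) F) 3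
    (by rw [hcard]; norm_num)
  have hidx : (zpowers x).index = 2 := by
    have h1 := (zpowers x).card_mul_index
    rw [Nat.card_zpowers, hx, hcard] at h1
    omega
  haveI := Subgroup.normal_of_index_eq_two hidx
  refine isSolvable_of_extension (zpowers x) ?_ ?_
  · exact Group.isSolvable_of_comm fun a b => mul_comm' a b
  · haveI : Fact (Nat.Prime 2) := ⟨Nat.prime_two⟩
    haveI : IsCyclic (Matrix.SpecialLinearGroup (Fin 2) F ⧸ zpowers x) :=
      isCyclic_of_prime_card (by rw [← index_eq_card, hidx])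
    exact Group.isSolvable_of_comm fun a b => by
      obtain ⟨g, hg⟩ := IsCyclic.exists_generator (α := _ ⧸ zpowers x)
      obtain ⟨i, rfl⟩ := mem_zpowers_iff.mp (hg a)
      obtain ⟨j, rfl⟩ := mem_zpowers_iff.mp (hg b)
      exact (Commute.zpow_zpow_self g i j).eq

theorem sl_perfect (h : 4 ≤ Fintype.card F) :
    commutator (Matrix.SpecialLinearGroup (Fin 2) F) = ⊤ := by
  refine LinearGroup.commutator_SL_eq_top' fun _ => ?_
  classical
  obtain ⟨a, ha⟩ : ∃ a : F, a ∉ ({0, 1} : Finset F) := by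
    by_contra hcon
    push Not at hcon
    have := Finset.card_le_card (s := (Finset.univ : Finset F)) fun a _ => hcon a
    rw [Finset.card_univ] at this
    have h2 : ({0, 1} : Finset F).card ≤ 2 := Finset.card_le_two
    omega
  simp only [Finset.mem_insert, Finset.mem_singleton, not_or] at ha
  refine ⟨a, ha.1, fun h2 => ha.2 ?_⟩
  have h3 : (a - 1) ^ 2 = 0 := by
    have h4 : (2 : F) = 0 := CharTwo.two_eq_zero
    linear_combination h2 + (1 - a) * h4
  exact sub_eq_zero.mp ((pow_eq_zero_iff two_ne_zero).mp h3)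

/-- A Sylow 2-subgroup of `SL(2, 2^f) × (odd)` has order `2^f`. -/
theorem card_two_part {B : Type*} [Group B] [Finite B] (hB : Odd (Nat.card B)) :
    2 ^ (Nat.card (Matrix.SpecialLinearGroup (Fin 2) F × B)).factorization 2 = Fintype.card F := by
  obtain ⟨f, hf, hF⟩ := card_eq_two_pow (F := F)
  rw [Nat.card_prod, LinearGroup.card_SL_two, Nat.card_eq_fintype_card, hF]
  have hpos : 0 < (2 ^ f) ^ 2 - 1 := by
    have : 2 ≤ 2 ^ f := by
      calc 2 = 2 ^ 1 := rfl
        _ ≤ _ := Nat.pow_le_pow_right two_pos hf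
    have : 4 ≤ (2 ^ f) ^ 2 := by
      calc 4 = 2 ^ 2 := rfl
        _ ≤ _ := Nat.pow_le_pow_left this 2
    omega
  have hodd : Odd (((2 ^ f) ^ 2 - 1) * Nat.card B) := by
    refine Odd.mul ?_ hB
    rw [Nat.odd_sub (by omega)]
    simp [Nat.even_pow]; omega
  rw [mul_assoc, Nat.factorization_mul (pow_ne_zero _ two_ne_zero)
    (Nat.mul_ne_zero hpos.ne' Nat.card_pos.ne'), Finsupp.add_apply, Nat.Prime.factorization_pow
    Nat.prime_two, Finsupp.single_eq_same, Nat.factorization_eq_zero_of_not_dvd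
    hodd.not_two_dvd_nat, add_zero]

end Cfsg.Agent.GenDih45
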